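import Cfsg.Agent.Lib.PSp43.Main
import Cfsg.Agent.Lib.Fusion.PSpFourSimple
import Cfsg.Agent.Lib.SympSimple
import Cfsg.Agent.Lib.U43Type.SLModel

/-!
Groups with the involution centraliser of PSp₄(3): the coordinates in `PSp₄(3)` itself.
-/

set_option autoImplicit false
set_option maxRecDepth 100000
set_option linter.unusedSectionVars false

namespace CfsgPSp43

open CfsgU43Type CfsgLib CfsgLib.PSpFour Matrix

variable {F : Type*} [Field F] [Fintype F]

local notation "SL2" => SpecialLinearGroup (Fin 2) F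
local notation "Sp4" => Matrix.symplecticGroup (Fin 2) F
local notation "PS" => Cfsg.PSp 2 F
local notation "π" => QuotientGroup.mk' (Subgroup.center (Matrix.symplecticGroup (Fin 2) F))

theorem slMat_neg : ∀ a : Fin 24, slMat (((a : ℕ) + 12) % 24) = -slMat a := by decide +kernel

theorem slMat_zero : slMat 0 = 1 := by decide +kernel

theorem center_code : ∀ x < 576,
    (!([48, 96, 192, 1].all fun g => mmul x g == mmul g x) || x == 0 || x == 24) = true := by
  decide +kernel

/-- The element of `SL(2,F)` with a code. -/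
noncomputable def slF (hF : Fintype.card F = 3) (a : ℕ) : SL2 :=
  Matrix.SpecialLinearGroup.map
    (ZMod.ringEquivOfPrime F Nat.prime_three hF : ZMod 3 →+* F)
    (slEl ⟨a % 24, Nat.mod_lt _ (by norm_num)⟩)

/-- The element of the diagonal subgroup with a code. -/
noncomputable def pk (hF : Fintype.card F = 3) (k : ℕ) : PS := π (dg (slF hF (k / 24), slF hF (k % 24)))

/-- The element of `PSp₄(3)` with a code. -/
noncomputable def phi0 (hF : Fintype.card F = 3) (x : ℕ) : PS := pk hF (x / 2) * (π sw) ^ (x % 2)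

variable (hF : Fintype.card F = 3)
include hF

theorem slF_mul {a b : ℕ} (ha : a < 24) (hb : b < 24) : slF hF (smul a b) = slF hF a * slF hF b := by
  unfold slF
  rw [← map_mul, ← slEl_mul]
  congr 2
  exact Fin.ext (by simp [Nat.mod_eq_of_lt ha, Nat.mod_eq_of_lt hb, Nat.mod_eq_of_lt (smul_lt a ha b hb)])

theorem slF_neg {a : ℕ} (ha : a < 24) : slF hF ((a + 12) % 24) = -slF hF a := by
  refine Subtype.ext ?_
  ext i j
  have h := congrFun (congrFun (slMat_neg ⟨a, ha⟩) i) j
  show (ZMod.ringEquivOfPrime F Nat.prime_three hF) (slMat ((a + 12) % 24 % 24) i j) =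
    -((ZMod.ringEquivOfPrime F Nat.prime_three hF) (slMat (a % 24) i j))
  rw [Nat.mod_mod, Nat.mod_eq_of_lt ha, ← map_neg]
  exact congrArg _ h

theorem slF_zero : slF hF 0 = 1 := by
  rw [slF, show slEl ⟨0 % 24, Nat.mod_lt _ (by norm_num)⟩ = 1 from Subtype.ext slMat_zero, map_one]

theorem slF_surj (A : SL2) : ∃ a < 24, slF hF a = A := by
  set ρ := ZMod.ringEquivOfPrime F Nat.prime_three hF with hρ
  obtain ⟨a, ha⟩ := slEl_bijective.2 (Matrix.SpecialLinearGroup.map (ρ.symm : F →+* ZMod 3) A)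
  refine ⟨a, a.2, ?_⟩
  rw [slF, show (⟨(a : ℕ) % 24, Nat.mod_lt _ (by norm_num)⟩ : Fin 24) = a from Fin.ext (Nat.mod_eq_of_lt a.2), ha]
  refine Subtype.ext ?_
  ext i j
  simp [← hρ]

theorem slF_inj {a b : ℕ} (ha : a < 24) (hb : b < 24) (h : slF hF a = slF hF b) : a = b := by
  set ρ := ZMod.ringEquivOfPrime F Nat.prime_three hF with hρ
  have hinj : Function.Injective (Matrix.SpecialLinearGroup.map (n := Fin 2) (ρ : ZMod 3 →+* F)) := fun A B e => by
    refine Subtype.ext ?_
    ext i j
    have := congrFun (congrFun (congrArg Subtype.val e) i) j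
    simpa using this
  have := congrArg Fin.val (slEl_bijective.1 (hinj h))
  simpa [Nat.mod_eq_of_lt ha, Nat.mod_eq_of_lt hb] using this

theorem odd_card : Fintype.card F % 2 = 1 := by rw [hF]

theorem pi_nu : π (nu : Sp4) = 1 := (QuotientGroup.eq_one_iff _).mpr nu_center

theorem pk_kc {a b : ℕ} (ha : a < 24) (hb : b < 24) : pk hF (kc a b) = π (dg (slF hF a, slF hF b)) := by
  unfold kc pk
  by_cases h : a < 12
  · rw [if_pos h, show (24 * a + b) / 24 = a by omega, show (24 * a + b) % 24 = b by omega]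
  · rw [if_neg h, show (24 * (a - 12) + (b + 12) % 24) / 24 = a - 12 by omega,
      show (24 * (a - 12) + (b + 12) % 24) % 24 = (b + 12) % 24 by omega, slF_neg hF hb]
    have e1 : slF hF (a - 12) = -slF hF a := by
      rw [← slF_neg hF ha, show (a + 12) % 24 = a - 12 by omega]
    rw [e1, ← nu_mul_dg, map_mul, pi_nu hF, one_mul]

theorem pk_mul {x y : ℕ} (hx : x < 288) (hy : y < 288) : pk hF (kmul x y) = pk hF x * pk hF y := by
  have h1 : x / 24 < 24 := by omega
  have h2 : y / 24 < 24 := by omega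
  have h3 : x % 24 < 24 := by omega
  have h4 : y % 24 < 24 := by omega
  unfold kmul
  rw [pk_kc hF (smul_lt _ h1 _ h2) (smul_lt _ h3 _ h4), slF_mul hF h1 h2, slF_mul hF h3 h4, ← Prod.mk_mul_mk, map_mul,
    map_mul]
  rfl

theorem sw_pk {k : ℕ} (hk : k < 288) : π sw * pk hF k = pk hF (swp k) * π sw := by
  unfold swp
  rw [pk_kc hF (Nat.mod_lt _ (by norm_num)) (by omega), pk, ← map_mul, ← map_mul, sw_dg]

theorem pi_sw_sq : π (sw : Sp4) * π sw = 1 := by rw [← map_mul, sw_sq, map_one]

theorem phi0_mul {x y : ℕ} (hx : x < 576) (hy : y < 576) : phi0 hF (mmul x y) = phi0 hF x * phi0 hF y := by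
  have hk : x / 2 < 288 := by omega
  have hk' : y / 2 < 288 := by omega
  have hswp : swp (y / 2) < 288 := by unfold swp; exact kc_lt _ (Nat.mod_lt _ (by norm_num)) _ (by omega)
  have hs : sact (x % 2) (y / 2) < 288 := by unfold sact; split_ifs <;> omega
  unfold phi0
  rw [show mmul x y / 2 = kmul (x / 2) (sact (x % 2) (y / 2)) by unfold mmul; omega,
    show mmul x y % 2 = (x % 2 + y % 2) % 2 by unfold mmul; omega, pk_mul hF hk hs]
  obtain e | e := Nat.mod_two_eq_zero_or_one x <;> obtain e' | e' := Nat.mod_two_eq_zero_or_one y <;>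
    simp only [e, e', sact, pow_zero, pow_one, mul_one, Nat.zero_add, Nat.add_zero, Nat.zero_mod, if_false, if_true,
      zero_ne_one, Nat.reduceAdd, Nat.reduceMod, mul_assoc]
  · rw [sw_pk hF hk']
  · rw [← mul_assoc (π sw), sw_pk hF hk', mul_assoc (pk hF (swp (y / 2))), pi_sw_sq hF, mul_one]

theorem phi0_inj {x y : ℕ} (hx : x < 576) (hy : y < 576) (h : phi0 hF x = phi0 hF y) : x = y := by
  have hodd := odd_card hF
  have key : ∀ k < 288, ∀ k' < 288, pk hF k = pk hF k' → k = k' := by
    intro k hk k' hk' e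
    have ha : k / 24 < 24 := by omega
    have ha' : k' / 24 < 24 := by omega
    have hb : k % 24 < 24 := by omega
    have hb' : k' % 24 < 24 := by omega
    rcases pi_eq hodd e with e | e
    · obtain ⟨e1, e2⟩ := Prod.mk.injEq .. ▸ dg_injective e
      have := slF_inj hF ha ha' e1
      have := slF_inj hF hb hb' e2
      omega
    · rw [nu_mul_dg, ← slF_neg hF ha', ← slF_neg hF hb'] at e
      obtain ⟨e1, -⟩ := Prod.mk.injEq .. ▸ dg_injective e
      have := slF_inj hF ha (Nat.mod_lt _ (by norm_num)) e1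
      omega
  have hne : ∀ k k', pk hF k ≠ pk hF k' * π sw := fun k k' e => by
    rw [pk, pk, ← map_mul] at e
    rcases pi_eq hodd e with e | e
    · exact dg_ne_dg_sw _ _ _ _ e
    · rw [← mul_assoc, nu_mul_dg] at e
      exact dg_ne_dg_sw _ _ _ _ e
  have hk : x / 2 < 288 := by omega
  have hk' : y / 2 < 288 := by omega
  unfold phi0 at h
  obtain e | e := Nat.mod_two_eq_zero_or_one x <;> obtain e' | e' := Nat.mod_two_eq_zero_or_one y <;>
    simp only [e, e', pow_zero, pow_one, mul_one] at h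
  · have := key _ hk _ hk' h; omega
  · exact absurd h (hne _ _)
  · exact absurd h.symm (hne _ _)
  · have := key _ hk _ hk' (mul_right_cancel h); omega

theorem phi0_z : phi0 hF 24 = π z0 := by
  unfold phi0
  rw [show 24 / 2 = 12 from rfl, show 24 % 2 = 0 from rfl, pow_zero, mul_one, pk, show 12 / 24 = 0 from rfl,
    show 12 % 24 = (0 + 12) % 24 from rfl, slF_neg hF (by norm_num), slF_zero hF]
  rw [show dg ((1 : SL2), (-1 : SL2)) = nu * z0 by rw [z0, nu_mul_dg, neg_neg], map_mul, pi_nu hF, one_mul]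

theorem phi0_cent (c : PS) : c * π z0 = π z0 * c ↔ ∃ x < 576, phi0 hF x = c := by
  constructor
  · intro h
    obtain ⟨g, rfl⟩ := QuotientGroup.mk'_surjective _ c
    rw [← map_mul, ← map_mul] at h
    have h2 := two_ne_zero' (odd_card hF)
    obtain ⟨A, B, C, D, hg⟩ := exists_bE g.1
    have hz : (z0 : Sp4).1 = bE (-1 : Matrix (Fin 2) (Fin 2) F) 0 0 1 := by
      rw [z0, dg_val, val_neg, val_one]
    have zero_of : ∀ M : Matrix (Fin 2) (Fin 2) F, M = -M → M = 0 := fun M e => by
      ext i j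
      have h' := congrFun (congrFun e i) j
      rw [Matrix.neg_apply, eq_neg_iff_add_eq_zero, ← two_mul] at h'
      exact (mul_eq_zero.1 h').resolve_left h2
    obtain ⟨a, b, r, hr, hgr⟩ : ∃ a b : SL2, ∃ r < 2, π g = π (dg (a, b)) * (π sw) ^ r := by
      rcases pi_eq (odd_card hF) h with e | e
      · have e' : g.1 * (z0 : Sp4).1 = (z0 : Sp4).1 * g.1 := congrArg Subtype.val e
        rw [hg, hz, bE_mul, bE_mul, bE_inj] at e'
        simp only [mul_neg, mul_one, mul_zero, add_zero, zero_add, neg_mul, one_mul, zero_mul] at e'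
        obtain ⟨-, eB, eC, -⟩ := e'
        have hB := zero_of B eB
        have hC := zero_of C eC.symm
        subst hB hC
        have hS : bE A 0 0 D ∈ Sp4 := hg ▸ g.2
        obtain ⟨dA, dD⟩ := diag_mem_iff hS
        refine ⟨⟨A, dA⟩, ⟨D, dD⟩, 0, by norm_num, ?_⟩
        rw [pow_zero, mul_one]
        exact congrArg π (Subtype.ext (hg.trans (dg_val (⟨A, dA⟩ : SL2) ⟨D, dD⟩).symm))
      · have e' : g.1 * (z0 : Sp4).1 = (nu : Sp4).1 * ((z0 : Sp4).1 * g.1) := congrArg Subtype.val e
        rw [hg, hz, nu_val, neg_one_mul, bE_mul, bE_mul, bE_neg, bE_inj] at e'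
        simp only [mul_neg, mul_one, mul_zero, add_zero, zero_add, neg_mul, one_mul, zero_mul, neg_neg] at e'
        obtain ⟨eA, -, -, eD⟩ := e'
        have hA := zero_of A eA.symm
        have hD := zero_of D eD
        subst hA hD
        have hv : (g * sw).1 = bE B 0 0 C := by
          show g.1 * (sw : Sp4).1 = _
          rw [hg, sw_val, bE_mul]
          simp
        have hS : bE B 0 0 C ∈ Sp4 := hv ▸ (g * sw).2
        obtain ⟨dB, dC⟩ := diag_mem_iff hS
        refine ⟨⟨B, dB⟩, ⟨C, dC⟩, 1, by norm_num, ?_⟩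
        rw [pow_one, ← map_mul, show dg ((⟨B, dB⟩ : SL2), (⟨C, dC⟩ : SL2)) = g * sw from
          Subtype.ext ((dg_val _ _).trans hv.symm), mul_assoc, sw_sq, mul_one]
    obtain ⟨i, hi, rfl⟩ := slF_surj hF a
    obtain ⟨j, hj, rfl⟩ := slF_surj hF b
    have hk := kc_lt i hi j hj
    refine ⟨2 * kc i j + r, by omega, ?_⟩
    rw [phi0, show (2 * kc i j + r) / 2 = kc i j by omega, show (2 * kc i j + r) % 2 = r by omega, pk_kc hF hi hj,
      ← hgr]
  · rintro ⟨x, hx, rfl⟩
    rw [← phi0_z hF, ← phi0_mul hF hx (by norm_num), ← phi0_mul hF (by norm_num) hx]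
    congr 1
    exact (by decide +kernel : ∀ x < 576, mmul x 24 = mmul 24 x) x hx

theorem card_PS : Nat.card PS = 25920 := by
  have h := Subgroup.card_eq_card_quotient_mul_card_subgroup (Subgroup.center Sp4)
  rw [SympTransvection.card_center (by norm_num : (1 : ℕ) ≤ 2), hF, Cfsg.Agent.S0245.result hF 2] at h
  norm_num [Finset.prod_range_succ] at h
  show Nat.card (Sp4 ⧸ Subgroup.center Sp4) = 25920
  omega

theorem noIdx_PS (H : Subgroup PS) : H.index ≠ 2 := by
  intro h
  haveI : IsSimpleGroup PS := CfsgLib.SympSimple.simple (le_refl 2) fun _ => by rw [hF]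
  haveI hn : H.Normal := Subgroup.normal_of_index_eq_two h
  rcases hn.eq_bot_or_eq_top with e | e
  · rw [e, Subgroup.index_bot, card_PS hF] at h; omega
  · rw [e, Subgroup.index_top] at h; omega

theorem dat0 : Dat (π z0 : PS) (phi0 hF) where
  mul x hx y hy := phi0_mul hF hx hy
  inj x hx y hy := phi0_inj hF hx hy
  cent := phi0_cent hF
  zc := phi0_z hF
  noIdx := noIdx_PS hF

end CfsgPSp43
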