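import Cfsg.Agent.Lib.PSp43.Model
import Cfsg.Agent.Lib.U43Type.Util
import Cfsg.Agent.Lib.U43Type.Checks
import Cfsg.Agent.Lib.U43Type.Two

/-!
Groups with the involution centraliser of PSp₄(3): coordinates, the Sylow subgroup and the transfer lemma.
-/

set_option autoImplicit false
set_option maxRecDepth 100000
set_option linter.unusedSectionVars false

namespace CfsgPSp43

open CfsgU43Type

theorem mmul_lt {x y : ℕ} (hx : x < 576) (hy : y < 576) : mmul x y < 576 := by
  have h : ∀ a < 24, ∀ b < 24, kc a b < 288 := by decide +kernel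
  have hs : ∀ a < 24, ∀ b < 24, smul a b < 24 := smul_lt
  have h2 : sact (x % 2) (y / 2) < 288 := by
    unfold sact swp
    split_ifs
    · exact h _ (by omega) _ (by omega)
    · omega
  have h3 : kmul (x / 2) (sact (x % 2) (y / 2)) < 288 := by
    unfold kmul
    exact h _ (hs _ (by omega) _ (by omega)) _ (hs _ (by omega) _ (by omega))
  unfold mmul
  omega

theorem minv_ok : ∀ x < 576, mmul (minv x) x = 0 ∧ minv x < 576 := by decide +kernel

theorem mconj_lt {g x : ℕ} (hg : g < 576) (hx : x < 576) : mconj g x < 576 :=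
  mmul_lt (mmul_lt hg hx) (minv_ok g hg).2

theorem el_lt (n : ℕ) : el n < 576 := by
  by_cases h : n < 16
  · revert n; decide
  · rw [el, List.getD_eq_default]
    · norm_num
    · simp [eTab]; omega

theorem el_mul : ∀ a < 16, ∀ b < 16, mmul (el a) (el b) = el (a ^^^ b) := by decide +kernel

theorem el_inj : ∀ a < 16, ∀ b < 16, el a = el b → a = b := by decide +kernel

theorem el_inS : ∀ a < 16, inS (el a) = true := by decide +kernel

theorem inS_closed : ((List.range 576).filter inS).all (fun x => ((List.range 576).filter inS).all fun y =>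
    inS (mmul x y)) = true := by decide +kernel

theorem inS_card : ((List.range 576).filter inS).length = 64 := by decide +kernel

theorem inS_center : ((List.range 576).filter inS).all (fun x => x == 0 || x == 24 ||
    ((List.range 576).filter inS).any fun y => mmul x y != mmul y x) = true := by decide +kernel

theorem few_commuting : ((List.range 576).filter inS).all (fun x => mmul x x != 0 || eTab.contains x ||
    decide ((((List.range 576).filter inS).filter fun y => mmul y y == 0 && mmul x y == mmul y x).length < 16)) =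
      true := by decide +kernel

theorem self_centralizing : ∀ x < 576,
    ([1, 2, 4, 8].all (fun n => mmul x (el n) == mmul (el n) x)) = true → eTab.contains x = true := by
  decide +kernel

/-- The coordinates on the centraliser of `z`, in a group without a subgroup of index two. -/
structure Dat {G : Type*} [Group G] (z : G) (φ : ℕ → G) : Prop where
  mul : ∀ x < 576, ∀ y < 576, φ (mmul x y) = φ x * φ y
  inj : ∀ x < 576, ∀ y < 576, φ x = φ y → x = y
  cent : ∀ c : G, c * z = z * c ↔ ∃ x < 576, φ x = c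
  zc : φ 24 = z
  noIdx : ∀ H : Subgroup G, H.index ≠ 2

variable {G : Type*} [Group G] {z : G} {φ : ℕ → G}

/-- The element of the elementary abelian subgroup with index `n`. -/
def e (φ : ℕ → G) (n : ℕ) : G := φ (el n)

namespace Dat

variable (D : Dat z φ)
include D

theorem one : φ 0 = 1 := by
  have e := D.mul 0 (by norm_num) 0 (by norm_num)
  rw [show mmul 0 0 = 0 by decide +kernel] at e
  exact mul_eq_left.1 e.symm

theorem inv {x : ℕ} (hx : x < 576) : φ (minv x) = (φ x)⁻¹ := by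
  obtain ⟨e, h⟩ := minv_ok x hx
  refine (inv_eq_of_mul_eq_one_left ?_).symm
  rw [← D.mul _ h _ hx, e, D.one]

theorem conj {g x : ℕ} (hg : g < 576) (hx : x < 576) : φ (mconj g x) = φ g * φ x * (φ g)⁻¹ := by
  rw [mconj, D.mul _ (mmul_lt hg hx) _ (minv_ok g hg).2, D.mul _ hg _ hx, D.inv hg]

theorem commute_iff {a b : ℕ} (ha : a < 576) (hb : b < 576) :
    φ a * φ b = φ b * φ a ↔ mmul a b = mmul b a := by
  rw [← D.mul _ ha _ hb, ← D.mul _ hb _ ha]
  exact ⟨D.inj _ (mmul_lt ha hb) _ (mmul_lt hb ha), congrArg φ⟩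

theorem sq_iff {a : ℕ} (ha : a < 576) : φ a * φ a = 1 ↔ mmul a a = 0 := by
  rw [← D.mul _ ha _ ha, ← D.one]
  exact ⟨D.inj _ (mmul_lt ha ha) _ (by norm_num), congrArg φ⟩

theorem eq_one_iff {a : ℕ} (ha : a < 576) : φ a = 1 ↔ a = 0 :=
  ⟨fun h => D.inj _ ha _ (by norm_num) (h.trans D.one.symm), fun h => h ▸ D.one⟩

theorem comm_z {x : ℕ} (hx : x < 576) : φ x * z = z * φ x := (D.cent _).2 ⟨x, hx, rfl⟩

theorem zz : z * z = 1 := by
  rw [← D.zc]
  exact (D.sq_iff (by norm_num)).2 (by decide +kernel)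

theorem e_zero : e φ 0 = 1 := D.one

theorem e_one : e φ 1 = z := D.zc

theorem e_mul {a b : ℕ} (ha : a < 16) (hb : b < 16) : e φ (a ^^^ b) = e φ a * e φ b := by
  rw [e, ← el_mul a ha b hb, D.mul _ (el_lt a) _ (el_lt b)]
  rfl

theorem e_inj {a b : ℕ} (ha : a < 16) (hb : b < 16) (h : e φ a = e φ b) : a = b :=
  el_inj a ha b hb (D.inj _ (el_lt a) _ (el_lt b) h)

theorem e_sq {a : ℕ} (ha : a < 16) : e φ a * e φ a = 1 := by
  rw [← D.e_mul ha ha, Nat.xor_self, D.e_zero]

theorem e_comm {a b : ℕ} (ha : a < 16) (hb : b < 16) : e φ a * e φ b = e φ b * e φ a := by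
  rw [← D.e_mul ha hb, ← D.e_mul hb ha, Nat.xor_comm]

/-- The elementary abelian subgroup of order 16. -/
def E : Subgroup G where
  carrier := {g | ∃ n < 16, e φ n = g}
  one_mem' := ⟨0, by norm_num, D.e_zero⟩
  mul_mem' := by
    rintro _ _ ⟨a, ha, rfl⟩ ⟨b, hb, rfl⟩
    exact ⟨a ^^^ b, Nat.xor_lt_two_pow (n := 4) ha hb, D.e_mul ha hb⟩
  inv_mem' := by
    rintro _ ⟨a, ha, rfl⟩
    exact ⟨a, ha, eq_inv_of_mul_eq_one_left (D.e_sq ha)⟩

theorem mem_E {g : G} : g ∈ D.E ↔ ∃ n < 16, e φ n = g := Iff.rfl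

theorem e_mem {n : ℕ} (h : n < 16) : e φ n ∈ D.E := ⟨n, h, rfl⟩

theorem card_E : Nat.card D.E = 16 := by
  refine (Nat.card_congr (Equiv.ofBijective (fun n : Fin 16 => (⟨e φ n, D.e_mem n.2⟩ : D.E)) ⟨?_, ?_⟩)).symm.trans
    (Nat.card_fin 16)
  · intro a b h
    exact Fin.ext (D.e_inj a.2 b.2 (congrArg Subtype.val h))
  · rintro ⟨g, n, hn, rfl⟩
    exact ⟨⟨n, hn⟩, rfl⟩

theorem E_comm {x y : G} (hx : x ∈ D.E) (hy : y ∈ D.E) : x * y = y * x := by
  obtain ⟨a, ha, rfl⟩ := hx
  obtain ⟨b, hb, rfl⟩ := hy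
  exact D.e_comm ha hb

theorem E_sq {x : G} (hx : x ∈ D.E) : x * x = 1 := by
  obtain ⟨a, ha, rfl⟩ := hx
  exact D.e_sq ha

theorem centralizer_E {g : G} (hg : ∀ x ∈ D.E, g * x = x * g) : g ∈ D.E := by
  obtain ⟨x, hx, rfl⟩ := (D.cent g).1 (by rw [← D.e_one]; exact hg _ (D.e_mem (by norm_num)))
  have h := self_centralizing x hx (List.all_eq_true.2 fun n hn => by
    have hn' : n < 16 := by simp only [List.mem_cons, List.not_mem_nil, or_false] at hn; omega
    exact beq_iff_eq.2 ((D.commute_iff hx (el_lt n)).1 (hg _ (D.e_mem hn'))))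
  obtain ⟨n, hn, rfl⟩ := List.mem_iff_getElem.1 (List.contains_iff_mem.1 h)
  exact ⟨n, hn, by rw [e, el, List.getD_eq_getElem?_getD, List.getElem?_eq_getElem hn]; rfl⟩

theorem range_eq : ∀ c, c ∈ Subgroup.centralizer ({z} : Set G) ↔ ∃ x < 576, φ x = c := fun c =>
  Subgroup.mem_centralizer_singleton_iff.trans (D.cent c)

theorem card_cent : Nat.card (Subgroup.centralizer ({z} : Set G)) = 576 := by
  refine (Nat.card_congr (Equiv.ofBijective
    (fun n : Fin 576 => (⟨φ n, (D.range_eq _).2 ⟨n, n.2, rfl⟩⟩ : Subgroup.centralizer ({z} : Set G))) ⟨?_, ?_⟩)).symm.trans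
    (Nat.card_fin 576)
  · intro a b h
    exact Fin.ext (D.inj _ a.2 _ b.2 (congrArg Subtype.val h))
  · rintro ⟨g, hg⟩
    obtain ⟨n, hn, rfl⟩ := (D.range_eq g).1 hg
    exact ⟨⟨n, hn⟩, rfl⟩

/-- The Sylow subgroup inside the centraliser. -/
def S : Subgroup G where
  carrier := {g | ∃ x, inS x = true ∧ φ x = g}
  one_mem' := ⟨0, by decide, D.one⟩
  mul_mem' := by
    rintro _ _ ⟨x, hx, rfl⟩ ⟨y, hy, rfl⟩
    have hx' : x < 576 := by simp only [inS, Bool.and_eq_true, decide_eq_true_eq] at hx; exact hx.1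
    have hy' : y < 576 := by simp only [inS, Bool.and_eq_true, decide_eq_true_eq] at hy; exact hy.1
    exact ⟨mmul x y, List.all_eq_true.1 (List.all_eq_true.1 inS_closed x (List.mem_filter.2
      ⟨List.mem_range.2 hx', hx⟩)) y (List.mem_filter.2 ⟨List.mem_range.2 hy', hy⟩), D.mul _ hx' _ hy'⟩
  inv_mem' := by
    rintro _ ⟨x, hx, rfl⟩
    have hx' : x < 576 := by simp only [inS, Bool.and_eq_true, decide_eq_true_eq] at hx; exact hx.1
    have h : ∀ x < 576, inS x = true → inS (minv x) = true := by decide +kernel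
    exact ⟨minv x, h x hx' hx, D.inv hx'⟩

omit D in
theorem lt_of_inS {x : ℕ} (hx : inS x = true) : x < 576 := by
  simp only [inS, Bool.and_eq_true, decide_eq_true_eq] at hx
  exact hx.1

theorem mem_S {g : G} : g ∈ D.S ↔ ∃ x, inS x = true ∧ φ x = g := Iff.rfl

theorem E_le_S : D.E ≤ D.S := by
  rintro _ ⟨n, hn, rfl⟩
  exact ⟨el n, el_inS n hn, rfl⟩

theorem S_le_cent : D.S ≤ Subgroup.centralizer ({z} : Set G) := by
  rintro _ ⟨x, hx, rfl⟩
  exact (D.range_eq _).2 ⟨x, lt_of_inS hx, rfl⟩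

theorem card_S : Nat.card D.S = 64 := by
  classical
  let L := (List.range 576).filter inS
  have hnd : L.Nodup := List.nodup_range.filter _
  refine (Nat.card_congr (Equiv.ofBijective (fun x : {x // x ∈ L.toFinset} => (⟨φ x.1, x.1,
    (List.mem_filter.1 (List.mem_toFinset.1 x.2)).2, rfl⟩ : D.S)) ⟨?_, ?_⟩)).symm.trans ?_
  · intro a b h
    exact Subtype.ext (D.inj _ (List.mem_range.1 (List.mem_filter.1 (List.mem_toFinset.1 a.2)).1) _
      (List.mem_range.1 (List.mem_filter.1 (List.mem_toFinset.1 b.2)).1) (congrArg Subtype.val h))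
  · rintro ⟨g, x, hx, rfl⟩
    exact ⟨⟨x, List.mem_toFinset.2 (List.mem_filter.2 ⟨List.mem_range.2 (lt_of_inS hx), hx⟩)⟩, rfl⟩
  · rw [Nat.card_eq_fintype_card, Fintype.card_coe, List.toFinset_card_of_nodup hnd]
    exact inS_card

theorem isPGroup_S : IsPGroup 2 D.S := IsPGroup.of_card (n := 6) (by rw [D.card_S]; norm_num)

section Fin

variable [Finite G]

/-- A 2-subgroup of the centraliser of `z` has order at most 64. -/
theorem card_two_le {P : Subgroup G} (hP : IsPGroup 2 P) (hle : P ≤ Subgroup.centralizer ({z} : Set G)) :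
    Nat.card P ≤ 64 := by
  haveI : Fact (Nat.Prime 2) := ⟨Nat.prime_two⟩
  obtain ⟨k, hk⟩ := IsPGroup.iff_card.1 hP
  have hd : 2 ^ k ∣ 2 ^ 6 * 9 := by
    rw [← hk, show 2 ^ 6 * 9 = Nat.card (Subgroup.centralizer ({z} : Set G)) by rw [D.card_cent]; norm_num]
    exact Subgroup.card_dvd_of_le hle
  have h : 2 ^ k ∣ 2 ^ 6 := (Nat.Coprime.pow_left k (by norm_num : Nat.Coprime 2 9)).dvd_of_dvd_mul_right hd
  rw [hk]
  exact Nat.le_of_dvd (by norm_num) h

theorem central_S {g : G} (hg : g ∈ D.S) (hc : ∀ x ∈ D.S, g * x = x * g) : g = 1 ∨ g = z := by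
  obtain ⟨x, hx, rfl⟩ := hg
  have h := List.all_eq_true.1 inS_center x (List.mem_filter.2 ⟨List.mem_range.2 (lt_of_inS hx), hx⟩)
  simp only [Bool.or_eq_true, beq_iff_eq, List.any_eq_true, List.mem_filter, List.mem_range, bne_iff_ne, ne_eq] at h
  rcases h with (h | h) | ⟨y, ⟨hy, hy'⟩, hne⟩
  · exact Or.inl (h ▸ D.one)
  · exact Or.inr (h ▸ D.zc)
  · exact absurd ((D.commute_iff (lt_of_inS hx) hy).1 (hc _ ⟨y, hy', rfl⟩)) hne

theorem S_normalizer {n : G} (hn : ∀ x, x ∈ D.S ↔ n * x * n⁻¹ ∈ D.S) : n * z * n⁻¹ = z := by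
  have hzS : z ∈ D.S := D.e_one ▸ D.E_le_S (D.e_mem (by norm_num))
  have hc : ∀ x ∈ D.S, n * z * n⁻¹ * x = x * (n * z * n⁻¹) := fun x hx => by
    have hy : n⁻¹ * x * n ∈ D.S := (hn _).2 (by rwa [show n * (n⁻¹ * x * n) * n⁻¹ = x by group])
    have hy' := Subgroup.mem_centralizer_singleton_iff.1 (D.S_le_cent hy)
    calc n * z * n⁻¹ * x = n * (z * (n⁻¹ * x * n)) * n⁻¹ := by group
      _ = n * ((n⁻¹ * x * n) * z) * n⁻¹ := by rw [hy']
      _ = x * (n * z * n⁻¹) := by group
  rcases D.central_S ((hn z).1 hzS) hc with h | h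
  · exfalso
    have : z = 1 := by
      calc z = n⁻¹ * (n * z * n⁻¹) * n := by group
        _ = 1 := by rw [h]; group
    exact absurd ((D.eq_one_iff (by norm_num)).1 (D.zc.trans this)) (by norm_num)
  · exact h

theorem S_maximal {P : Subgroup G} (hP : IsPGroup 2 P) (hle : D.S ≤ P) : P = D.S := by
  haveI : Fact (Nat.Prime 2) := ⟨Nat.prime_two⟩
  by_contra hne
  obtain ⟨n, hnP, hnS, hn⟩ := exists_normalizing hP hle (Ne.symm hne)
  have hnC : n ∈ Subgroup.centralizer ({z} : Set G) :=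
    Subgroup.mem_centralizer_singleton_iff.2 (mul_inv_eq_iff_eq_mul.1 (D.S_normalizer hn))
  have hlt : D.S < P ⊓ Subgroup.centralizer ({z} : Set G) :=
    lt_of_le_of_ne (le_inf hle D.S_le_cent) fun h => hnS (h ▸ ⟨hnP, hnC⟩)
  have h1 := D.card_two_le (hP.to_le inf_le_left) (inf_le_right (a := P))
  have h2 : Nat.card D.S < Nat.card (P ⊓ Subgroup.centralizer ({z} : Set G) : Subgroup G) :=
    lt_of_le_of_ne (Subgroup.card_le_of_le hlt.le) fun h => hlt.ne (Subgroup.eq_of_le_of_card_ge hlt.le h.ge)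
  rw [D.card_S] at h2
  omega

/-- The Sylow subgroup. -/
def sylow : Sylow 2 G :=
  { D.S with isPGroup' := D.isPGroup_S, is_maximal' := fun h1 h2 => D.S_maximal h1 h2 }

/-- Every 2-subgroup of the centraliser of `z` is conjugate there into the Sylow subgroup. -/
theorem conj_into_S {P : Subgroup G} (hP : IsPGroup 2 P) (hle : P ≤ Subgroup.centralizer ({z} : Set G)) :
    ∃ c ∈ Subgroup.centralizer ({z} : Set G), ∀ x ∈ P, c * x * c⁻¹ ∈ D.S := by
  haveI : Fact (Nat.Prime 2) := ⟨Nat.prime_two⟩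
  set C := Subgroup.centralizer ({z} : Set G) with hC
  obtain ⟨Q, hQ⟩ := IsPGroup.exists_le_sylow (P := P.subgroupOf C)
    (hP.of_equiv (Subgroup.subgroupOfEquivOfLe hle).symm)
  let SC : Sylow 2 C :=
    { D.S.subgroupOf C with
      isPGroup' := D.isPGroup_S.of_equiv (Subgroup.subgroupOfEquivOfLe D.S_le_cent).symm
      is_maximal' := fun {T} hT hle' => by
        have h := D.S_maximal (hT.map C.subtype) (fun x hx => ⟨⟨x, D.S_le_cent hx⟩, hle' hx, rfl⟩)
        refine le_antisymm (fun x hx => ?_) hle'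
        show (x : G) ∈ D.S
        rw [← h]
        exact ⟨x, hx, rfl⟩ }
  obtain ⟨c, hc⟩ := MulAction.exists_smul_eq C Q SC
  refine ⟨c, c.2, fun x hx => ?_⟩
  have hxQ : (⟨x, hle hx⟩ : C) ∈ Q := hQ hx
  have : c * ⟨x, hle hx⟩ * c⁻¹ ∈ SC := by
    rw [← hc]
    exact Subgroup.smul_mem_pointwise_smul _ (MulAut.conj c) _ hxQ
  exact this

/-- Every elementary abelian subgroup of order 16 of the centraliser is conjugate there to `E`. -/
theorem conj_to_E {P : Subgroup G} (hcard : Nat.card P = 16) (hsq : ∀ x ∈ P, x * x = 1)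
    (hle : P ≤ Subgroup.centralizer ({z} : Set G)) :
    ∃ c ∈ Subgroup.centralizer ({z} : Set G), (∀ x ∈ P, c * x * c⁻¹ ∈ D.E) ∧ ∀ y ∈ D.E, c⁻¹ * y * c ∈ P := by
  classical
  haveI : Fact (Nat.Prime 2) := ⟨Nat.prime_two⟩
  obtain ⟨c, hc, hcS⟩ := D.conj_into_S (IsPGroup.of_card (n := 4) (by rw [hcard]; norm_num)) hle
  have hcomm : ∀ x ∈ P, ∀ y ∈ P, x * y = y * x := fun x hx y hy => by
    have h := hsq _ (P.mul_mem hx hy)
    calc x * y = (x * y)⁻¹ := eq_inv_of_mul_eq_one_left h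
      _ = y * x := by
        rw [mul_inv_rev, ← eq_inv_of_mul_eq_one_left (hsq x hx), ← eq_inv_of_mul_eq_one_left (hsq y hy)]
  have hin : ∀ x ∈ P, c * x * c⁻¹ ∈ D.E := by
    intro x hx
    obtain ⟨a, ha, he⟩ := hcS x hx
    rw [← he]
    have hinj : ∀ y ∈ P, ∀ y' ∈ P, c * y * c⁻¹ = c * y' * c⁻¹ → y = y' := fun y _ y' _ h =>
      mul_left_cancel (mul_right_cancel h)
    have haa : mmul a a = 0 := (D.sq_iff (lt_of_inS ha)).1 (by
      rw [he, show c * x * c⁻¹ * (c * x * c⁻¹) = c * (x * x) * c⁻¹ by group, hsq x hx]; group)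
    have h := List.all_eq_true.1 few_commuting a (List.mem_filter.2 ⟨List.mem_range.2 (lt_of_inS ha), ha⟩)
    simp only [haa, bne_self_eq_false, Bool.false_or, Bool.or_eq_true, decide_eq_true_eq] at h
    rcases h with h | h
    · obtain ⟨n, hn, rfl⟩ := List.mem_iff_getElem.1 (List.contains_iff_mem.1 h)
      exact ⟨n, hn, by rw [e, el, List.getD_eq_getElem?_getD, List.getElem?_eq_getElem hn]; rfl⟩
    · exfalso
      set L := ((List.range 576).filter inS).filter fun y => mmul y y == 0 && mmul a y == mmul y a with hL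
      choose f hf hf' using fun y : P => hcS y y.2
      have hmem : ∀ y : P, f y ∈ L.toFinset := fun y => by
        rw [List.mem_toFinset, hL, List.mem_filter, List.mem_filter, List.mem_range, Bool.and_eq_true,
          beq_iff_eq, beq_iff_eq, ← D.sq_iff (lt_of_inS (hf y)), ← D.commute_iff (lt_of_inS ha) (lt_of_inS (hf y)),
          hf' y, he]
        refine ⟨⟨lt_of_inS (hf y), hf y⟩, ?_, ?_⟩
        · rw [show c * y * c⁻¹ * (c * y * c⁻¹) = c * ((y : G) * y) * c⁻¹ by group, hsq y y.2]; group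
        · calc c * x * c⁻¹ * (c * y * c⁻¹) = c * (x * y) * c⁻¹ := by group
            _ = c * (y * x) * c⁻¹ := by rw [hcomm x hx y y.2]
            _ = c * y * c⁻¹ * (c * x * c⁻¹) := by group
      have h16 : Nat.card P ≤ Nat.card {k // k ∈ L.toFinset} :=
        Nat.card_le_card_of_injective (fun y => ⟨f y, hmem y⟩) fun y y' hy => Subtype.ext
          (hinj _ y.2 _ y'.2 (by rw [← hf' y, ← hf' y', show f y = f y' from congrArg Subtype.val hy]))
      rw [hcard, Nat.card_eq_fintype_card, Fintype.card_coe] at h16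
      have := L.toFinset_card_le
      omega
  refine ⟨c, hc, hin, fun y hy => ?_⟩
  have hb : Function.Bijective (fun x : P => (⟨c * x * c⁻¹, hin x x.2⟩ : D.E)) := by
    refine (Nat.bijective_iff_injective_and_card _).2 ⟨fun a b h => Subtype.ext ?_, by rw [hcard, D.card_E]⟩
    exact mul_left_cancel (mul_right_cancel (congrArg Subtype.val h))
  obtain ⟨x, hx⟩ := hb.2 ⟨y, hy⟩
  have : c * (x : G) * c⁻¹ = y := congrArg Subtype.val hx
  rw [← this, show c⁻¹ * (c * (x : G) * c⁻¹) * c = x by group]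
  exact x.2

end Fin

end Dat

/-- The transfer at an involution whose conjugates inside have a single image. -/
theorem transfer_eq {M : Type*} [Group M] [Finite M] (P : Subgroup M) (hodd : Odd P.index) {A : Type*} [CommGroup A]
    (f : P →* A) {t : M} (ht : t * t = 1) (a : A) (ha : a * a = 1)
    (hS : ∀ y : P, IsConj t (y : M) → f y = a) : f.transfer t = a := by
  classical
  haveI := Fintype.ofFinite (Quotient (MulAction.orbitRel (Subgroup.zpowers t) (M ⧸ P)))
  rw [MonoidHom.transfer_eq_prod_quotient_orbitRel_zpowers_quot]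
  have hp : ∀ c : M ⧸ P, Function.minimalPeriod (t • ·) c = 1 ∨ Function.minimalPeriod (t • ·) c = 2 := fun c => by
    have h2 : Function.IsPeriodicPt (t • ·) 2 c := by
      show t • t • c = c
      rw [smul_smul, ht, one_smul]
    have := Nat.le_of_dvd two_pos h2.minimalPeriod_dvd
    have := h2.minimalPeriod_pos two_pos
    omega
  rw [Finset.prod_congr rfl (g := fun q => a ^ Function.minimalPeriod (t • ·) q.out) fun q _ => ?_,
    Finset.prod_pow_eq_pow_sum, ← Subgroup.index_eq_sum_minimalPeriod]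
  · obtain ⟨l, hl⟩ := hodd
    rw [hl, pow_succ, pow_mul, sq, ha, one_pow, one_mul]
  · rcases hp q.out with e | e
    · conv_rhs => rw [e, pow_one]
      refine hS _ (isConj_iff.mpr ⟨q.out.out⁻¹, ?_⟩)
      show _ = q.out.out⁻¹ * t ^ Function.minimalPeriod (t • ·) q.out * q.out.out
      rw [e, pow_one, inv_inv]
    · conv_rhs => rw [e, sq, ha]
      convert map_one f
      show q.out.out⁻¹ * t ^ Function.minimalPeriod (t • ·) q.out * q.out.out = 1
      rw [e, sq, ht, mul_one, inv_mul_cancel]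

/-- A transfer as a homomorphism on a subgroup of the ambient group. -/
theorem exists_transfer [Finite G] (M P : Subgroup G) (hP : P ≤ M) (hodd : Odd (P.subgroupOf M).index)
    (f : G → ℤˣ) (hf : ∀ x ∈ P, ∀ y ∈ P, f (x * y) = f x * f y) :
    ∃ χ : M →* ℤˣ, ∀ x (hx : x ∈ P), x * x = 1 →
      (∀ m ∈ M, m * x * m⁻¹ ∈ P → f (m * x * m⁻¹) = f x) → χ ⟨x, hP hx⟩ = f x := by
  let f' : P.subgroupOf M →* ℤˣ := MonoidHom.mk' (fun p => f ((p : M) : G)) fun p q => hf _ p.2 _ q.2
  refine ⟨f'.transfer, fun x hx hxx hc => transfer_eq _ hodd f' (Subtype.ext hxx) _ ?_ fun y hy => ?_⟩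
  · rcases Int.units_eq_one_or (f x) with h | h <;> rw [h] <;> rfl
  · obtain ⟨m, hm⟩ := isConj_iff.1 hy
    have hm' : (m : G) * x * (m : G)⁻¹ = ((y : M) : G) := congrArg Subtype.val hm
    show f ((y : M) : G) = f x
    rw [← hm']
    exact hc m m.2 (hm' ▸ y.2)

end CfsgPSp43
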