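import Cfsg.Agent.Lib.PSp43.Five
import Mathlib.GroupTheory.FixedPointFree

/-!
Groups with the involution centraliser of PSp₄(3): the centraliser of `u` lies in the normaliser of `E`.
-/

set_option autoImplicit false
set_option maxRecDepth 100000
set_option linter.unusedSectionVars false

namespace CfsgPSp43

open CfsgU43Type

open scoped Pointwise

/-- A maximal 2-subgroup has odd index. -/
theorem odd_index_of_max {G : Type*} [Group G] [Finite G] {M T : Subgroup G} (hT : IsPGroup 2 T) (hTM : T ≤ M)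
    (hmax : ∀ R : Subgroup G, IsPGroup 2 R → R ≤ M → T ≤ R → R = T) : Odd (T.subgroupOf M).index := by
  haveI : Fact (Nat.Prime 2) := ⟨Nat.prime_two⟩
  let TM : Sylow 2 M :=
    { T.subgroupOf M with
      isPGroup' := hT.of_equiv (Subgroup.subgroupOfEquivOfLe hTM).symm
      is_maximal' := fun {R} hR hle' => by
        have h := hmax (R.map M.subtype) (hR.map _) (fun _ ⟨y, _, hy⟩ => hy ▸ y.2)
          (fun x hx => ⟨⟨x, hTM hx⟩, hle' hx, rfl⟩)
        refine le_antisymm (fun x hx => ?_) hle'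
        show (x : G) ∈ T
        rw [← h]
        exact ⟨x, hx, rfl⟩ }
  rw [Nat.odd_iff, ← Nat.two_dvd_ne_zero]
  exact TM.not_dvd_index

/-- A functional on the indices as a character. -/
noncomputable def chr {G : Type*} (φ : ℕ → G) (F : ℕ → Bool) (g : G) : ℤˣ :=
  open Classical in if ∃ n < 16, F n = false ∧ φ (el n) = g then 1 else -1

/-- The first functional, invariant under the three-cycle. -/
def f1 (n : ℕ) : Bool := (n % 2 + n / 2 % 2 + n / 4 % 2 + n / 8 % 2) % 2 == 1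

/-- The second functional, invariant under the three-cycle. -/
def f2 (n : ℕ) : Bool := n / 8 % 2 == 1

theorem pList_facts : (((List.range 576).filter fun x => mmul x 50 == mmul 50 x).all fun x => inS x &&
      (eTab.contains x || mmul x x != 0 || (List.range 576).any fun c => mconj c 50 == x) &&
      (((List.range 576).filter fun x => mmul x 50 == mmul 50 x).all fun y =>
        eTab.contains (mmul x y) == (eTab.contains x == eTab.contains y))) = true ∧
    eTab.contains rCode = false := by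
  decide +kernel

theorem cent_mem : ∀ x < 576, (List.range 16).all (fun k => k == 0 || k == 1 || mmul x (el k) != mmul (el k) x ||
    (List.range 16).all fun n => eTab.contains (mconj x (el n))) = true := by
  decide +kernel

theorem r_moves : (five.all fun k => k == 1 || mmul rCode (el k) != mmul (el k) rCode) = true := by
  decide +kernel

theorem l60_u : (l60.all fun f => f.getD 4 16 != 4 || [idA, abcA, comp abcA abcA].contains f ||
      [idA, abcA, comp abcA abcA].contains (comp (act rCode) f)) = true ∧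
    (comp abcA (comp abcA abcA) = idA ∧ comp abcA abcA ≠ idA ∧ comp (comp abcA abcA) (comp abcA abcA) ≠ idA) := by
  decide +kernel

theorem abc_moves : ([1, 2, 7, 8, 13, 14].all fun k => abcA.getD k 16 != k && (comp abcA abcA).getD k 16 != k) = true := by
  decide +kernel

theorem f_facts : ∀ a < 16, f1 (abcA.getD a 16) = f1 a ∧ f2 (abcA.getD a 16) = f2 a ∧
    ∀ b < 16, f1 (a ^^^ b) = (f1 a != f1 b) ∧ f2 (a ^^^ b) = (f2 a != f2 b) := by
  decide +kernel

theorem act_r_W : (act rCode).getD 3 16 = 6 ∧ (act rCode).getD 5 16 = 5 ∧ (act rCode).getD 6 16 = 3 ∧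
    (act rCode).getD 4 16 = 4 := by
  decide +kernel

variable {G : Type*} [Group G] {z : G} {φ : ℕ → G} [Finite G] {o : G}

namespace Dat

variable (D : Dat z φ)
include D

theorem E_unique {P : Subgroup G} (hcard : Nat.card P = 16) (hsq : ∀ x ∈ P, x * x = 1) (hle : P ≤ D.S) :
    P = D.E := by
  classical
  refine Subgroup.eq_of_le_of_card_ge (fun x hx => ?_) (by rw [hcard, D.card_E])
  obtain ⟨a, ha, rfl⟩ := hle hx
  have hcomm : ∀ y ∈ P, φ a * y = y * φ a := fun y hy => by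
    have h := hsq _ (P.mul_mem hx hy)
    calc φ a * y = (φ a * y)⁻¹ := eq_inv_of_mul_eq_one_left h
      _ = y * φ a := by
        rw [mul_inv_rev, ← eq_inv_of_mul_eq_one_left (hsq _ hx), ← eq_inv_of_mul_eq_one_left (hsq y hy)]
  have haa : mmul a a = 0 := (D.sq_iff (lt_of_inS ha)).1 (hsq _ hx)
  have h := List.all_eq_true.1 few_commuting a (List.mem_filter.2 ⟨List.mem_range.2 (lt_of_inS ha), ha⟩)
  simp only [haa, bne_self_eq_false, Bool.false_or, Bool.or_eq_true, decide_eq_true_eq] at h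
  rcases h with h | h
  · obtain ⟨n, hn, rfl⟩ := List.mem_iff_getElem.1 (List.contains_iff_mem.1 h)
    exact ⟨n, hn, by rw [e, el, List.getD_eq_getElem?_getD, List.getElem?_eq_getElem hn]; rfl⟩
  · exfalso
    set L := ((List.range 576).filter inS).filter fun y => mmul y y == 0 && mmul a y == mmul y a with hL
    choose f hf hf' using fun y : P => hle y.2
    have hmem : ∀ y : P, f y ∈ L.toFinset := fun y => by
      rw [List.mem_toFinset, hL, List.mem_filter, List.mem_filter, List.mem_range, Bool.and_eq_true,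
        beq_iff_eq, beq_iff_eq, ← D.sq_iff (lt_of_inS (hf y)), ← D.commute_iff (lt_of_inS ha) (lt_of_inS (hf y)),
        hf' y]
      exact ⟨⟨lt_of_inS (hf y), hf y⟩, hsq y y.2, hcomm y y.2⟩
    have h16 : Nat.card P ≤ Nat.card {k // k ∈ L.toFinset} :=
      Nat.card_le_card_of_injective (fun y => ⟨f y, hmem y⟩) fun y y' hy => Subtype.ext
        (by rw [← hf' y, ← hf' y', show f y = f y' from congrArg Subtype.val hy])
    rw [hcard, Nat.card_eq_fintype_card, Fintype.card_coe] at h16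
    have := L.toFinset_card_le
    omega

theorem acts_inv {g : G} {f : List ℕ} (hf : Acts φ g f) {h : G} (hh : Acts φ h f) : g * h⁻¹ ∈ D.E := by
  obtain ⟨fi, hfi⟩ := D.acts_exists (inv_mem (D.acts_mem hh))
  have h1 := D.acts_mul hf hfi
  rw [D.acts_unique (D.acts_mul hh hfi) (by rw [mul_inv_cancel]; exact D.acts_id)] at h1
  exact D.mem_E_of_acts h1

theorem chr_e (F : ℕ → Bool) {n : ℕ} (hn : n < 16) : chr φ F (e φ n) = if F n = false then 1 else -1 := by
  classical
  unfold chr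
  by_cases h : F n = false
  · rw [if_pos h, if_pos ⟨n, hn, h, rfl⟩]
  · rw [if_neg h, if_neg]
    rintro ⟨m, hm, hm', he⟩
    exact h (D.e_inj hm hn he ▸ hm')

end Dat

namespace Cfg

variable (K : Cfg z φ o)
include K

theorem o_u : o * φ 50 * o⁻¹ = φ 50 := (K.acts.2 4 (by norm_num)).2

theorem o_ne : ∀ x ∈ K.dat.E, o ≠ x := fun x hx h =>
  absurd (K.dat.acts_unique K.acts (h ▸ K.dat.acts_E hx)) (by decide)

theorem fused_five {k : ℕ} (hk : k < 16) {g : G} (hg : g * z * g⁻¹ = e φ k) : k ∈ five :=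
  (K.dat.orb_five K.orb hk).1 (K.dat.fuse hk hg)

theorem u_not_z (g : G) : g * z * g⁻¹ ≠ φ 50 := fun h =>
  absurd (K.fused_five (k := 4) (by norm_num) h) (by decide)

/-- The centraliser of a point and of another element of `E` normalises `E`. -/
theorem point_cent {p k : ℕ} (hp : p ∈ five) (hk : k < 16) (h0 : k ≠ 0) (hne : k ≠ p) {x : G}
    (hxp : x * e φ p = e φ p * x) (hxk : x * e φ k = e φ k * x) : x ∈ K.dat.N := by
  have hp' : p < 16 := by simp only [five, List.mem_cons, List.not_mem_nil, or_false] at hp; omega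
  obtain ⟨m, f, hf, hfp⟩ := (K.dat.orb_five K.orb hp').2 hp
  have hmN := K.dat.acts_mem hf
  have hz := (hf.2 1 (by norm_num)).2
  rw [hfp, K.dat.e_one] at hz
  obtain ⟨j, hj, hje⟩ := (Subgroup.mem_normalizer_iff.1 (inv_mem hmN) _).1 (K.dat.e_mem hk)
  rw [inv_inv] at hje
  have hyz : m⁻¹ * x * m * z = z * (m⁻¹ * x * m) := by
    rw [← hz] at hxp
    calc m⁻¹ * x * m * z = m⁻¹ * (x * (m * z * m⁻¹)) * m := by group
      _ = m⁻¹ * ((m * z * m⁻¹) * x) * m := by rw [hxp]
      _ = z * (m⁻¹ * x * m) := by group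
  have hyk : m⁻¹ * x * m * e φ j = e φ j * (m⁻¹ * x * m) := by
    rw [hje]
    calc m⁻¹ * x * m * (m⁻¹ * e φ k * m) = m⁻¹ * (x * e φ k) * m := by group
      _ = m⁻¹ * (e φ k * x) * m := by rw [hxk]
      _ = m⁻¹ * e φ k * m * (m⁻¹ * x * m) := by group
  obtain ⟨y, hy, hye⟩ := (K.dat.cent _).1 hyz
  rw [← hye, e, K.dat.commute_iff hy (el_lt j)] at hyk
  have h := of_range_all (cent_mem y hy) hj
  have hj0 : j ≠ 0 := fun e0 => h0 (K.dat.e_inj hk (by norm_num) (by
    rw [e0, K.dat.e_zero] at hje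
    rw [K.dat.e_zero, show e φ k = m * (m⁻¹ * e φ k * m) * m⁻¹ by group, ← hje]; group))
  have hj1 : j ≠ 1 := fun e1 => hne (K.dat.e_inj hk hp' (by
    rw [e1, K.dat.e_one] at hje
    rw [← hz, hje]; group))
  simp only [Bool.or_eq_true, beq_iff_eq, bne_iff_ne, ne_eq, hj0, hj1, hyk, not_true, false_or,
    List.all_eq_true, List.mem_range] at h
  have hyN := K.dat.acts_mem (K.dat.acts_model hy fun n hn => List.contains_iff_mem.1 (h n hn))
  rw [hye] at hyN
  have := mul_mem (mul_mem hmN hyN) (inv_mem hmN)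
  rwa [show m * (m⁻¹ * x * m) * m⁻¹ = x by group] at this

theorem no_three {x : G} (h3 : x * (x * x) = 1) {P : Subgroup G} (hP : IsPGroup 2 P) (hx : x ∈ P) : x = 1 := by
  obtain ⟨k, hk⟩ := hP ⟨x, hx⟩
  have hk' : x ^ 2 ^ k = 1 := congrArg Subtype.val hk
  have h3' : x ^ 3 = 1 := by rw [pow_succ', pow_two]; exact h3
  have := (Nat.Coprime.pow_left k (by norm_num : Nat.Coprime 2 3))
  have hd : orderOf x ∣ Nat.gcd (2 ^ k) 3 := Nat.dvd_gcd (orderOf_dvd_of_pow_eq_one hk')
    (orderOf_dvd_of_pow_eq_one h3')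
  rw [this, Nat.dvd_one] at hd
  exact orderOf_eq_one_iff.1 hd

/-- The centraliser of `u` normalises `E`. -/
theorem centralizer_u {g : G} (hg : g * φ 50 = φ 50 * g) : g ∈ K.dat.N := by
  classical
  haveI : Fact (Nat.Prime 2) := ⟨Nat.prime_two⟩
  have D := K.dat
  set M := Subgroup.centralizer ({φ 50} : Set G) with hM
  set P := M ⊓ Subgroup.centralizer ({z} : Set G) with hP'
  have hgM : g ∈ M := Subgroup.mem_centralizer_singleton_iff.2 hg
  obtain ⟨pfacts, hrE⟩ := pList_facts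
  have hrE' : φ rCode ∉ D.E := by
    rintro ⟨n, hn, he⟩
    rw [List.contains_eq_mem, decide_eq_false_iff_not] at hrE
    refine hrE ?_
    rw [← D.inj _ (el_lt n) _ (by decide) he, el, List.getD_eq_getElem?_getD,
      List.getElem?_eq_getElem (lt_of_lt_of_eq hn rfl : n < eTab.length), Option.getD_some]
    exact List.getElem_mem _
  -- the subgroup `P`
  have hPc : ∀ {x}, x ∈ P → ∃ a < 576, φ a = x ∧
      a ∈ (List.range 576).filter (fun a => mmul a 50 == mmul 50 a) := by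
    intro x hx
    obtain ⟨a, ha, rfl⟩ := (D.range_eq x).1 hx.2
    exact ⟨a, ha, rfl, List.mem_filter.2 ⟨List.mem_range.2 ha, beq_iff_eq.2 ((D.commute_iff ha (by norm_num)).1
      (Subgroup.mem_centralizer_singleton_iff.1 hx.1))⟩⟩
  have hPS : P ≤ D.S := fun x hx => by
    obtain ⟨a, -, rfl, hm⟩ := hPc hx
    have := List.all_eq_true.1 pfacts a hm
    simp only [Bool.and_eq_true] at this
    exact ⟨a, this.1.1, rfl⟩
  have hP2 : IsPGroup 2 P := D.isPGroup_S.to_le hPS
  have hEM : D.E ≤ M := fun x hx =>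
    Subgroup.mem_centralizer_singleton_iff.2 (D.E_comm hx (D.e_mem (n := 4) (by norm_num)))
  have hEC : D.E ≤ Subgroup.centralizer ({z} : Set G) := fun x hx =>
    Subgroup.mem_centralizer_singleton_iff.2 (by rw [← D.e_one]; exact D.E_comm hx (D.e_mem (by norm_num)))
  have hEP : D.E ≤ P := le_inf hEM hEC
  have hrP : φ rCode ∈ P := ⟨Subgroup.mem_centralizer_singleton_iff.2
    ((D.commute_iff (by decide) (by norm_num)).2 (by decide +kernel)), (D.range_eq _).2 ⟨_, by decide, rfl⟩⟩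
  have hrM : φ rCode ∈ M := hrP.1
  have hoM : o ∈ M := Subgroup.mem_centralizer_singleton_iff.2 (mul_inv_eq_iff_eq_mul.1 K.o_u)
  have hmemE : ∀ {a}, a < 576 → eTab.contains a = true → φ a ∈ D.E := fun {a} ha h => by
    obtain ⟨n, hn, rfl⟩ := List.mem_iff_getElem.1 (List.contains_iff_mem.1 h)
    exact ⟨n, hn, by rw [e, el, List.getD_eq_getElem?_getD, List.getElem?_eq_getElem hn]; rfl⟩
  have hEmem : ∀ {a}, a < 576 → φ a ∈ D.E → eTab.contains a = true := fun {a} ha h => by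
    obtain ⟨n, hn, he⟩ := h
    refine List.contains_iff_mem.2 ?_
    rw [← D.inj _ (el_lt n) _ ha he, el, List.getD_eq_getElem?_getD,
      List.getElem?_eq_getElem (lt_of_lt_of_eq hn rfl : n < eTab.length), Option.getD_some]
    exact List.getElem_mem _
  have hPu : ∀ {x}, x ∈ P → x * x = 1 → x ∉ D.E → ∃ c, x = c * φ 50 * c⁻¹ := by
    intro x hx hxx hxE
    obtain ⟨a, ha, rfl, hm⟩ := hPc hx
    have h := List.all_eq_true.1 pfacts a hm
    simp only [Bool.and_eq_true, Bool.or_eq_true, bne_iff_ne, ne_eq, List.any_eq_true, List.mem_range,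
      beq_iff_eq, (D.sq_iff ha).1 hxx, not_true, or_false] at h
    rcases h.1.2 with h' | ⟨c, hc, rfl⟩
    · exact absurd (hmemE ha h') hxE
    · exact ⟨φ c, D.conj hc (by norm_num)⟩
  have hnormP : ∀ {n x}, n ∈ M → (∀ y ∈ D.E, n * y * n⁻¹ ∈ P) → x ∈ D.E → n * x * n⁻¹ ∈ D.E := by
    intro n x hn h hx
    have heq : D.E.map (MulAut.conj n).toMonoidHom = D.E := D.E_unique
      (by rw [Subgroup.card_map_of_injective (MulAut.conj n).injective, D.card_E])
      (by rintro _ ⟨y, hy, rfl⟩; rw [← map_mul, D.E_sq hy, map_one])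
      (by rintro _ ⟨y, hy, rfl⟩; exact hPS (h y hy))
    rw [← heq]
    exact ⟨x, hx, rfl⟩
  have hPmax : ∀ R : Subgroup G, IsPGroup 2 R → R ≤ M → P ≤ R → R = P := by
    intro R hR hRM hle
    by_contra hne
    obtain ⟨n, hnR, hnP, hn⟩ := exists_normalizing hR hle (Ne.symm hne)
    have hnN : n ∈ D.N := mem_norm_of_conj fun x hx =>
      hnormP (hRM hnR) (fun y hy => (hn y).1 (hEP hy)) hx
    obtain ⟨f, hf⟩ := D.acts_exists hnN
    have h15 := D.acts_five K.orb hf (k := 1) (by simp [five])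
    have hlt := (hf.2 1 (by norm_num)).1
    have hcomm : φ rCode * e φ (f.getD 1 16) = e φ (f.getD 1 16) * φ rCode := by
      rw [← (hf.2 1 (by norm_num)).2, D.e_one]
      have hy : n⁻¹ * φ rCode * n ∈ P := (hn _).2 (by rwa [show n * (n⁻¹ * φ rCode * n) * n⁻¹ = φ rCode by group])
      have hy' := Subgroup.mem_centralizer_singleton_iff.1 hy.2
      calc φ rCode * (n * z * n⁻¹) = n * (n⁻¹ * φ rCode * n * z) * n⁻¹ := by group
        _ = n * (z * (n⁻¹ * φ rCode * n)) * n⁻¹ := by rw [hy']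
        _ = n * z * n⁻¹ * φ rCode := by group
    have h := List.all_eq_true.1 r_moves _ h15
    rw [e, D.commute_iff (by decide) (el_lt _)] at hcomm
    simp only [Bool.or_eq_true, beq_iff_eq, bne_iff_ne, ne_eq, hcomm, not_true, or_false] at h
    have hz := (hf.2 1 (by norm_num)).2
    rw [h, D.e_one] at hz
    exact hnP ⟨hRM hnR, Subgroup.mem_centralizer_singleton_iff.2 (mul_inv_eq_iff_eq_mul.1 hz)⟩
  -- no involution of `P` outside `E` is conjugate in `M` into `E`
  have hsep : ∀ {x m}, x ∈ P → x * x = 1 → x ∉ D.E → m ∈ M → m * x * m⁻¹ ∉ D.E := by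
    intro x m hx hxx hxE hm hy
    set y := m * x * m⁻¹ with hydef
    set My := M ⊓ Subgroup.centralizer ({y} : Set G) with hMy
    have hEMy : D.E ≤ My := le_inf hEM fun w hw =>
      Subgroup.mem_centralizer_singleton_iff.2 (D.E_comm hw hy)
    obtain ⟨T, hT⟩ := IsPGroup.exists_le_sylow (p := 2) (P := D.E.subgroupOf My)
      ((IsPGroup.of_card (p := 2) (n := 4) (by rw [D.card_E]; norm_num)).of_equiv (Subgroup.subgroupOfEquivOfLe hEMy).symm)
    let T' : Subgroup G := (T : Subgroup My).map My.subtype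
    have hT'le : T' ≤ My := fun _ ⟨w, _, hw⟩ => hw ▸ w.2
    have hET' : D.E ≤ T' := fun w hw => ⟨⟨w, hEMy hw⟩, hT hw, rfl⟩
    have hT'max : ∀ R : Subgroup G, IsPGroup 2 R → R ≤ My → T' ≤ R → R = T' := by
      intro R hR hRle hle
      have := T.is_maximal' (Q := R.subgroupOf My) (hR.of_equiv (Subgroup.subgroupOfEquivOfLe hRle).symm)
        (fun w hw => hle ⟨w, hw, rfl⟩)
      refine le_antisymm (fun w hw => ⟨⟨w, hRle hw⟩, ?_, rfl⟩) hle
      show _ ∈ (T : Subgroup My)
      rw [← this]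
      exact hw
    have hT'2 : IsPGroup 2 T' := T.2.map _
    have hzxM : m * z * m⁻¹ ∈ My := by
      refine Subgroup.mem_inf.2 ⟨mul_mem (mul_mem hm (hEM (D.e_one ▸ D.e_mem (n := 1) (by norm_num)))) (inv_mem hm),
        Subgroup.mem_centralizer_singleton_iff.2 ?_⟩
      have hxz := Subgroup.mem_centralizer_singleton_iff.1 hx.2
      rw [hydef, show m * z * m⁻¹ * (m * x * m⁻¹) = m * (z * x) * m⁻¹ by group, ← hxz]
      group
    let Z : Subgroup G := (P ⊓ Subgroup.centralizer ({x} : Set G)).map (MulAut.conj m).toMonoidHom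
    obtain ⟨h, hh, hhT⟩ := conj_into hT'2 hT'le hT'max ((hP2.to_le inf_le_left).map _ : IsPGroup 2 Z) (by
      rintro _ ⟨w, ⟨hwP, hwx⟩, rfl⟩
      refine Subgroup.mem_inf.2 ⟨mul_mem (mul_mem hm hwP.1) (inv_mem hm), Subgroup.mem_centralizer_singleton_iff.2 ?_⟩
      show m * w * m⁻¹ * y = y * (m * w * m⁻¹)
      rw [hydef, show m * w * m⁻¹ * (m * x * m⁻¹) = m * (w * x) * m⁻¹ by group,
        Subgroup.mem_centralizer_singleton_iff.1 hwx]
      group)
    obtain ⟨h', hh', hh'T⟩ := conj_into hP2 inf_le_left hPmax hT'2 (hT'le.trans inf_le_left)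
    have hh'N : h' ∈ D.N := mem_norm_of_conj fun w hw => hnormP hh' (fun y' hy' => hh'T _ (hET' hy')) hw
    have hzZ : z ∈ P ⊓ Subgroup.centralizer ({x} : Set G) :=
      ⟨hEP (D.e_one ▸ D.e_mem (n := 1) (by norm_num)), Subgroup.mem_centralizer_singleton_iff.2
        (Subgroup.mem_centralizer_singleton_iff.1 hx.2).symm⟩
    have hpP : h' * (h * (m * z * m⁻¹) * h⁻¹) * h'⁻¹ ∈ P := hh'T _ (hhT _ ⟨z, hzZ, rfl⟩)
    set w := h' * h * m with hwdef
    have hwz : w * z * w⁻¹ ∈ P := by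
      rw [hwdef, show h' * h * m * z * (h' * h * m)⁻¹ = h' * (h * (m * z * m⁻¹) * h⁻¹) * h'⁻¹ by group]
      exact hpP
    have hwE : w * z * w⁻¹ ∈ D.E := by
      by_contra hne
      obtain ⟨c, hc⟩ := hPu hwz (by rw [show w * z * w⁻¹ * (w * z * w⁻¹) = w * (z * z) * w⁻¹ by group, D.zz]; group) hne
      refine K.u_not_z (c⁻¹ * w) ?_
      rw [show c⁻¹ * w * z * (c⁻¹ * w)⁻¹ = c⁻¹ * (w * z * w⁻¹) * c by group, hc]
      group
    obtain ⟨p, hp, hpe⟩ := hwE
    have hp5 := K.fused_five hp hpe.symm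
    have hwM : w ∈ M := mul_mem (mul_mem hh' hh.1) hm
    have hwy : w * x * w⁻¹ ∈ D.E := by
      have hy' := Subgroup.mem_centralizer_singleton_iff.1 hh.2
      rw [hwdef, show h' * h * m * x * (h' * h * m)⁻¹ = h' * (h * y * h⁻¹) * h'⁻¹ by rw [hydef]; group,
        hy', mul_inv_cancel_right]
      exact (Subgroup.mem_normalizer_iff.1 hh'N _).1 hy
    have hd : p ∉ [11, 15] := by
      intro hd
      have hop : o * e φ p * o⁻¹ = e φ p := by
        have := (K.acts.2 p hp).2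
        have hf : ∀ q ∈ [11, 15], abcA.getD q 16 = q := by decide
        rwa [hf p hd] at this
      have h1 : w⁻¹ * o * w ∈ P := by
        refine Subgroup.mem_inf.2 ⟨mul_mem (mul_mem (inv_mem hwM) hoM) hwM, Subgroup.mem_centralizer_singleton_iff.2 ?_⟩
        rw [hpe] at hop
        calc w⁻¹ * o * w * z = w⁻¹ * (o * (w * z * w⁻¹)) * w := by group
          _ = w⁻¹ * ((w * z * w⁻¹) * o) * w := by rw [mul_inv_eq_iff_eq_mul.1 hop]
          _ = z * (w⁻¹ * o * w) := by group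
      have h2 : w⁻¹ * o * w = 1 := K.no_three (by
        rw [show w⁻¹ * o * w * (w⁻¹ * o * w * (w⁻¹ * o * w)) = w⁻¹ * (o * (o * o)) * w by group, K.cube]; group)
        hP2 h1
      exact K.o_ne 1 (one_mem _) (by
        rw [show o = w * (w⁻¹ * o * w) * w⁻¹ by group, h2]; group)
    obtain ⟨k, hkM, hkN, hk1⟩ : ∃ k ∈ M, k ∈ D.N ∧ k * e φ p * k⁻¹ = z := by
      have h1 := (K.acts.2 1 (by norm_num)).2
      have h2 := (K.acts.2 2 (by norm_num)).2
      rw [show abcA.getD 1 16 = 2 from rfl, D.e_one] at h1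
      rw [show abcA.getD 2 16 = 7 from rfl] at h2
      simp only [five, List.mem_cons, List.not_mem_nil, or_false] at hp5 hd
      obtain rfl | rfl | rfl : p = 1 ∨ p = 2 ∨ p = 7 := by omega
      · exact ⟨1, one_mem _, one_mem _, by rw [D.e_one]; group⟩
      · exact ⟨o⁻¹, inv_mem hoM, inv_mem (D.acts_mem K.acts), by rw [← h1]; group⟩
      · refine ⟨(o * o)⁻¹, inv_mem (mul_mem hoM hoM), inv_mem (mul_mem (D.acts_mem K.acts) (D.acts_mem K.acts)), ?_⟩
        rw [← h2, ← h1]; group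
    have hkwP : k * w ∈ P := ⟨mul_mem hkM hwM, Subgroup.mem_centralizer_singleton_iff.2 (by
      rw [hpe] at hk1
      refine mul_inv_eq_iff_eq_mul.1 ?_
      rw [show k * w * z * (k * w)⁻¹ = k * (w * z * w⁻¹) * k⁻¹ by group]; exact hk1)⟩
    have hin : k * w * x * (k * w)⁻¹ ∈ D.E := by
      rw [show k * w * x * (k * w)⁻¹ = k * (w * x * w⁻¹) * k⁻¹ by group]
      exact (Subgroup.mem_normalizer_iff.1 hkN _).1 hwy
    exact hxE ((Subgroup.mem_normalizer_iff.1 (D.S_le_N (hPS hkwP)) x).2 hin)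
  -- first transfer
  let fP : G → ℤˣ := fun w => if w ∈ D.E then 1 else -1
  have hfP : ∀ x ∈ P, ∀ y ∈ P, fP (x * y) = fP x * fP y := by
    intro x hx y hy
    obtain ⟨a, ha, rfl, hma⟩ := hPc hx
    obtain ⟨b, hb, rfl, hmb⟩ := hPc hy
    have h := List.all_eq_true.1 pfacts a hma
    simp only [Bool.and_eq_true] at h
    have h' := beq_iff_eq.1 (List.all_eq_true.1 h.2 b hmb)
    rw [← D.mul _ ha _ hb]
    have key : ∀ c < 576, fP (φ c) = if eTab.contains c = true then 1 else -1 := fun c hc => by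
      by_cases hcE : eTab.contains c = true
      · rw [if_pos hcE]; exact if_pos (hmemE hc hcE)
      · rw [if_neg hcE]; exact if_neg fun h => hcE (hEmem hc h)
    rw [key _ (mmul_lt ha hb), key _ ha, key _ hb, h']
    cases eTab.contains a <;> cases eTab.contains b <;> decide
  obtain ⟨χ, hχ⟩ := exists_transfer M P inf_le_left (odd_index_of_max hP2 inf_le_left hPmax) fP hfP
  have hχP : ∀ x (hx : x ∈ P), x * x = 1 → χ ⟨x, hx.1⟩ = fP x := fun x hx hxx => by
    refine hχ x hx hxx fun m hm hmx => ?_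
    by_cases hxE : x ∈ D.E
    · have hmE : m * x * m⁻¹ ∈ D.E := by
        by_contra hne
        refine hsep hmx ?_ hne (inv_mem hm) ?_
        · rw [show m * x * m⁻¹ * (m * x * m⁻¹) = m * (x * x) * m⁻¹ by group, hxx]; group
        · rwa [show m⁻¹ * (m * x * m⁻¹) * m⁻¹⁻¹ = x by group]
      simp only [fP, if_pos hxE, if_pos hmE]
    · simp only [fP, if_neg hxE, if_neg (hsep hx hxx hxE hm)]
  let N1 : Subgroup G := χ.ker.map M.subtype
  have hN1M : N1 ≤ M := fun _ ⟨w, _, hw⟩ => hw ▸ w.2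
  have hN1 : ∀ {w} (hw : w ∈ M), w ∈ N1 ↔ χ ⟨w, hw⟩ = 1 := fun {w} hw =>
    ⟨fun ⟨w', h', e'⟩ => by rw [show (⟨w, hw⟩ : M) = w' from Subtype.ext e'.symm]; exact h',
      fun h => ⟨⟨w, hw⟩, h, rfl⟩⟩
  have hN1norm : ∀ {m w}, m ∈ M → w ∈ N1 → m * w * m⁻¹ ∈ N1 := by
    intro m w hm hw
    obtain ⟨w', h', rfl⟩ := hw
    exact ⟨⟨m, hm⟩ * w' * ⟨m, hm⟩⁻¹, (inferInstance : χ.ker.Normal).conj_mem w' h' _, rfl⟩
  have hEN1 : D.E ≤ N1 := fun x hx => (hN1 (hEM hx)).2 (by
    rw [hχP x (hEP hx) (D.E_sq hx)]; exact if_pos hx)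
  have hr2 : φ rCode * φ rCode = 1 := (D.sq_iff (by decide)).2 (by decide +kernel)
  have hrχ : χ ⟨φ rCode, hrM⟩ = -1 := by rw [hχP _ hrP hr2]; exact if_neg hrE'
  have hrN1 : φ rCode ∉ N1 := fun h => by
    rw [hN1 hrM, hrχ] at h
    exact absurd h (by decide)
  have hodd3 : ∀ (A : G) (hA : A ∈ M) (χ' : M →* ℤˣ), A * (A * A) = 1 → χ' ⟨A, hA⟩ = 1 := by
    intro A hA χ' hA3
    have h : χ' ⟨A, hA⟩ * (χ' ⟨A, hA⟩ * χ' ⟨A, hA⟩) = 1 := by
      rw [← map_mul, ← map_mul, show (⟨A, hA⟩ : M) * (⟨A, hA⟩ * ⟨A, hA⟩) = 1 from Subtype.ext hA3, map_one]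
    rwa [Int.units_mul_self, mul_one] at h
  have hoN1 : o ∈ N1 := (hN1 hoM).2 (hodd3 o hoM χ K.cube)
  have hPN1 : ∀ {x}, x ∈ P → x ∈ N1 → x ∈ D.E := by
    intro x hx hxN
    by_contra hne
    obtain ⟨a, ha, rfl, hma⟩ := hPc hx
    have hm := mul_mem hrP hx
    have hfr : fP (φ rCode * φ a) = 1 := by
      rw [hfP _ hrP _ hx]
      simp only [fP, if_neg hrE', if_neg hne]
      decide
    have : φ rCode * φ a ∈ D.E := by
      by_contra h
      simp only [fP, if_neg h] at hfr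
      exact absurd hfr (by decide)
    refine hrN1 ?_
    have := mul_mem (hEN1 this) (inv_mem hxN)
    rwa [mul_inv_cancel_right] at this
  have hcardle : ∀ {R : Subgroup G} {T : Subgroup G} {c : G}, (∀ x ∈ R, c * x * c⁻¹ ∈ T) →
      Nat.card R ≤ Nat.card T := fun {R T c} h =>
    Nat.card_le_card_of_injective (fun x : R => (⟨c * x * c⁻¹, h x x.2⟩ : T)) fun a b e =>
      Subtype.ext (mul_left_cancel (mul_right_cancel (congrArg Subtype.val e)))
  have hE2 : IsPGroup 2 D.E := IsPGroup.of_card (n := 4) (by rw [D.card_E]; norm_num)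
  have hEmax : ∀ R : Subgroup G, IsPGroup 2 R → R ≤ N1 → D.E ≤ R → R = D.E := by
    intro R hR hRN hle
    obtain ⟨c, hc, hcP⟩ := conj_into hP2 inf_le_left hPmax hR (hRN.trans hN1M)
    exact (Subgroup.eq_of_le_of_card_ge hle
      (hcardle fun x hx => hPN1 (hcP x hx) (hN1norm hc (hRN hx)))).symm
  have hNN1 : ∀ {n}, n ∈ N1 → n ∈ D.N →
      Acts φ n idA ∨ Acts φ n abcA ∨ Acts φ n (comp abcA abcA) := by
    intro n hn hnN
    obtain ⟨f, hf⟩ := D.acts_exists hnN
    have h4 : f.getD 4 16 = 4 := D.e_inj (hf.2 4 (by norm_num)).1 (by norm_num) (by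
      rw [← (hf.2 4 (by norm_num)).2]
      exact mul_inv_eq_iff_eq_mul.2 (Subgroup.mem_centralizer_singleton_iff.1 (hN1M hn)))
    have h := List.all_eq_true.1 l60_u.1 f (D.acts_l60 K.orb hf)
    simp only [Bool.or_eq_true, bne_iff_ne, ne_eq, h4, not_true, false_or, List.contains_iff_mem, List.mem_cons,
      List.not_mem_nil, or_false] at h
    rcases h with h | h
    · rcases h with rfl | rfl | rfl
      exacts [Or.inl hf, Or.inr (Or.inl hf), Or.inr (Or.inr hf)]
    · exfalso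
      refine hrN1 ?_
      have hrn := D.acts_mul D.acts_r hf
      have key : ∀ w fw, Acts φ w fw → w ∈ N1 → comp (act rCode) f = fw → φ rCode ∈ N1 := fun w fw hw hwN he => by
        have := mul_mem (mul_mem (hEN1 (D.acts_inv hrn (he ▸ hw))) hwN) (inv_mem hn)
        rwa [inv_mul_cancel_right, mul_inv_cancel_right] at this
      rcases h with h | h | h
      exacts [key 1 _ D.acts_id (one_mem _) h, key o _ K.acts hoN1 h,
        key (o * o) _ (D.acts_mul K.acts K.acts) (mul_mem hoN1 hoN1) h]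
  have hfix : ∀ {n k}, n ∈ N1 → n ∈ D.N → k ∈ [1, 2, 7, 8, 13, 14] → n * e φ k = e φ k * n → n ∈ D.E := by
    intro n k hn hnN hk hcomm
    have hk16 : k < 16 := by simp only [List.mem_cons, List.not_mem_nil, or_false] at hk; omega
    have hm := List.all_eq_true.1 abc_moves k hk
    simp only [Bool.and_eq_true, bne_iff_ne, ne_eq] at hm
    have hfx : ∀ fw, Acts φ n fw → fw.getD k 16 = k := fun fw hw =>
      D.e_inj (hw.2 k hk16).1 hk16 ((hw.2 k hk16).2.symm.trans (mul_inv_eq_iff_eq_mul.2 hcomm))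
    rcases hNN1 hn hnN with h | h | h
    · exact D.mem_E_of_acts h
    · exact absurd (hfx _ h) hm.1
    · exact absurd (hfx _ h) hm.2
  have hinvE : ∀ {n}, n ∈ N1 → n ∈ D.N → n * n = 1 → n ∈ D.E := by
    intro n hn hnN hnn
    have hid : ∀ fw, Acts φ n fw → comp fw fw = idA := fun fw hw =>
      D.acts_unique (D.acts_mul hw hw) (hnn ▸ D.acts_id)
    rcases hNN1 hn hnN with h | h | h
    · exact D.mem_E_of_acts h
    · exact absurd (hid _ h) l60_u.2.2.1
    · exact absurd (hid _ h) l60_u.2.2.2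
  have hN1u : ∀ {n}, n ∈ N1 → n * e φ 4 = e φ 4 * n := fun hn =>
    Subgroup.mem_centralizer_singleton_iff.1 (hN1M hn)
  -- Burnside fusion in `N1`
  have hfun : ∀ (F : ℕ → Bool), (∀ a < 16, F (abcA.getD a 16) = F a ∧
      ∀ b < 16, F (a ^^^ b) = (F a != F b)) → ∃ ψ : N1 →* ℤˣ, ∀ n (hn : n < 16),
        ψ ⟨e φ n, hEN1 (D.e_mem hn)⟩ = if F n = false then 1 else -1 := by
    intro F hF
    obtain ⟨ψ, hψ⟩ := exists_transfer N1 D.E hEN1 (odd_index_of_max hE2 hEN1 hEmax) (chr φ F) (by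
      rintro _ ⟨a, ha, rfl⟩ _ ⟨b, hb, rfl⟩
      rw [← D.e_mul ha hb, D.chr_e F (Nat.xor_lt_two_pow (n := 4) ha hb), D.chr_e F ha, D.chr_e F hb,
        (hF a ha).2 b hb]
      cases F a <;> cases F b <;> decide)
    refine ⟨ψ, fun n hn => ?_⟩
    rw [← D.chr_e F hn]
    refine hψ _ (D.e_mem hn) (D.e_sq hn) fun m hm hmn => ?_
    obtain ⟨q, hq, hqe⟩ := hmn
    set My := N1 ⊓ Subgroup.centralizer ({e φ q} : Set G) with hMy
    have hEMy : D.E ≤ My := le_inf hEN1 fun w hw =>
      Subgroup.mem_centralizer_singleton_iff.2 (D.E_comm hw (D.e_mem hq))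
    obtain ⟨c, hc, hcE⟩ := conj_into hE2 hEMy (fun R hR hRle hle => hEmax R hR (hRle.trans inf_le_left) hle)
      (hE2.map (MulAut.conj m).toMonoidHom : IsPGroup 2 (D.E.map (MulAut.conj m).toMonoidHom)) (by
        rintro _ ⟨w, hw, rfl⟩
        refine Subgroup.mem_inf.2 ⟨N1.mul_mem (N1.mul_mem hm (hEN1 hw)) (N1.inv_mem hm), Subgroup.mem_centralizer_singleton_iff.2 ?_⟩
        show m * w * m⁻¹ * e φ q = e φ q * (m * w * m⁻¹)
        rw [hqe, show m * w * m⁻¹ * (m * e φ n * m⁻¹) = m * (w * e φ n) * m⁻¹ by group,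
          D.E_comm hw (D.e_mem hn)]
        group)
    have hwN : c * m ∈ D.N := mem_norm_of_conj fun w hw => by
      rw [show c * m * w * (c * m)⁻¹ = c * (m * w * m⁻¹) * c⁻¹ by group]
      exact hcE _ ⟨w, hw, rfl⟩
    have hcq := Subgroup.mem_centralizer_singleton_iff.1 hc.2
    have hcm : c * m * e φ n * (c * m)⁻¹ = e φ q := by
      rw [show c * m * e φ n * (c * m)⁻¹ = c * (m * e φ n * m⁻¹) * c⁻¹ by group, ← hqe, hcq]
      group
    rw [← hqe, D.chr_e F hq, D.chr_e F hn]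
    have hq' : ∀ fw, Acts φ (c * m) fw → q = fw.getD n 16 := fun fw hw =>
      D.e_inj hq (hw.2 n hn).1 (hcm.symm.trans (hw.2 n hn).2)
    rcases hNN1 (mul_mem hc.1 hm) hwN with h | h | h
    · rw [hq' _ h, show idA.getD n 16 = n by simp [idA, List.getD_eq_getElem?_getD, List.getElem?_range hn]]
    · rw [hq' _ h, (hF n hn).1]
    · rw [hq' _ h, comp_getD (show n < abcA.length from hn), (hF _ (K.acts.2 n hn).1).1, (hF n hn).1]
  obtain ⟨ψ1, hψ1⟩ := hfun f1 fun a ha => ⟨(f_facts a ha).1, fun b hb => ((f_facts a ha).2.2 b hb).1⟩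
  obtain ⟨ψ2, hψ2⟩ := hfun f2 fun a ha => ⟨(f_facts a ha).2.1, fun b hb => ((f_facts a ha).2.2 b hb).2⟩
  let N0 : Subgroup G := (ψ1.ker ⊓ ψ2.ker).map N1.subtype
  have hN0N1 : N0 ≤ N1 := fun _ ⟨w, _, hw⟩ => hw ▸ w.2
  have hN0norm : ∀ {m w}, m ∈ N1 → w ∈ N0 → m * w * m⁻¹ ∈ N0 := by
    intro m w hm hw
    obtain ⟨w', h', rfl⟩ := hw
    exact ⟨⟨m, hm⟩ * w' * ⟨m, hm⟩⁻¹, ⟨(inferInstance : ψ1.ker.Normal).conj_mem w' h'.1 _,
      (inferInstance : ψ2.ker.Normal).conj_mem w' h'.2 _⟩, rfl⟩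
  have hN0mem : ∀ {w} (hw : w ∈ N1), w ∈ N0 ↔ ψ1 ⟨w, hw⟩ = 1 ∧ ψ2 ⟨w, hw⟩ = 1 := fun {w} hw =>
    ⟨fun ⟨w', h', e'⟩ => by rw [show (⟨w, hw⟩ : N1) = w' from Subtype.ext e'.symm]; exact h',
      fun h => ⟨⟨w, hw⟩, h, rfl⟩⟩
  have hEN0 : ∀ {n}, n < 16 → (e φ n ∈ N0 ↔ f1 n = false ∧ f2 n = false) := fun {n} hn => by
    rw [hN0mem (hEN1 (D.e_mem hn)), hψ1 n hn, hψ2 n hn]
    cases f1 n <;> cases f2 n <;> decide
  have hW : ∀ {x}, x ∈ N0 → x ∈ D.E → x = 1 ∨ x = e φ 3 ∨ x = e φ 5 ∨ x = e φ 6 := by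
    rintro x hx ⟨n, hn, rfl⟩
    have h : ∀ n < 16, f1 n = false → f2 n = false → n = 0 ∨ n = 3 ∨ n = 5 ∨ n = 6 := by decide
    rcases h n hn ((hEN0 hn).1 hx).1 ((hEN0 hn).1 hx).2 with rfl | rfl | rfl | rfl
    exacts [Or.inl D.e_zero, Or.inr (Or.inl rfl), Or.inr (Or.inr (Or.inl rfl)), Or.inr (Or.inr (Or.inr rfl))]
  have hw3 : e φ 3 ∈ N0 := (hEN0 (by norm_num)).2 (by decide)
  have hw5 : e φ 5 ∈ N0 := (hEN0 (by norm_num)).2 (by decide)
  have hw6 : e φ 6 ∈ N0 := (hEN0 (by norm_num)).2 (by decide)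
  -- centralisers in `N1`
  have hcW : ∀ {n w}, w ∈ [3, 5, 6] → n ∈ N1 → n * e φ w = e φ w * n → n ∈ D.E := by
    intro n w hw hn hcomm
    obtain ⟨p, hp, hpw, hp5⟩ : ∃ p, p ∈ [1, 2, 7, 8, 13, 14] ∧ e φ p = e φ w * e φ 4 ∧ p ∈ five ∧ (4 : ℕ) ≠ p := by
      refine ⟨w ^^^ 4, ?_, D.e_mul (by simp only [List.mem_cons, List.not_mem_nil, or_false] at hw; omega)
        (by norm_num), ?_⟩
      · exact (by decide : ∀ w ∈ [3, 5, 6], w ^^^ 4 ∈ [1, 2, 7, 8, 13, 14]) w hw
      · exact (by decide : ∀ w ∈ [3, 5, 6], w ^^^ 4 ∈ five ∧ 4 ≠ w ^^^ 4) w hw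
    have hcp : n * e φ p = e φ p * n := by
      rw [hpw, ← mul_assoc, hcomm, mul_assoc, hN1u hn, mul_assoc]
    exact hfix hn (K.point_cent hp5.1 (by norm_num) (by norm_num) hp5.2 hcp (hN1u hn)) hp hcp
  have hc11 : ∀ {n}, n ∈ N1 → n * e φ 11 = e φ 11 * n → n ∈ D.N := fun hn h =>
    K.point_cent (p := 11) (k := 4) (by decide) (by norm_num) (by norm_num) (by norm_num) h (hN1u hn)
  let W : Subgroup G := D.E ⊓ N0
  have hWcard : Nat.card W ≤ 4 := by
    have hinj : Function.Injective (fun x : W => if (x : G) = 1 then (0 : Fin 4) else if (x : G) = e φ 3 then 1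
        else if (x : G) = e φ 5 then 2 else 3) := by
      intro a b h
      refine Subtype.ext ?_
      rcases hW a.2.2 a.2.1 with ha | ha | ha | ha <;> rcases hW b.2.2 b.2.1 with hb | hb | hb | hb <;>
        first
        | exact ha.trans hb.symm
        | (exfalso
           have n3 : e φ 3 ≠ (1 : G) := fun e => absurd (D.e_inj (by norm_num) (by norm_num) (e.trans D.e_zero.symm)) (by norm_num)
           have n5 : e φ 5 ≠ (1 : G) := fun e => absurd (D.e_inj (by norm_num) (by norm_num) (e.trans D.e_zero.symm)) (by norm_num)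
           have n6 : e φ 6 ≠ (1 : G) := fun e => absurd (D.e_inj (by norm_num) (by norm_num) (e.trans D.e_zero.symm)) (by norm_num)
           have m35 : e φ 5 ≠ e φ 3 := fun e => absurd (D.e_inj (by norm_num) (by norm_num) e) (by norm_num)
           have m36 : e φ 6 ≠ e φ 3 := fun e => absurd (D.e_inj (by norm_num) (by norm_num) e) (by norm_num)
           have m56 : e φ 6 ≠ e φ 5 := fun e => absurd (D.e_inj (by norm_num) (by norm_num) e) (by norm_num)
           simp [ha, hb, n3, n5, n6, m35, m36, m56] at h)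
    calc Nat.card W ≤ Nat.card (Fin 4) := Nat.card_le_card_of_injective _ hinj
      _ = 4 := Nat.card_fin 4
  have hW2 : IsPGroup 2 W := hE2.to_le inf_le_left
  have hWmax : ∀ R : Subgroup G, IsPGroup 2 R → R ≤ N0 → W ≤ R → R = W := by
    intro R hR hRN hle
    obtain ⟨c, hc, hcE⟩ := conj_into hE2 hEN1 hEmax hR (hRN.trans hN0N1)
    exact (Subgroup.eq_of_le_of_card_ge hle
      (hcardle fun x hx => (⟨hcE x hx, hN0norm hc (hRN hx)⟩ : _ ∈ W))).symm
  have hWn : ∀ {m}, m ∈ M → (∀ w ∈ [3, 5, 6], m * e φ w * m⁻¹ ∈ W) → m ∈ D.N := by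
    intro m hm h
    have hne : ∀ w ∈ [3, 5, 6], e φ w ≠ 1 := fun w hw e => by
      have hw16 : w < 16 := by simp only [List.mem_cons, List.not_mem_nil, or_false] at hw; omega
      have := D.e_inj hw16 (by norm_num) (e.trans D.e_zero.symm)
      simp only [List.mem_cons, List.not_mem_nil, or_false] at hw
      omega
    refine mem_norm_of_conj fun x hx => ?_
    have hmw := h 3 (by simp)
    obtain ⟨w, hw, hwe⟩ : ∃ w ∈ [3, 5, 6], e φ w = m * e φ 3 * m⁻¹ := by
      rcases hW hmw.2 hmw.1 with h' | h' | h' | h'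
      · exact absurd (by calc e φ 3 = m⁻¹ * (m * e φ 3 * m⁻¹) * m := by group
                              _ = 1 := by rw [h']; group) (hne 3 (by simp))
      exacts [⟨3, by simp, h'.symm⟩, ⟨5, by simp, h'.symm⟩, ⟨6, by simp, h'.symm⟩]
    refine hcW hw (hN1norm hm (hEN1 hx)) ?_
    rw [hwe, show m * x * m⁻¹ * (m * e φ 3 * m⁻¹) = m * (x * e φ 3) * m⁻¹ by group,
      D.E_comm hx (D.e_mem (by norm_num))]
    group
  -- the centralisers of the remaining involutions
  have hCk : ∀ j ∈ [8, 13, 14], ∀ i ∈ N0, i * i = 1 → i * e φ j = e φ j * i → i ∈ D.E := by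
    intro j hj i hi hii hij
    have hj16 : j < 16 := by simp only [List.mem_cons, List.not_mem_nil, or_false] at hj; omega
    set C := N0 ⊓ Subgroup.centralizer ({e φ j} : Set G) with hC
    have hWC : W ≤ C := fun w hw =>
      ⟨hw.2, Subgroup.mem_centralizer_singleton_iff.2 (D.E_comm hw.1 (D.e_mem hj16))⟩
    have hnorm : ∀ n ∈ C, (∀ x ∈ W, n * x * n⁻¹ ∈ W) → n ∈ W := by
      intro n hn h
      have hnN : n ∈ D.N := hWn (hN1M (hN0N1 hn.1)) fun w hw => h _ ⟨D.e_mem (by
        simp only [List.mem_cons, List.not_mem_nil, or_false] at hw; omega), by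
        simp only [List.mem_cons, List.not_mem_nil, or_false] at hw
        rcases hw with rfl | rfl | rfl
        exacts [hw3, hw5, hw6]⟩
      exact ⟨hfix (hN0N1 hn.1) hnN (List.mem_append_right [1, 2, 7] hj) (Subgroup.mem_centralizer_singleton_iff.1 hn.2),
        hn.1⟩
    let WC : Sylow 2 C :=
      { W.subgroupOf C with
        isPGroup' := hW2.of_equiv (Subgroup.subgroupOfEquivOfLe hWC).symm
        is_maximal' := fun {R} hR hle' => by
          have h := hWmax (R.map C.subtype) (hR.map _) (fun _ ⟨y, _, hy⟩ => hy ▸ y.2.1)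
            (fun x hx => ⟨⟨x, hWC hx⟩, hle' hx, rfl⟩)
          refine le_antisymm (fun x hx => ?_) hle'
          show (x : G) ∈ W
          rw [← h]
          exact ⟨x, hx, rfl⟩ }
    have hcen : Subgroup.normalizer ((WC : Subgroup C) : Set C) ≤ Subgroup.centralizer ((WC : Subgroup C) : Set C) := by
      intro n hn
      have hn' : (n : G) ∈ W := hnorm n n.2 fun x hx =>
        (Subgroup.mem_normalizer_iff.1 hn ⟨x, hWC hx⟩).1 hx
      exact fun x hx => Subtype.ext (D.E_comm (show (x : G) ∈ W from hx).1 hn'.1)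
    let H : Subgroup C := (MonoidHom.transferSylow WC hcen).ker
    have hH : H.IsComplement' (WC : Subgroup C) := MonoidHom.ker_transferSylow_isComplement' WC hcen
    have hodd : Odd (Nat.card H) := by
      rw [← hH.index_eq_card, Nat.odd_iff, ← Nat.two_dvd_ne_zero]
      exact WC.not_dvd_index
    have hH1 : ∀ k : H, ((k : C) : G) ∈ D.E → k = 1 := fun k hk => by
      have h2 : k ^ 2 = 1 := Subtype.ext (Subtype.ext (by rw [sq]; exact D.E_sq hk))
      exact orderOf_eq_one_iff.1 (Nat.eq_one_of_dvd_coprimes (Nat.coprime_two_left.2 hodd)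
        (orderOf_dvd_of_pow_eq_one h2) (orderOf_dvd_natCard k))
    have hinv : ∀ w ∈ [3, 5, 6], ∀ k : H,
        e φ w * ((k : C) : G) * e φ w = (((k : C) : G))⁻¹ := by
      intro w hw k
      have hw16 : w < 16 := by simp only [List.mem_cons, List.not_mem_nil, or_false] at hw; omega
      have hwC : e φ w ∈ C := hWC ⟨D.e_mem hw16, by
        simp only [List.mem_cons, List.not_mem_nil, or_false] at hw
        rcases hw with rfl | rfl | rfl
        exacts [hw3, hw5, hw6]⟩
      let τ : H →* H := (MulAut.conjNormal (⟨e φ w, hwC⟩ : C)).toMonoidHom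
      have hτ : ∀ k : H, ((τ k : C) : G) = e φ w * ((k : C) : G) * (e φ w)⁻¹ := fun k => rfl
      have hw1 : (e φ w)⁻¹ = e φ w := (eq_inv_of_mul_eq_one_left (D.e_sq hw16)).symm
      have hfree : MonoidHom.FixedPointFree τ := fun k hk => hH1 k (hcW hw (hN0N1 (k : C).2.1) (by
        have := congrArg (fun k : H => ((k : C) : G)) hk
        simp only [hτ] at this
        exact (mul_inv_eq_iff_eq_mul.1 this).symm))
      have hinvol : Function.Involutive τ := fun k => Subtype.ext (Subtype.ext (by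
        rw [hτ, hτ, show e φ w * (e φ w * ((k : C) : G) * (e φ w)⁻¹) * (e φ w)⁻¹ =
          (e φ w * e φ w) * ((k : C) : G) * (e φ w * e φ w)⁻¹ by group, D.e_sq hw16]
        group))
      have h := congrFun (hfree.coe_eq_inv_of_involutive hinvol) k
      have := congrArg (fun k : H => ((k : C) : G)) h
      simp only [hτ, hw1] at this
      exact this
    have hbot : ∀ k : H, k = 1 := fun k => hH1 k (hcW (w := 6) (by simp) (hN0N1 (k : C).2.1) (by
      have h3 := hinv 3 (by simp) k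
      have h5 := hinv 5 (by simp) k⁻¹
      rw [Subgroup.coe_inv, Subgroup.coe_inv, inv_inv, ← h3] at h5
      rw [show (6 : ℕ) = 5 ^^^ 3 from rfl, D.e_mul (by norm_num) (by norm_num)]
      have h33 : e φ 3 * e φ 3 = 1 := D.e_sq (by norm_num)
      have h55 : e φ 5 * e φ 5 = 1 := D.e_sq (by norm_num)
      calc ((k : C) : G) * (e φ 5 * e φ 3) = e φ 5 * (e φ 3 * ((k : C) : G) * e φ 3) * e φ 5 * (e φ 5 * e φ 3) := by
            rw [h5]
        _ = e φ 5 * e φ 3 * ((k : C) : G) * (e φ 3 * (e φ 5 * e φ 5) * e φ 3) := by group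
        _ = e φ 5 * e φ 3 * ((k : C) : G) := by rw [h55, mul_one, h33, mul_one]))
    have hm : (⟨i, Subgroup.mem_inf.2 ⟨hi, Subgroup.mem_centralizer_singleton_iff.2 hij⟩⟩ : C) ∈ (H : Set C) * ((WC : Subgroup C) : Set C) := by
      rw [hH.mul_eq]; exact Set.mem_univ _
    obtain ⟨k, hk, w, hw, hkw⟩ := hm
    have hk1 : k = 1 := congrArg Subtype.val (hbot ⟨k, hk⟩)
    rw [hk1] at hkw
    replace hkw := (one_mul w).symm.trans hkw
    have hw' : ((w : C) : G) ∈ W := hw
    rw [hkw] at hw'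
    exact hw'.1
  -- every involution of `N0` lies in `W`
  have hinW : ∀ i ∈ N0, i * i = 1 → i ∈ D.E := by
    intro i hi hii
    set d := e φ 11 with hd
    have hdN1 : d ∈ N1 := hEN1 (D.e_mem (by norm_num))
    have hdd : d * d = 1 := D.e_sq (by norm_num)
    have hd' : d⁻¹ = d := (eq_inv_of_mul_eq_one_left hdd).symm
    have hi' : i⁻¹ = i := (eq_inv_of_mul_eq_one_left hii).symm
    set x := d * i with hx
    have hxN1 : x ∈ N1 := mul_mem hdN1 (hN0N1 hi)
    have hdx : d * x * d⁻¹ = x⁻¹ := by rw [hx, mul_inv_rev, hd', hi', ← mul_assoc d d i, hdd, one_mul]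
    have hψd : ψ1 ⟨d, hdN1⟩ = -1 ∧ ψ2 ⟨d, hdN1⟩ = -1 := ⟨by rw [hψ1 11 (by norm_num)]; decide,
      by rw [hψ2 11 (by norm_num)]; decide⟩
    have hψi := (hN0mem (hN0N1 hi)).1 hi
    rcases Nat.even_or_odd (orderOf x) with hev | ⟨l, hl⟩
    · obtain ⟨m, hm⟩ := hev
      set k := x ^ m with hk
      have hk2 : k * k = 1 := by rw [hk, ← pow_add, ← hm, pow_orderOf_eq_one]
      have hk1 : k ≠ 1 := fun h1 => by
        have := orderOf_pos x
        exact pow_ne_one_of_lt_orderOf (n := m) (by omega) (by omega) h1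
      have hkd : k * d = d * k := by
        have : d * k * d⁻¹ = k⁻¹ := by rw [hk, ← conj_pow, hdx, inv_pow]
        rw [← eq_inv_of_mul_eq_one_left hk2] at this
        exact (mul_inv_eq_iff_eq_mul.1 this).symm
      have hki : i * k = k * i := by
        have hxk : x * k = k * x := (Commute.self_pow x m).eq
        have hix : i = d * x := by rw [hx, ← mul_assoc, hdd, one_mul]
        rw [hix, mul_assoc, hxk, ← mul_assoc, ← hkd, mul_assoc]
      have hkN1 : k ∈ N1 := pow_mem hxN1 m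
      obtain ⟨j, hj, hje⟩ := hinvE hkN1 (hc11 hkN1 hkd) hk2
      have hψk : f1 j = f2 j := by
        have e1 : ψ1 ⟨k, hkN1⟩ = ψ2 ⟨k, hkN1⟩ := by
          have hxe : (⟨k, hkN1⟩ : N1) = (⟨d, hdN1⟩ * ⟨i, hN0N1 hi⟩) ^ m := Subtype.ext (by simp [hk, hx])
          rw [hxe, map_pow, map_pow, map_mul, map_mul, hψd.1, hψd.2, hψi.1, hψi.2]
        have hks : (⟨k, hkN1⟩ : N1) = ⟨e φ j, hEN1 (D.e_mem hj)⟩ := Subtype.ext hje.symm
        rw [hks, hψ1 j hj, hψ2 j hj] at e1
        revert e1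
        cases f1 j <;> cases f2 j <;> decide
      have hcases : ∀ j < 16, f1 j = f2 j → j = 0 ∨ j ∈ [3, 5, 6] ∨ j = 11 ∨ j ∈ [8, 13, 14] := by decide
      rw [← hje] at hki
      rcases hcases j hj hψk with rfl | h | rfl | h
      · exact absurd (hje.symm.trans D.e_zero) hk1
      · exact hcW h (hN0N1 hi) hki
      · exact hinvE (hN0N1 hi) (hc11 (hN0N1 hi) hki) hii
      · exact hCk j h i hi hii hki
    · exfalso
      have hy : x ^ (l + 1) * i * (x ^ (l + 1))⁻¹ = d := by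
        have hix : i = d * x := by rw [hx, ← mul_assoc, hdd, one_mul]
        have h1 : x ^ (l + 1) * d = d * (x ^ (l + 1))⁻¹ := by
          have : d * x ^ (l + 1) * d⁻¹ = (x ^ (l + 1))⁻¹ := by rw [← conj_pow, hdx, inv_pow]
          rw [← this, ← mul_assoc, ← mul_assoc, hdd, one_mul, hd']
        rw [hix, ← mul_assoc, h1, mul_assoc, mul_assoc]
        have h2 : (x ^ (l + 1))⁻¹ * (x * (x ^ (l + 1))⁻¹) = 1 := by
          have hp : x ^ (2 * l + 1) = 1 := by rw [← hl, pow_orderOf_eq_one]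
          have e1 : x ^ (l + 1) * x ^ (l + 1) = x := by
            rw [← pow_add, show l + 1 + (l + 1) = 2 * l + 1 + 1 by omega, pow_succ, hp, one_mul]
          calc (x ^ (l + 1))⁻¹ * (x * (x ^ (l + 1))⁻¹)
              = (x ^ (l + 1))⁻¹ * (x ^ (l + 1) * x ^ (l + 1) * (x ^ (l + 1))⁻¹) := by rw [e1]
            _ = 1 := by group
        rw [h2, mul_one]
      have hdN0 : d ∈ N0 := hy ▸ hN0norm (pow_mem hxN1 _) hi
      have := ((hN0mem hdN1).1 hdN0).1
      rw [hψd.1] at this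
      exact absurd this (by decide)
  have hfin : ∀ n ∈ N1, n ∈ D.N := by
    intro n hn
    refine hWn (hN1M hn) fun w hw => ?_
    have hw0 : e φ w ∈ N0 := by
      simp only [List.mem_cons, List.not_mem_nil, or_false] at hw
      rcases hw with rfl | rfl | rfl
      exacts [hw3, hw5, hw6]
    have hw16 : w < 16 := by simp only [List.mem_cons, List.not_mem_nil, or_false] at hw; omega
    refine ⟨hinW _ (hN0norm hn hw0) ?_, hN0norm hn hw0⟩
    rw [show n * e φ w * n⁻¹ * (n * e φ w * n⁻¹) = n * (e φ w * e φ w) * n⁻¹ by group, D.e_sq hw16]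
    group
  by_cases hgN : g ∈ N1
  · exact hfin g hgN
  · have h1 : φ rCode * g ∈ N1 := by
      refine (hN1 (mul_mem hrM hgM)).2 ?_
      have hneg : χ ⟨g, hgM⟩ = -1 :=
        (Int.units_eq_one_or _).resolve_left fun h => hgN ((hN1 hgM).2 h)
      rw [show (⟨φ rCode * g, mul_mem hrM hgM⟩ : M) = ⟨φ rCode, hrM⟩ * ⟨g, hgM⟩ from rfl, map_mul, hrχ, hneg]
      decide
    have := mul_mem (inv_mem (D.acts_mem D.acts_r)) (hfin _ h1)
    rwa [inv_mul_cancel_left] at this

end Cfg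

end CfsgPSp43
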