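import Cfsg.Agent.Lib.PSp43.Coset

/-!
Groups with the involution centraliser of PSp₄(3): the certificate of the enumeration of the 45 cosets.
-/

set_option autoImplicit false
set_option maxRecDepth 10000

namespace CfsgPSp43

/-- The representatives of the cosets. -/
def reps : List (List ℕ) := [
  [],
  [4],
  [9],
  [4, 1],
  [4, 2],
  [4, 7],
  [9, 1],
  [9, 2],
  [9, 7],
  [4, 1, 2],
  [4, 1, 7],
  [4, 2, 0],
  [4, 2, 4],
  [4, 2, 9],
  [4, 7, 1],
  [4, 7, 4],
  [4, 7, 9],
  [9, 2, 4],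
  [9, 2, 9],
  [9, 7, 4],
  [9, 7, 9],
  [4, 1, 2, 4],
  [4, 1, 2, 9],
  [4, 1, 7, 4],
  [4, 1, 7, 9],
  [4, 2, 0, 4],
  [4, 2, 0, 9],
  [4, 2, 4, 1],
  [4, 2, 4, 2],
  [4, 2, 4, 6],
  [4, 2, 9, 1],
  [4, 2, 9, 3],
  [4, 2, 9, 6],
  [4, 2, 9, 7],
  [4, 7, 1, 4],
  [4, 7, 4, 1],
  [4, 7, 4, 6],
  [4, 7, 9, 7],
  [9, 2, 9, 6],
  [9, 7, 9, 1],
  [9, 7, 9, 6],
  [4, 1, 2, 9, 1],
  [4, 1, 2, 9, 6],
  [4, 1, 7, 4, 1],
  [4, 1, 7, 4, 6]]

namespace CosetData

variable {M α : Type*} [Group M] [MulAction M α] {g : ℕ → M} {p : α} (H : CosetData g p)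
include H

theorem r0_0_0 : ∀ x : α, path g [0, 0, 0, 0] x = x :=
  trivial_rot 0 (H.trivial_rev (i := 0) (by decide)) (by decide)

theorem r0_1_0 : ∀ x : α, path g [5, 5, 5, 5] x = x :=
  trivial_rot 0 (H.trivial_inv (i := 0) (by decide)) (by decide)

theorem r1_0_0 : ∀ x : α, path g [5, 5, 1, 1] x = x :=
  trivial_rot 0 (H.trivial_rev (i := 1) (by decide)) (by decide)

theorem r1_0_1 : ∀ x : α, path g [5, 1, 1, 5] x = x :=
  trivial_rot 1 (H.trivial_rev (i := 1) (by decide)) (by decide)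

theorem r1_0_2 : ∀ x : α, path g [1, 1, 5, 5] x = x :=
  trivial_rot 2 (H.trivial_rev (i := 1) (by decide)) (by decide)

theorem r1_1_0 : ∀ x : α, path g [6, 6, 0, 0] x = x :=
  trivial_rot 0 (H.trivial_inv (i := 1) (by decide)) (by decide)

theorem r1_1_1 : ∀ x : α, path g [6, 0, 0, 6] x = x :=
  trivial_rot 1 (H.trivial_inv (i := 1) (by decide)) (by decide)

theorem r1_1_2 : ∀ x : α, path g [0, 0, 6, 6] x = x :=
  trivial_rot 2 (H.trivial_inv (i := 1) (by decide)) (by decide)

theorem r1_1_3 : ∀ x : α, path g [0, 6, 6, 0] x = x :=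
  trivial_rot 3 (H.trivial_inv (i := 1) (by decide)) (by decide)

theorem r2_0_1 : ∀ x : α, path g [0, 1, 0, 6] x = x :=
  trivial_rot 1 (H.trivial_rev (i := 2) (by decide)) (by decide)

theorem r2_0_2 : ∀ x : α, path g [1, 0, 6, 0] x = x :=
  trivial_rot 2 (H.trivial_rev (i := 2) (by decide)) (by decide)

theorem r2_0_3 : ∀ x : α, path g [0, 6, 0, 1] x = x :=
  trivial_rot 3 (H.trivial_rev (i := 2) (by decide)) (by decide)

theorem r2_1_0 : ∀ x : α, path g [5, 6, 5, 1] x = x :=
  trivial_rot 0 (H.trivial_inv (i := 2) (by decide)) (by decide)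

theorem r2_1_1 : ∀ x : α, path g [6, 5, 1, 5] x = x :=
  trivial_rot 1 (H.trivial_inv (i := 2) (by decide)) (by decide)

theorem r2_1_3 : ∀ x : α, path g [1, 5, 6, 5] x = x :=
  trivial_rot 3 (H.trivial_inv (i := 2) (by decide)) (by decide)

theorem r3_1_0 : ∀ x : α, path g [7, 7, 7] x = x :=
  trivial_rot 0 (H.trivial_inv (i := 3) (by decide)) (by decide)

theorem r4_0_0 : ∀ x : α, path g [3, 3] x = x :=
  trivial_rot 0 (H.trivial_rev (i := 4) (by decide)) (by decide)

theorem r4_1_0 : ∀ x : α, path g [8, 8] x = x :=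
  trivial_rot 0 (H.trivial_inv (i := 4) (by decide)) (by decide)

theorem r5_0_0 : ∀ x : α, path g [6, 7, 0, 2] x = x :=
  trivial_rot 0 (H.trivial_rev (i := 5) (by decide)) (by decide)

theorem r5_0_1 : ∀ x : α, path g [7, 0, 2, 6] x = x :=
  trivial_rot 1 (H.trivial_rev (i := 5) (by decide)) (by decide)

theorem r5_0_2 : ∀ x : α, path g [0, 2, 6, 7] x = x :=
  trivial_rot 2 (H.trivial_rev (i := 5) (by decide)) (by decide)

theorem r5_0_3 : ∀ x : α, path g [2, 6, 7, 0] x = x :=
  trivial_rot 3 (H.trivial_rev (i := 5) (by decide)) (by decide)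

theorem r5_1_0 : ∀ x : α, path g [7, 5, 2, 1] x = x :=
  trivial_rot 0 (H.trivial_inv (i := 5) (by decide)) (by decide)

theorem r5_1_1 : ∀ x : α, path g [5, 2, 1, 7] x = x :=
  trivial_rot 1 (H.trivial_inv (i := 5) (by decide)) (by decide)

theorem r5_1_2 : ∀ x : α, path g [2, 1, 7, 5] x = x :=
  trivial_rot 2 (H.trivial_inv (i := 5) (by decide)) (by decide)

theorem r5_1_3 : ∀ x : α, path g [1, 7, 5, 2] x = x :=
  trivial_rot 3 (H.trivial_inv (i := 5) (by decide)) (by decide)

theorem r6_0_0 : ∀ x : α, path g [5, 6, 7, 1, 2] x = x :=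
  trivial_rot 0 (H.trivial_rev (i := 6) (by decide)) (by decide)

theorem r6_0_1 : ∀ x : α, path g [6, 7, 1, 2, 5] x = x :=
  trivial_rot 1 (H.trivial_rev (i := 6) (by decide)) (by decide)

theorem r6_0_2 : ∀ x : α, path g [7, 1, 2, 5, 6] x = x :=
  trivial_rot 2 (H.trivial_rev (i := 6) (by decide)) (by decide)

theorem r6_0_3 : ∀ x : α, path g [1, 2, 5, 6, 7] x = x :=
  trivial_rot 3 (H.trivial_rev (i := 6) (by decide)) (by decide)

theorem r6_0_4 : ∀ x : α, path g [2, 5, 6, 7, 1] x = x :=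
  trivial_rot 4 (H.trivial_rev (i := 6) (by decide)) (by decide)

theorem r6_1_0 : ∀ x : α, path g [7, 6, 2, 1, 0] x = x :=
  trivial_rot 0 (H.trivial_inv (i := 6) (by decide)) (by decide)

theorem r6_1_1 : ∀ x : α, path g [6, 2, 1, 0, 7] x = x :=
  trivial_rot 1 (H.trivial_inv (i := 6) (by decide)) (by decide)

theorem r6_1_4 : ∀ x : α, path g [0, 7, 6, 2, 1] x = x :=
  trivial_rot 4 (H.trivial_inv (i := 6) (by decide)) (by decide)

theorem r8_0_0 : ∀ x : α, path g [8, 6, 8, 5, 3, 1, 3, 0] x = x :=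
  trivial_rot 0 (H.trivial_rev (i := 8) (by decide)) (by decide)

theorem r8_0_1 : ∀ x : α, path g [6, 8, 5, 3, 1, 3, 0, 8] x = x :=
  trivial_rot 1 (H.trivial_rev (i := 8) (by decide)) (by decide)

theorem r8_0_3 : ∀ x : α, path g [5, 3, 1, 3, 0, 8, 6, 8] x = x :=
  trivial_rot 3 (H.trivial_rev (i := 8) (by decide)) (by decide)

theorem r8_0_5 : ∀ x : α, path g [1, 3, 0, 8, 6, 8, 5, 3] x = x :=
  trivial_rot 5 (H.trivial_rev (i := 8) (by decide)) (by decide)

theorem r8_1_0 : ∀ x : α, path g [5, 8, 6, 8, 0, 3, 1, 3] x = x :=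
  trivial_rot 0 (H.trivial_inv (i := 8) (by decide)) (by decide)

theorem r8_1_1 : ∀ x : α, path g [8, 6, 8, 0, 3, 1, 3, 5] x = x :=
  trivial_rot 1 (H.trivial_inv (i := 8) (by decide)) (by decide)

theorem r9_0_3 : ∀ x : α, path g [6, 3, 1, 3, 1, 8, 6, 8] x = x :=
  trivial_rot 3 (H.trivial_rev (i := 9) (by decide)) (by decide)

theorem r9_0_7 : ∀ x : α, path g [1, 8, 6, 8, 6, 3, 1, 3] x = x :=
  trivial_rot 7 (H.trivial_rev (i := 9) (by decide)) (by decide)

theorem r9_1_2 : ∀ x : α, path g [6, 8, 1, 3, 1, 3, 6, 8] x = x :=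
  trivial_rot 2 (H.trivial_inv (i := 9) (by decide)) (by decide)

theorem r10_0_5 : ∀ x : α, path g [2, 3, 2, 8, 7, 8, 7, 3] x = x :=
  trivial_rot 5 (H.trivial_rev (i := 10) (by decide)) (by decide)

theorem r10_0_7 : ∀ x : α, path g [2, 8, 7, 8, 7, 3, 2, 3] x = x :=
  trivial_rot 7 (H.trivial_rev (i := 10) (by decide)) (by decide)

theorem r11_0_1 : ∀ x : α, path g [7, 8, 5, 3, 2, 3, 0, 8] x = x :=
  trivial_rot 1 (H.trivial_rev (i := 11) (by decide)) (by decide)

theorem r11_0_5 : ∀ x : α, path g [2, 3, 0, 8, 7, 8, 5, 3] x = x :=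
  trivial_rot 5 (H.trivial_rev (i := 11) (by decide)) (by decide)

theorem r11_0_7 : ∀ x : α, path g [0, 8, 7, 8, 5, 3, 2, 3] x = x :=
  trivial_rot 7 (H.trivial_rev (i := 11) (by decide)) (by decide)

theorem r11_1_2 : ∀ x : α, path g [7, 8, 0, 3, 2, 3, 5, 8] x = x :=
  trivial_rot 2 (H.trivial_inv (i := 11) (by decide)) (by decide)

theorem r11_1_4 : ∀ x : α, path g [0, 3, 2, 3, 5, 8, 7, 8] x = x :=
  trivial_rot 4 (H.trivial_inv (i := 11) (by decide)) (by decide)

theorem r11_1_6 : ∀ x : α, path g [2, 3, 5, 8, 7, 8, 0, 3] x = x :=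
  trivial_rot 6 (H.trivial_inv (i := 11) (by decide)) (by decide)

theorem r12_0_1 : ∀ x : α, path g [7, 8, 6, 3, 2, 3, 1, 8] x = x :=
  trivial_rot 1 (H.trivial_rev (i := 12) (by decide)) (by decide)

theorem r12_0_3 : ∀ x : α, path g [6, 3, 2, 3, 1, 8, 7, 8] x = x :=
  trivial_rot 3 (H.trivial_rev (i := 12) (by decide)) (by decide)

theorem r12_0_5 : ∀ x : α, path g [2, 3, 1, 8, 7, 8, 6, 3] x = x :=
  trivial_rot 5 (H.trivial_rev (i := 12) (by decide)) (by decide)

theorem r12_0_7 : ∀ x : α, path g [1, 8, 7, 8, 6, 3, 2, 3] x = x :=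
  trivial_rot 7 (H.trivial_rev (i := 12) (by decide)) (by decide)

theorem r12_1_6 : ∀ x : α, path g [2, 3, 6, 8, 7, 8, 1, 3] x = x :=
  trivial_rot 6 (H.trivial_inv (i := 12) (by decide)) (by decide)

theorem r13_0_4 : ∀ x : α, path g [0, 0, 8, 5, 5, 8] x = x :=
  trivial_rot 4 (H.trivial_rev (i := 13) (by decide)) (by decide)

theorem r13_1_1 : ∀ x : α, path g [5, 3, 0, 0, 3, 5] x = x :=
  trivial_rot 1 (H.trivial_inv (i := 13) (by decide)) (by decide)

theorem r14_0_0 : ∀ x : α, path g [4, 4, 4] x = x :=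
  trivial_rot 0 (H.trivial_rev (i := 14) (by decide)) (by decide)

theorem r14_1_0 : ∀ x : α, path g [9, 9, 9] x = x :=
  trivial_rot 0 (H.trivial_inv (i := 14) (by decide)) (by decide)

theorem r15_0_2 : ∀ x : α, path g [0, 0, 4, 8, 9] x = x :=
  trivial_rot 2 (H.trivial_rev (i := 15) (by decide)) (by decide)

theorem r15_0_3 : ∀ x : α, path g [0, 4, 8, 9, 0] x = x :=
  trivial_rot 3 (H.trivial_rev (i := 15) (by decide)) (by decide)

theorem r15_0_4 : ∀ x : α, path g [4, 8, 9, 0, 0] x = x :=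
  trivial_rot 4 (H.trivial_rev (i := 15) (by decide)) (by decide)

theorem r15_1_3 : ∀ x : α, path g [4, 3, 9, 5, 5] x = x :=
  trivial_rot 3 (H.trivial_inv (i := 15) (by decide)) (by decide)

theorem r15_1_4 : ∀ x : α, path g [3, 9, 5, 5, 4] x = x :=
  trivial_rot 4 (H.trivial_inv (i := 15) (by decide)) (by decide)

theorem r16_0_7 : ∀ x : α, path g [9, 3, 4, 5, 5, 8, 5, 8, 5, 8] x = x :=
  trivial_rot 7 (H.trivial_rev (i := 16) (by decide)) (by decide)

theorem r16_0_8 : ∀ x : α, path g [3, 4, 5, 5, 8, 5, 8, 5, 8, 9] x = x :=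
  trivial_rot 8 (H.trivial_rev (i := 16) (by decide)) (by decide)

theorem r16_1_0 : ∀ x : α, path g [9, 8, 4, 3, 0, 3, 0, 3, 0, 0] x = x :=
  trivial_rot 0 (H.trivial_inv (i := 16) (by decide)) (by decide)

theorem r16_1_4 : ∀ x : α, path g [0, 3, 0, 3, 0, 0, 9, 8, 4, 3] x = x :=
  trivial_rot 4 (H.trivial_inv (i := 16) (by decide)) (by decide)

theorem r16_1_6 : ∀ x : α, path g [0, 3, 0, 0, 9, 8, 4, 3, 0, 3] x = x :=
  trivial_rot 6 (H.trivial_inv (i := 16) (by decide)) (by decide)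

theorem r17_0_7 : ∀ x : α, path g [9, 3, 1, 3, 1, 3, 0, 0, 4, 5, 5, 8, 6, 8, 6, 8] x = x :=
  trivial_rot 7 (H.trivial_rev (i := 17) (by decide)) (by decide)

theorem r17_0_8 : ∀ x : α, path g [3, 1, 3, 1, 3, 0, 0, 4, 5, 5, 8, 6, 8, 6, 8, 9] x = x :=
  trivial_rot 8 (H.trivial_rev (i := 17) (by decide)) (by decide)

theorem r17_0_9 : ∀ x : α, path g [1, 3, 1, 3, 0, 0, 4, 5, 5, 8, 6, 8, 6, 8, 9, 3] x = x :=
  trivial_rot 9 (H.trivial_rev (i := 17) (by decide)) (by decide)

theorem r17_0_11 : ∀ x : α, path g [1, 3, 0, 0, 4, 5, 5, 8, 6, 8, 6, 8, 9, 3, 1, 3] x = x :=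
  trivial_rot 11 (H.trivial_rev (i := 17) (by decide)) (by decide)

theorem r17_1_8 : ∀ x : α, path g [4, 3, 1, 3, 1, 3, 0, 0, 9, 5, 5, 8, 6, 8, 6, 8] x = x :=
  trivial_rot 8 (H.trivial_inv (i := 17) (by decide)) (by decide)

theorem r17_1_10 : ∀ x : α, path g [1, 3, 1, 3, 0, 0, 9, 5, 5, 8, 6, 8, 6, 8, 4, 3] x = x :=
  trivial_rot 10 (H.trivial_inv (i := 17) (by decide)) (by decide)

theorem r18_0_0 : ∀ x : α, path g [4, 3, 1, 0, 3, 1, 4, 3, 1, 0, 3, 1] x = x :=
  trivial_rot 0 (H.trivial_rev (i := 18) (by decide)) (by decide)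

theorem r18_0_4 : ∀ x : α, path g [3, 1, 4, 3, 1, 0, 3, 1, 4, 3, 1, 0] x = x :=
  trivial_rot 4 (H.trivial_rev (i := 18) (by decide)) (by decide)

theorem r18_0_5 : ∀ x : α, path g [1, 4, 3, 1, 0, 3, 1, 4, 3, 1, 0, 3] x = x :=
  trivial_rot 5 (H.trivial_rev (i := 18) (by decide)) (by decide)

theorem r18_1_0 : ∀ x : α, path g [6, 8, 5, 6, 8, 9, 6, 8, 5, 6, 8, 9] x = x :=
  trivial_rot 0 (H.trivial_inv (i := 18) (by decide)) (by decide)

theorem r18_1_5 : ∀ x : α, path g [9, 6, 8, 5, 6, 8, 9, 6, 8, 5, 6, 8] x = x :=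
  trivial_rot 5 (H.trivial_inv (i := 18) (by decide)) (by decide)

theorem r19_0_2 : ∀ x : α, path g [3, 2, 3, 1, 0, 3, 1, 4, 3, 2, 3, 2, 3, 1, 0, 3, 1, 4, 3, 2] x = x :=
  trivial_rot 2 (H.trivial_rev (i := 19) (by decide)) (by decide)

theorem r19_0_6 : ∀ x : α, path g [0, 3, 1, 4, 3, 2, 3, 2, 3, 1, 0, 3, 1, 4, 3, 2, 3, 2, 3, 1] x = x :=
  trivial_rot 6 (H.trivial_rev (i := 19) (by decide)) (by decide)

theorem r19_0_7 : ∀ x : α, path g [3, 1, 4, 3, 2, 3, 2, 3, 1, 0, 3, 1, 4, 3, 2, 3, 2, 3, 1, 0] x = x :=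
  trivial_rot 7 (H.trivial_rev (i := 19) (by decide)) (by decide)

theorem r20_0_0 : ∀ x : α, path g [7, 7, 8, 2, 2, 9, 7, 5, 5, 8, 6, 8, 6, 8, 2, 4, 7, 7, 3, 2, 2, 9, 7, 3, 1, 3, 1, 3, 0, 0, 2, 4] x = x :=
  trivial_rot 0 (H.trivial_rev (i := 20) (by decide)) (by decide)

theorem r20_0_15 : ∀ x : α, path g [4, 7, 7, 3, 2, 2, 9, 7, 3, 1, 3, 1, 3, 0, 0, 2, 4, 7, 7, 8, 2, 2, 9, 7, 5, 5, 8, 6, 8, 6, 8, 2] x = x :=
  trivial_rot 15 (H.trivial_rev (i := 20) (by decide)) (by decide)

theorem r20_0_26 : ∀ x : α, path g [1, 3, 0, 0, 2, 4, 7, 7, 8, 2, 2, 9, 7, 5, 5, 8, 6, 8, 6, 8, 2, 4, 7, 7, 3, 2, 2, 9, 7, 3, 1, 3] x = x :=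
  trivial_rot 26 (H.trivial_rev (i := 20) (by decide)) (by decide)

theorem r20_0_31 : ∀ x : α, path g [4, 7, 7, 8, 2, 2, 9, 7, 5, 5, 8, 6, 8, 6, 8, 2, 4, 7, 7, 3, 2, 2, 9, 7, 3, 1, 3, 1, 3, 0, 0, 2] x = x :=
  trivial_rot 31 (H.trivial_rev (i := 20) (by decide)) (by decide)

theorem f0 : g 0 • path g [] p = path g [] p :=
  H.base (i := 0) (by decide)

theorem f1 : g 5 • path g [] p = path g [] p :=
  H.back (i := 0) (by decide) H.f0

theorem f2 : g 1 • path g [] p = path g [] p :=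
  H.base (i := 1) (by decide)

theorem f3 : g 6 • path g [] p = path g [] p :=
  H.back (i := 1) (by decide) H.f2

theorem f4 : g 2 • path g [] p = path g [] p :=
  H.base (i := 2) (by decide)

theorem f5 : g 7 • path g [] p = path g [] p :=
  H.back (i := 2) (by decide) H.f4

theorem f6 : g 3 • path g [] p = path g [] p :=
  H.base (i := 3) (by decide)

theorem f7 : g 8 • path g [] p = path g [] p :=
  H.back (i := 3) (by decide) H.f6

theorem f8 : g 4 • path g [] p = path g [4] p :=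
  rfl

theorem f9 : g 9 • path g [4] p = path g [] p :=
  H.back (i := 4) (by decide) H.f8

theorem f10 : g 8 • path g [4] p = path g [4] p :=
  scan (u := [4]) (w := [9, 0, 0]) (i := 8) H.r15_0_4 (step H.f8 rfl) (step (H.back (i := 4) (by decide) H.f8) (step (H.back (i := 5) (by decide) H.f1) (step (H.back (i := 5) (by decide) H.f1) rfl)))

theorem f11 : g 3 • path g [4] p = path g [4] p :=
  H.back (i := 8) (by decide) H.f10

theorem f12 : g 9 • path g [] p = path g [9] p :=
  rfl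

theorem f13 : g 4 • path g [9] p = path g [] p :=
  H.back (i := 9) (by decide) H.f12

theorem f14 : g 9 • path g [9] p = path g [4] p :=
  scan (u := [9]) (w := [9]) (i := 9) H.r14_1_0 (step H.f12 rfl) (step (H.back (i := 4) (by decide) H.f8) rfl)

theorem f15 : g 4 • path g [4] p = path g [9] p :=
  H.back (i := 9) (by decide) H.f14

theorem f16 : g 3 • path g [9] p = path g [9] p :=
  scan (u := [9]) (w := [4, 5, 5, 8, 5, 8, 5, 8]) (i := 3) H.r16_0_7 (step H.f12 rfl) (step (H.back (i := 9) (by decide) H.f12) (step (H.back (i := 0) (by decide) H.f0) (step (H.back (i := 0) (by decide) H.f0) (step (H.back (i := 3) (by decide) H.f6) (step (H.back (i := 0) (by decide) H.f0) (step (H.back (i := 3) (by decide) H.f6) (step (H.back (i := 0) (by decide) H.f0) (step (H.back (i := 3) (by decide) H.f6) rfl))))))))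

theorem f17 : g 8 • path g [9] p = path g [9] p :=
  H.back (i := 3) (by decide) H.f16

theorem f18 : g 0 • path g [4] p = path g [4, 0] p :=
  rfl

theorem f19 : g 5 • path g [4, 0] p = path g [4] p :=
  H.back (i := 0) (by decide) H.f18

theorem f20 : g 0 • path g [4, 0] p = path g [4] p :=
  scan (u := [0]) (w := [4, 8, 9]) (i := 0) H.r15_0_2 (step H.f18 rfl) (step (H.back (i := 9) (by decide) H.f14) (step (H.back (i := 3) (by decide) H.f16) (step (H.back (i := 4) (by decide) H.f15) rfl)))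

theorem f21 : g 5 • path g [4] p = path g [4, 0] p :=
  H.back (i := 0) (by decide) H.f20

theorem f24 : g 1 • path g [4] p = path g [4, 1] p :=
  rfl

theorem f25 : g 6 • path g [4, 1] p = path g [4] p :=
  H.back (i := 1) (by decide) H.f24

theorem f26 : g 1 • path g [4, 1] p = path g [4] p :=
  scan (u := [1]) (w := [5, 5]) (i := 1) H.r1_0_2 (step H.f24 rfl) (step (H.back (i := 0) (by decide) H.f20) (step (H.back (i := 0) (by decide) H.f18) rfl))

theorem f27 : g 6 • path g [4] p = path g [4, 1] p :=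
  H.back (i := 1) (by decide) H.f26

theorem f28 : g 3 • path g [4, 1] p = path g [4, 1] p :=
  scan (u := [1]) (w := [1, 3, 0, 0, 9, 5, 5, 8, 6, 8, 6, 8, 4, 3]) (i := 3) H.r17_1_10 (step H.f24 rfl) (step (H.back (i := 6) (by decide) H.f27) (step (H.back (i := 8) (by decide) H.f10) (step (H.back (i := 5) (by decide) H.f19) (step (H.back (i := 5) (by decide) H.f21) (step (H.back (i := 4) (by decide) H.f8) (step (H.back (i := 0) (by decide) H.f0) (step (H.back (i := 0) (by decide) H.f0) (step (H.back (i := 3) (by decide) H.f6) (step (H.back (i := 1) (by decide) H.f2) (step (H.back (i := 3) (by decide) H.f6) (step (H.back (i := 1) (by decide) H.f2) (step (H.back (i := 3) (by decide) H.f6) (step (H.back (i := 9) (by decide) H.f9) (step (H.back (i := 8) (by decide) H.f10) rfl))))))))))))))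

theorem f29 : g 8 • path g [4, 1] p = path g [4, 1] p :=
  H.back (i := 3) (by decide) H.f28

theorem f30 : g 2 • path g [4] p = path g [4, 2] p :=
  rfl

theorem f31 : g 7 • path g [4, 2] p = path g [4] p :=
  H.back (i := 2) (by decide) H.f30

theorem f32 : g 7 • path g [4] p = path g [4, 7] p :=
  rfl

theorem f33 : g 2 • path g [4, 7] p = path g [4] p :=
  H.back (i := 7) (by decide) H.f32

theorem f34 : g 7 • path g [4, 7] p = path g [4, 2] p :=
  scan (u := [7]) (w := [7]) (i := 7) H.r3_1_0 (step H.f32 rfl) (step (H.back (i := 2) (by decide) H.f30) rfl)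

theorem f35 : g 2 • path g [4, 2] p = path g [4, 7] p :=
  H.back (i := 7) (by decide) H.f34

theorem f36 : g 0 • path g [9] p = path g [9, 0] p :=
  rfl

theorem f37 : g 5 • path g [9, 0] p = path g [9] p :=
  H.back (i := 0) (by decide) H.f36

theorem f38 : g 0 • path g [9, 0] p = path g [9] p :=
  scan (u := [0]) (w := [4, 8, 9]) (i := 0) H.r15_0_2 (step H.f36 rfl) (step (H.back (i := 9) (by decide) H.f12) (step (H.back (i := 3) (by decide) H.f6) (step (H.back (i := 4) (by decide) H.f13) rfl)))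

theorem f39 : g 5 • path g [9] p = path g [9, 0] p :=
  H.back (i := 0) (by decide) H.f38

theorem f40 : g 3 • path g [9, 0] p = path g [9, 0] p :=
  scan (u := [0]) (w := [0, 3, 0, 0, 9, 8, 4, 3]) (i := 3) H.r16_1_4 (step H.f36 rfl) (step (H.back (i := 5) (by decide) H.f39) (step (H.back (i := 8) (by decide) H.f17) (step (H.back (i := 5) (by decide) H.f37) (step (H.back (i := 5) (by decide) H.f39) (step (H.back (i := 4) (by decide) H.f15) (step (H.back (i := 3) (by decide) H.f11) (step (H.back (i := 9) (by decide) H.f14) (step (H.back (i := 8) (by decide) H.f17) rfl))))))))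

theorem f42 : g 1 • path g [9] p = path g [9, 1] p :=
  rfl

theorem f43 : g 6 • path g [9, 1] p = path g [9] p :=
  H.back (i := 1) (by decide) H.f42

theorem f44 : g 1 • path g [9, 1] p = path g [9] p :=
  scan (u := [1]) (w := [5, 5]) (i := 1) H.r1_0_2 (step H.f42 rfl) (step (H.back (i := 0) (by decide) H.f38) (step (H.back (i := 0) (by decide) H.f36) rfl))

theorem f45 : g 6 • path g [9] p = path g [9, 1] p :=
  H.back (i := 1) (by decide) H.f44

theorem f46 : g 3 • path g [9, 1] p = path g [9, 1] p :=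
  scan (u := [1]) (w := [1, 3, 0, 0, 4, 5, 5, 8, 6, 8, 6, 8, 9, 3]) (i := 3) H.r17_0_9 (step H.f42 rfl) (step (H.back (i := 6) (by decide) H.f45) (step (H.back (i := 8) (by decide) H.f17) (step (H.back (i := 5) (by decide) H.f37) (step (H.back (i := 5) (by decide) H.f39) (step (H.back (i := 9) (by decide) H.f12) (step (H.back (i := 0) (by decide) H.f0) (step (H.back (i := 0) (by decide) H.f0) (step (H.back (i := 3) (by decide) H.f6) (step (H.back (i := 1) (by decide) H.f2) (step (H.back (i := 3) (by decide) H.f6) (step (H.back (i := 1) (by decide) H.f2) (step (H.back (i := 3) (by decide) H.f6) (step (H.back (i := 4) (by decide) H.f13) (step (H.back (i := 8) (by decide) H.f17) rfl))))))))))))))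

theorem f47 : g 8 • path g [9, 1] p = path g [9, 1] p :=
  H.back (i := 3) (by decide) H.f46

theorem f48 : g 0 • path g [4, 1] p = path g [9, 1] p :=
  scan (u := [3, 1, 4, 3, 1, 0, 3, 1, 4, 3, 1]) (w := []) (i := 0) H.r18_0_4 (step H.f46 (step H.f44 (step H.f13 (step H.f6 (step H.f2 (step H.f0 (step H.f6 (step H.f2 (step H.f8 (step H.f11 (step H.f24 rfl))))))))))) rfl

theorem f49 : g 5 • path g [9, 1] p = path g [4, 1] p :=
  H.back (i := 0) (by decide) H.f48

theorem f50 : g 3 • path g [4, 2] p = path g [4, 7] p :=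
  scan (u := [3, 1, 4, 3, 2, 3, 2, 3, 1, 0, 3, 1, 4, 3, 2]) (w := [2, 3, 1, 0]) (i := 3) H.r19_0_7 (step H.f46 (step H.f44 (step H.f13 (step H.f6 (step H.f4 (step H.f6 (step H.f4 (step H.f6 (step H.f2 (step H.f0 (step H.f6 (step H.f2 (step H.f8 (step H.f11 (step H.f30 rfl))))))))))))))) (step (H.back (i := 7) (by decide) H.f32) (step (H.back (i := 8) (by decide) H.f10) (step (H.back (i := 6) (by decide) H.f25) (step (H.back (i := 5) (by decide) H.f49) rfl))))

theorem f51 : g 8 • path g [4, 7] p = path g [4, 2] p :=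
  H.back (i := 3) (by decide) H.f50

theorem f52 : path g [9, 0] p = path g [4] p :=
  close (u := [8, 6, 8, 5, 3]) (w := [1, 3, 0]) H.r8_0_0 (step H.f47 (step H.f43 (step H.f17 (step H.f39 (step H.f40 rfl))))) (step (H.back (i := 6) (by decide) H.f25) (step (H.back (i := 8) (by decide) H.f29) (step (H.back (i := 5) (by decide) H.f49) rfl)))

theorem f55 : g 0 • path g [4] p = path g [9] p :=
  (congrArg (g 0 • ·) H.f52.symm).trans H.f38

theorem f56 : path g [4, 0] p = path g [9] p :=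
  H.f18.symm.trans H.f55

theorem f64 : g 5 • path g [9] p = path g [4] p :=
  H.f39.trans H.f52

theorem f67 : g 0 • path g [9] p = path g [4] p :=
  H.f36.trans H.f52

theorem f75 : g 0 • path g [4] p = path g [9] p :=
  H.f18.trans H.f56

theorem f76 : g 5 • path g [4, 1] p = path g [9, 1] p :=
  scan (u := [8, 6, 8, 0, 3, 1, 3]) (w := []) (i := 5) H.r8_1_1 (step H.f47 (step H.f43 (step H.f17 (step H.f67 (step H.f11 (step H.f24 (step H.f28 rfl))))))) rfl

theorem f77 : g 0 • path g [9, 1] p = path g [4, 1] p :=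
  H.back (i := 5) (by decide) H.f76

theorem f78 : g 5 • path g [4] p = path g [9] p :=
  H.f21.trans H.f56

theorem f79 : g 3 • path g [4, 7] p = path g [4, 2] p :=
  scan (u := [3]) (w := []) (i := 3) H.r4_0_0 (step H.f50 rfl) rfl

theorem f80 : g 8 • path g [4, 2] p = path g [4, 7] p :=
  H.back (i := 3) (by decide) H.f79

theorem f81 : g 2 • path g [9] p = path g [9, 2] p :=
  rfl

theorem f82 : g 7 • path g [9, 2] p = path g [9] p :=
  H.back (i := 2) (by decide) H.f81

theorem f83 : g 6 • path g [9, 2] p = path g [4, 2] p :=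
  scan (u := [2]) (w := [7, 0]) (i := 6) H.r5_0_3 (step H.f81 rfl) (step (H.back (i := 2) (by decide) H.f30) (step (H.back (i := 5) (by decide) H.f64) rfl))

theorem f84 : g 1 • path g [4, 2] p = path g [9, 2] p :=
  H.back (i := 6) (by decide) H.f83

theorem f85 : g 1 • path g [9, 2] p = path g [4, 2] p :=
  scan (u := [2]) (w := [7, 5]) (i := 1) H.r5_1_2 (step H.f81 rfl) (step (H.back (i := 2) (by decide) H.f30) (step (H.back (i := 0) (by decide) H.f67) rfl))

theorem f86 : g 6 • path g [4, 2] p = path g [9, 2] p :=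
  H.back (i := 1) (by decide) H.f85

theorem f87 : g 7 • path g [9] p = path g [9, 7] p :=
  rfl

theorem f88 : g 2 • path g [9, 7] p = path g [9] p :=
  H.back (i := 7) (by decide) H.f87

theorem f89 : g 7 • path g [9, 7] p = path g [9, 2] p :=
  scan (u := [7]) (w := [7]) (i := 7) H.r3_1_0 (step H.f87 rfl) (step (H.back (i := 2) (by decide) H.f81) rfl)

theorem f90 : g 2 • path g [9, 2] p = path g [9, 7] p :=
  H.back (i := 7) (by decide) H.f89

theorem f91 : g 2 • path g [4, 1] p = path g [4, 1, 2] p :=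
  rfl

theorem f92 : g 7 • path g [4, 1, 2] p = path g [4, 1] p :=
  H.back (i := 2) (by decide) H.f91

theorem f93 : g 5 • path g [4, 1, 2] p = path g [9, 2] p :=
  scan (u := [2]) (w := [6, 7, 1]) (i := 5) H.r6_0_4 (step H.f91 rfl) (step (H.back (i := 1) (by decide) H.f84) (step (H.back (i := 2) (by decide) H.f30) (step (H.back (i := 6) (by decide) H.f25) rfl)))

theorem f94 : g 0 • path g [9, 2] p = path g [4, 1, 2] p :=
  H.back (i := 5) (by decide) H.f93

theorem f95 : g 5 • path g [9, 2] p = path g [4, 1, 2] p :=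
  scan (u := [5, 1, 1]) (w := []) (i := 5) H.r1_0_1 (step H.f93 (step H.f85 (step H.f84 rfl))) rfl

theorem f96 : g 0 • path g [4, 1, 2] p = path g [9, 2] p :=
  H.back (i := 5) (by decide) H.f95

theorem f97 : g 4 • path g [4, 1] p = path g [4, 1, 4] p :=
  rfl

theorem f99 : g 8 • path g [4, 1, 4] p = path g [4, 1, 4] p :=
  scan (u := [4]) (w := [9, 0, 0]) (i := 8) H.r15_0_4 (step H.f97 rfl) (step (H.back (i := 4) (by decide) H.f97) (step (H.back (i := 5) (by decide) H.f49) (step (H.back (i := 5) (by decide) H.f76) rfl)))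

theorem f100 : g 3 • path g [4, 1, 4] p = path g [4, 1, 4] p :=
  H.back (i := 8) (by decide) H.f99

theorem f101 : g 7 • path g [4, 1] p = path g [4, 1, 7] p :=
  rfl

theorem f102 : g 2 • path g [4, 1, 7] p = path g [4, 1] p :=
  H.back (i := 7) (by decide) H.f101

theorem f103 : g 7 • path g [4, 1, 7] p = path g [4, 1, 2] p :=
  scan (u := [7]) (w := [7]) (i := 7) H.r3_1_0 (step H.f101 rfl) (step (H.back (i := 2) (by decide) H.f91) rfl)

theorem f104 : g 2 • path g [4, 1, 2] p = path g [4, 1, 7] p :=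
  H.back (i := 7) (by decide) H.f103

theorem f105 : g 0 • path g [4, 1, 7] p = path g [4, 7] p :=
  scan (u := [7]) (w := [2, 6]) (i := 0) H.r5_0_1 (step H.f101 rfl) (step (H.back (i := 7) (by decide) H.f32) (step (H.back (i := 1) (by decide) H.f26) rfl))

theorem f106 : g 5 • path g [4, 7] p = path g [4, 1, 7] p :=
  H.back (i := 0) (by decide) H.f105

theorem f107 : g 5 • path g [4, 1, 7] p = path g [4, 7] p :=
  scan (u := [7]) (w := [2, 1]) (i := 5) H.r5_1_0 (step H.f101 rfl) (step (H.back (i := 7) (by decide) H.f32) (step (H.back (i := 6) (by decide) H.f25) rfl))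

theorem f108 : g 0 • path g [4, 7] p = path g [4, 1, 7] p :=
  H.back (i := 5) (by decide) H.f107

theorem f109 : g 1 • path g [4, 1, 7] p = path g [9, 7] p :=
  scan (u := [7]) (w := [2, 5, 6]) (i := 1) H.r6_0_2 (step H.f101 rfl) (step (H.back (i := 7) (by decide) H.f87) (step (H.back (i := 0) (by decide) H.f75) (step (H.back (i := 1) (by decide) H.f26) rfl)))

theorem f110 : g 6 • path g [9, 7] p = path g [4, 1, 7] p :=
  H.back (i := 1) (by decide) H.f109

theorem f111 : g 6 • path g [4, 1, 7] p = path g [9, 7] p :=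
  scan (u := [7]) (w := [2, 1, 0]) (i := 6) H.r6_1_0 (step H.f101 rfl) (step (H.back (i := 7) (by decide) H.f87) (step (H.back (i := 6) (by decide) H.f43) (step (H.back (i := 5) (by decide) H.f76) rfl)))

theorem f112 : g 1 • path g [9, 7] p = path g [4, 1, 7] p :=
  H.back (i := 6) (by decide) H.f111

theorem f113 : g 8 • path g [4, 1, 7] p = path g [9, 2] p :=
  scan (u := [7]) (w := [6, 3, 2, 3, 1, 8]) (i := 8) H.r12_0_1 (step H.f101 rfl) (step (H.back (i := 1) (by decide) H.f84) (step (H.back (i := 8) (by decide) H.f51) (step (H.back (i := 7) (by decide) H.f32) (step (H.back (i := 8) (by decide) H.f10) (step (H.back (i := 6) (by decide) H.f25) (step (H.back (i := 3) (by decide) H.f28) rfl))))))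

theorem f114 : g 3 • path g [9, 2] p = path g [4, 1, 7] p :=
  H.back (i := 8) (by decide) H.f113

theorem f115 : g 8 • path g [9, 2] p = path g [4, 1, 7] p :=
  scan (u := [8]) (w := []) (i := 8) H.r4_1_0 (step H.f113 rfl) rfl

theorem f116 : g 3 • path g [4, 1, 7] p = path g [9, 2] p :=
  H.back (i := 8) (by decide) H.f115

theorem f117 : g 9 • path g [4, 1] p = path g [4, 1, 9] p :=
  rfl

theorem f119 : g 9 • path g [4, 1, 9] p = path g [4, 1, 4] p :=
  scan (u := [9]) (w := [9]) (i := 9) H.r14_1_0 (step H.f117 rfl) (step (H.back (i := 4) (by decide) H.f97) rfl)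

theorem f120 : g 4 • path g [4, 1, 4] p = path g [4, 1, 9] p :=
  H.back (i := 9) (by decide) H.f119

theorem f123 : g 0 • path g [4, 2] p = path g [4, 2, 0] p :=
  rfl

theorem f124 : g 5 • path g [4, 2, 0] p = path g [4, 2] p :=
  H.back (i := 0) (by decide) H.f123

theorem f125 : g 0 • path g [4, 2, 0] p = path g [4, 2] p :=
  scan (u := [0]) (w := [6, 6]) (i := 0) H.r1_1_2 (step H.f123 rfl) (step (H.back (i := 1) (by decide) H.f85) (step (H.back (i := 1) (by decide) H.f84) rfl))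

theorem f126 : g 5 • path g [4, 2] p = path g [4, 2, 0] p :=
  H.back (i := 0) (by decide) H.f125

theorem f127 : g 1 • path g [4, 2, 0] p = path g [4, 1, 2] p :=
  scan (u := [0]) (w := [0, 6]) (i := 1) H.r2_0_1 (step H.f123 rfl) (step (H.back (i := 5) (by decide) H.f95) (step (H.back (i := 1) (by decide) H.f84) rfl))

theorem f128 : g 6 • path g [4, 1, 2] p = path g [4, 2, 0] p :=
  H.back (i := 1) (by decide) H.f127

theorem f129 : g 6 • path g [4, 2, 0] p = path g [4, 1, 2] p :=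
  scan (u := [0]) (w := [0, 1]) (i := 6) H.r2_0_3 (step H.f123 rfl) (step (H.back (i := 5) (by decide) H.f95) (step (H.back (i := 6) (by decide) H.f86) rfl))

theorem f130 : g 1 • path g [4, 1, 2] p = path g [4, 2, 0] p :=
  H.back (i := 6) (by decide) H.f129

theorem f131 : g 7 • path g [4, 2, 0] p = path g [9, 1] p :=
  scan (u := [0]) (w := [6, 2, 1]) (i := 7) H.r6_1_4 (step H.f123 rfl) (step (H.back (i := 1) (by decide) H.f42) (step (H.back (i := 7) (by decide) H.f82) (step (H.back (i := 6) (by decide) H.f86) rfl)))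

theorem f132 : g 2 • path g [9, 1] p = path g [4, 2, 0] p :=
  H.back (i := 7) (by decide) H.f131

theorem f133 : g 8 • path g [4, 2, 0] p = path g [9, 7] p :=
  scan (u := [0]) (w := [7, 8, 5, 3, 2, 3]) (i := 8) H.r11_0_7 (step H.f123 rfl) (step (H.back (i := 2) (by decide) H.f90) (step (H.back (i := 3) (by decide) H.f116) (step (H.back (i := 0) (by decide) H.f108) (step (H.back (i := 8) (by decide) H.f80) (step (H.back (i := 7) (by decide) H.f34) (step (H.back (i := 8) (by decide) H.f80) rfl))))))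

theorem f134 : g 3 • path g [9, 7] p = path g [4, 2, 0] p :=
  H.back (i := 8) (by decide) H.f133

theorem f135 : g 3 • path g [4, 2, 0] p = path g [9, 7] p :=
  scan (u := [0]) (w := [2, 3, 5, 8, 7, 8]) (i := 3) H.r11_1_4 (step H.f123 rfl) (step (H.back (i := 7) (by decide) H.f87) (step (H.back (i := 8) (by decide) H.f17) (step (H.back (i := 0) (by decide) H.f75) (step (H.back (i := 3) (by decide) H.f11) (step (H.back (i := 2) (by decide) H.f33) (step (H.back (i := 3) (by decide) H.f50) rfl))))))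

theorem f136 : g 8 • path g [9, 7] p = path g [4, 2, 0] p :=
  H.back (i := 3) (by decide) H.f135

theorem f137 : g 4 • path g [9, 1] p = path g [9, 1] p :=
  scan (u := [3, 2, 3, 1, 0, 3, 1, 4, 3, 2, 3, 2, 3, 1, 0, 3, 1]) (w := [3, 2]) (i := 4) H.r19_0_2 (step H.f135 (step H.f88 (step H.f16 (step H.f42 (step H.f77 (step H.f28 (step H.f26 (step H.f15 (step H.f16 (step H.f81 (step H.f114 (step H.f102 (step H.f28 (step H.f26 (step H.f75 (step H.f16 (step H.f42 rfl))))))))))))))))) (step (H.back (i := 8) (by decide) H.f47) (step (H.back (i := 7) (by decide) H.f131) rfl))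

theorem f138 : g 9 • path g [9, 1] p = path g [9, 1] p :=
  H.back (i := 4) (by decide) H.f137

theorem f139 : path g [4, 1, 4] p = path g [4, 1] p :=
  close (u := [4, 3, 1, 0, 3, 1, 4, 3]) (w := [1, 0, 3, 1]) H.r18_0_0 (step H.f137 (step H.f46 (step H.f44 (step H.f67 (step H.f11 (step H.f24 (step H.f97 (step H.f100 rfl)))))))) (step (H.back (i := 6) (by decide) H.f27) (step (H.back (i := 5) (by decide) H.f64) (step (H.back (i := 8) (by decide) H.f17) (step (H.back (i := 6) (by decide) H.f43) rfl))))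

theorem f148 : g 4 • path g [4, 1] p = path g [4, 1, 9] p :=
  (congrArg (g 4 • ·) H.f139.symm).trans H.f120

theorem f149 : g 4 • path g [4, 1] p = path g [4, 1] p :=
  H.f97.trans H.f139

theorem f150 : path g [4, 1] p = path g [4, 1, 9] p :=
  H.f149.symm.trans H.f148

theorem f151 : path g [4, 1, 9] p = path g [4, 1] p :=
  H.f150.symm

theorem f156 : g 9 • path g [4, 1] p = path g [4, 1] p :=
  H.f117.trans H.f151

theorem f164 : g 4 • path g [4, 2] p = path g [4, 2, 4] p :=
  rfl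

theorem f165 : g 9 • path g [4, 2, 4] p = path g [4, 2] p :=
  H.back (i := 4) (by decide) H.f164

theorem f166 : g 8 • path g [4, 2, 4] p = path g [4, 2, 4] p :=
  scan (u := [4]) (w := [9, 0, 0]) (i := 8) H.r15_0_4 (step H.f164 rfl) (step (H.back (i := 4) (by decide) H.f164) (step (H.back (i := 5) (by decide) H.f124) (step (H.back (i := 5) (by decide) H.f126) rfl)))

theorem f167 : g 3 • path g [4, 2, 4] p = path g [4, 2, 4] p :=
  H.back (i := 8) (by decide) H.f166

theorem f168 : g 9 • path g [4, 2] p = path g [4, 2, 9] p :=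
  rfl

theorem f169 : g 4 • path g [4, 2, 9] p = path g [4, 2] p :=
  H.back (i := 9) (by decide) H.f168

theorem f170 : g 9 • path g [4, 2, 9] p = path g [4, 2, 4] p :=
  scan (u := [9]) (w := [9]) (i := 9) H.r14_1_0 (step H.f168 rfl) (step (H.back (i := 4) (by decide) H.f164) rfl)

theorem f171 : g 4 • path g [4, 2, 4] p = path g [4, 2, 9] p :=
  H.back (i := 9) (by decide) H.f170

theorem f172 : g 1 • path g [4, 7] p = path g [4, 7, 1] p :=
  rfl

theorem f173 : g 6 • path g [4, 7, 1] p = path g [4, 7] p :=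
  H.back (i := 1) (by decide) H.f172

theorem f174 : g 1 • path g [4, 7, 1] p = path g [4, 7] p :=
  scan (u := [1]) (w := [5, 5]) (i := 1) H.r1_0_2 (step H.f172 rfl) (step (H.back (i := 0) (by decide) H.f105) (step (H.back (i := 0) (by decide) H.f108) rfl))

theorem f175 : g 6 • path g [4, 7] p = path g [4, 7, 1] p :=
  H.back (i := 1) (by decide) H.f174

theorem f176 : g 0 • path g [4, 7, 1] p = path g [9, 7] p :=
  scan (u := [1]) (w := [6, 0]) (i := 0) H.r2_0_2 (step H.f172 rfl) (step (H.back (i := 1) (by decide) H.f109) (step (H.back (i := 5) (by decide) H.f106) rfl))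

theorem f177 : g 5 • path g [9, 7] p = path g [4, 7, 1] p :=
  H.back (i := 0) (by decide) H.f176

theorem f178 : g 5 • path g [4, 7, 1] p = path g [9, 7] p :=
  scan (u := [1]) (w := [6, 5]) (i := 5) H.r2_1_3 (step H.f172 rfl) (step (H.back (i := 1) (by decide) H.f109) (step (H.back (i := 0) (by decide) H.f108) rfl))

theorem f179 : g 0 • path g [9, 7] p = path g [4, 7, 1] p :=
  H.back (i := 5) (by decide) H.f178

theorem f180 : g 7 • path g [4, 7, 1] p = path g [4, 2, 0] p :=
  scan (u := [1]) (w := [5, 2]) (i := 7) H.r5_1_3 (step H.f172 rfl) (step (H.back (i := 0) (by decide) H.f123) (step (H.back (i := 7) (by decide) H.f34) rfl))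

theorem f181 : g 2 • path g [4, 2, 0] p = path g [4, 7, 1] p :=
  H.back (i := 7) (by decide) H.f180

theorem f182 : g 2 • path g [4, 7, 1] p = path g [9, 1] p :=
  scan (u := [1]) (w := [5, 6, 7]) (i := 2) H.r6_0_3 (step H.f172 rfl) (step (H.back (i := 0) (by decide) H.f48) (step (H.back (i := 1) (by decide) H.f24) (step (H.back (i := 2) (by decide) H.f33) rfl)))

theorem f183 : g 7 • path g [9, 1] p = path g [4, 7, 1] p :=
  H.back (i := 2) (by decide) H.f182

theorem f184 : g 3 • path g [4, 7, 1] p = path g [4, 1, 2] p :=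
  scan (u := [1]) (w := [0, 8, 6, 8, 5, 3]) (i := 3) H.r8_0_5 (step H.f172 rfl) (step (H.back (i := 5) (by decide) H.f95) (step (H.back (i := 3) (by decide) H.f116) (step (H.back (i := 1) (by decide) H.f112) (step (H.back (i := 3) (by decide) H.f135) (step (H.back (i := 0) (by decide) H.f123) (step (H.back (i := 8) (by decide) H.f51) rfl))))))

theorem f185 : g 8 • path g [4, 1, 2] p = path g [4, 7, 1] p :=
  H.back (i := 3) (by decide) H.f184

theorem f186 : g 8 • path g [4, 7, 1] p = path g [4, 1, 2] p :=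
  scan (u := [1]) (w := [6, 8, 6, 3, 1, 3]) (i := 8) H.r9_0_7 (step H.f172 rfl) (step (H.back (i := 1) (by decide) H.f127) (step (H.back (i := 3) (by decide) H.f134) (step (H.back (i := 1) (by decide) H.f109) (step (H.back (i := 8) (by decide) H.f115) (step (H.back (i := 6) (by decide) H.f86) (step (H.back (i := 8) (by decide) H.f51) rfl))))))

theorem f187 : g 3 • path g [4, 1, 2] p = path g [4, 7, 1] p :=
  H.back (i := 8) (by decide) H.f186

theorem f188 : g 4 • path g [4, 7] p = path g [4, 7, 4] p :=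
  rfl

theorem f189 : g 9 • path g [4, 7, 4] p = path g [4, 7] p :=
  H.back (i := 4) (by decide) H.f188

theorem f190 : g 8 • path g [4, 7, 4] p = path g [4, 7, 4] p :=
  scan (u := [4]) (w := [9, 0, 0]) (i := 8) H.r15_0_4 (step H.f188 rfl) (step (H.back (i := 4) (by decide) H.f188) (step (H.back (i := 5) (by decide) H.f107) (step (H.back (i := 5) (by decide) H.f106) rfl)))

theorem f191 : g 3 • path g [4, 7, 4] p = path g [4, 7, 4] p :=
  H.back (i := 8) (by decide) H.f190

theorem f192 : g 9 • path g [4, 7] p = path g [4, 7, 9] p :=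
  rfl

theorem f193 : g 4 • path g [4, 7, 9] p = path g [4, 7] p :=
  H.back (i := 9) (by decide) H.f192

theorem f194 : g 9 • path g [4, 7, 9] p = path g [4, 7, 4] p :=
  scan (u := [9]) (w := [9]) (i := 9) H.r14_1_0 (step H.f192 rfl) (step (H.back (i := 4) (by decide) H.f188) rfl)

theorem f195 : g 4 • path g [4, 7, 4] p = path g [4, 7, 9] p :=
  H.back (i := 9) (by decide) H.f194

theorem f196 : g 4 • path g [9, 2] p = path g [9, 2, 4] p :=
  rfl

theorem f197 : g 9 • path g [9, 2, 4] p = path g [9, 2] p :=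
  H.back (i := 4) (by decide) H.f196

theorem f198 : g 8 • path g [9, 2, 4] p = path g [9, 2, 4] p :=
  scan (u := [4]) (w := [9, 0, 0]) (i := 8) H.r15_0_4 (step H.f196 rfl) (step (H.back (i := 4) (by decide) H.f196) (step (H.back (i := 5) (by decide) H.f93) (step (H.back (i := 5) (by decide) H.f95) rfl)))

theorem f199 : g 3 • path g [9, 2, 4] p = path g [9, 2, 4] p :=
  H.back (i := 8) (by decide) H.f198

theorem f200 : g 9 • path g [9, 2] p = path g [9, 2, 9] p :=
  rfl

theorem f201 : g 4 • path g [9, 2, 9] p = path g [9, 2] p :=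
  H.back (i := 9) (by decide) H.f200

theorem f202 : g 9 • path g [9, 2, 9] p = path g [9, 2, 4] p :=
  scan (u := [9]) (w := [9]) (i := 9) H.r14_1_0 (step H.f200 rfl) (step (H.back (i := 4) (by decide) H.f196) rfl)

theorem f203 : g 4 • path g [9, 2, 4] p = path g [9, 2, 9] p :=
  H.back (i := 9) (by decide) H.f202

theorem f204 : g 4 • path g [9, 7] p = path g [9, 7, 4] p :=
  rfl

theorem f205 : g 9 • path g [9, 7, 4] p = path g [9, 7] p :=
  H.back (i := 4) (by decide) H.f204

theorem f206 : g 8 • path g [9, 7, 4] p = path g [9, 7, 4] p :=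
  scan (u := [4]) (w := [9, 0, 0]) (i := 8) H.r15_0_4 (step H.f204 rfl) (step (H.back (i := 4) (by decide) H.f204) (step (H.back (i := 5) (by decide) H.f178) (step (H.back (i := 5) (by decide) H.f177) rfl)))

theorem f207 : g 3 • path g [9, 7, 4] p = path g [9, 7, 4] p :=
  H.back (i := 8) (by decide) H.f206

theorem f208 : g 9 • path g [9, 7] p = path g [9, 7, 9] p :=
  rfl

theorem f209 : g 4 • path g [9, 7, 9] p = path g [9, 7] p :=
  H.back (i := 9) (by decide) H.f208

theorem f210 : g 9 • path g [9, 7, 9] p = path g [9, 7, 4] p :=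
  scan (u := [9]) (w := [9]) (i := 9) H.r14_1_0 (step H.f208 rfl) (step (H.back (i := 4) (by decide) H.f204) rfl)

theorem f211 : g 4 • path g [9, 7, 4] p = path g [9, 7, 9] p :=
  H.back (i := 9) (by decide) H.f210

theorem f212 : g 3 • path g [9, 7, 9] p = path g [9, 2, 9] p :=
  scan (u := [9]) (w := [4, 5, 5, 8, 5, 8, 5, 8]) (i := 3) H.r16_0_7 (step H.f208 rfl) (step (H.back (i := 9) (by decide) H.f200) (step (H.back (i := 0) (by decide) H.f96) (step (H.back (i := 0) (by decide) H.f94) (step (H.back (i := 3) (by decide) H.f116) (step (H.back (i := 0) (by decide) H.f108) (step (H.back (i := 3) (by decide) H.f50) (step (H.back (i := 0) (by decide) H.f125) (step (H.back (i := 3) (by decide) H.f134) rfl))))))))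

theorem f213 : g 8 • path g [9, 2, 9] p = path g [9, 7, 9] p :=
  H.back (i := 3) (by decide) H.f212

theorem f214 : g 8 • path g [9, 7, 9] p = path g [9, 2, 9] p :=
  scan (u := [9]) (w := [4, 3, 0, 3, 0, 3, 0, 0]) (i := 8) H.r16_1_0 (step H.f208 rfl) (step (H.back (i := 9) (by decide) H.f200) (step (H.back (i := 8) (by decide) H.f113) (step (H.back (i := 5) (by decide) H.f106) (step (H.back (i := 8) (by decide) H.f80) (step (H.back (i := 5) (by decide) H.f124) (step (H.back (i := 8) (by decide) H.f136) (step (H.back (i := 5) (by decide) H.f178) (step (H.back (i := 5) (by decide) H.f177) rfl))))))))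

theorem f215 : g 3 • path g [9, 2, 9] p = path g [9, 7, 9] p :=
  H.back (i := 8) (by decide) H.f214

theorem f216 : g 4 • path g [4, 1, 2] p = path g [4, 1, 2, 4] p :=
  rfl

theorem f217 : g 9 • path g [4, 1, 2, 4] p = path g [4, 1, 2] p :=
  H.back (i := 4) (by decide) H.f216

theorem f218 : g 8 • path g [4, 1, 2, 4] p = path g [4, 1, 2, 4] p :=
  scan (u := [4]) (w := [9, 0, 0]) (i := 8) H.r15_0_4 (step H.f216 rfl) (step (H.back (i := 4) (by decide) H.f216) (step (H.back (i := 5) (by decide) H.f95) (step (H.back (i := 5) (by decide) H.f93) rfl)))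

theorem f219 : g 3 • path g [4, 1, 2, 4] p = path g [4, 1, 2, 4] p :=
  H.back (i := 8) (by decide) H.f218

theorem f220 : g 9 • path g [4, 1, 2] p = path g [4, 1, 2, 9] p :=
  rfl

theorem f221 : g 4 • path g [4, 1, 2, 9] p = path g [4, 1, 2] p :=
  H.back (i := 9) (by decide) H.f220

theorem f222 : g 9 • path g [4, 1, 2, 9] p = path g [4, 1, 2, 4] p :=
  scan (u := [9]) (w := [9]) (i := 9) H.r14_1_0 (step H.f220 rfl) (step (H.back (i := 4) (by decide) H.f216) rfl)

theorem f223 : g 4 • path g [4, 1, 2, 4] p = path g [4, 1, 2, 9] p :=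
  H.back (i := 9) (by decide) H.f222

theorem f224 : g 3 • path g [4, 1, 2, 9] p = path g [4, 7, 9] p :=
  scan (u := [9]) (w := [4, 5, 5, 8, 5, 8, 5, 8]) (i := 3) H.r16_0_7 (step H.f220 rfl) (step (H.back (i := 9) (by decide) H.f192) (step (H.back (i := 0) (by decide) H.f105) (step (H.back (i := 0) (by decide) H.f108) (step (H.back (i := 3) (by decide) H.f50) (step (H.back (i := 0) (by decide) H.f125) (step (H.back (i := 3) (by decide) H.f134) (step (H.back (i := 0) (by decide) H.f176) (step (H.back (i := 3) (by decide) H.f187) rfl))))))))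

theorem f225 : g 8 • path g [4, 7, 9] p = path g [4, 1, 2, 9] p :=
  H.back (i := 3) (by decide) H.f224

theorem f226 : g 8 • path g [4, 1, 2, 9] p = path g [4, 7, 9] p :=
  scan (u := [9]) (w := [4, 3, 0, 3, 0, 3, 0, 0]) (i := 8) H.r16_1_0 (step H.f220 rfl) (step (H.back (i := 9) (by decide) H.f192) (step (H.back (i := 8) (by decide) H.f80) (step (H.back (i := 5) (by decide) H.f124) (step (H.back (i := 8) (by decide) H.f136) (step (H.back (i := 5) (by decide) H.f178) (step (H.back (i := 8) (by decide) H.f185) (step (H.back (i := 5) (by decide) H.f95) (step (H.back (i := 5) (by decide) H.f93) rfl))))))))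

theorem f227 : g 3 • path g [4, 7, 9] p = path g [4, 1, 2, 9] p :=
  H.back (i := 8) (by decide) H.f226

theorem f228 : g 4 • path g [4, 1, 7] p = path g [4, 1, 7, 4] p :=
  rfl

theorem f229 : g 9 • path g [4, 1, 7, 4] p = path g [4, 1, 7] p :=
  H.back (i := 4) (by decide) H.f228

theorem f230 : g 8 • path g [4, 1, 7, 4] p = path g [4, 1, 7, 4] p :=
  scan (u := [4]) (w := [9, 0, 0]) (i := 8) H.r15_0_4 (step H.f228 rfl) (step (H.back (i := 4) (by decide) H.f228) (step (H.back (i := 5) (by decide) H.f106) (step (H.back (i := 5) (by decide) H.f107) rfl)))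

theorem f231 : g 3 • path g [4, 1, 7, 4] p = path g [4, 1, 7, 4] p :=
  H.back (i := 8) (by decide) H.f230

theorem f232 : g 9 • path g [4, 1, 7] p = path g [4, 1, 7, 9] p :=
  rfl

theorem f233 : g 4 • path g [4, 1, 7, 9] p = path g [4, 1, 7] p :=
  H.back (i := 9) (by decide) H.f232

theorem f234 : g 9 • path g [4, 1, 7, 9] p = path g [4, 1, 7, 4] p :=
  scan (u := [9]) (w := [9]) (i := 9) H.r14_1_0 (step H.f232 rfl) (step (H.back (i := 4) (by decide) H.f228) rfl)

theorem f235 : g 4 • path g [4, 1, 7, 4] p = path g [4, 1, 7, 9] p :=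
  H.back (i := 9) (by decide) H.f234

theorem f236 : g 4 • path g [4, 2, 0] p = path g [4, 2, 0, 4] p :=
  rfl

theorem f237 : g 9 • path g [4, 2, 0, 4] p = path g [4, 2, 0] p :=
  H.back (i := 4) (by decide) H.f236

theorem f238 : g 8 • path g [4, 2, 0, 4] p = path g [4, 2, 0, 4] p :=
  scan (u := [4]) (w := [9, 0, 0]) (i := 8) H.r15_0_4 (step H.f236 rfl) (step (H.back (i := 4) (by decide) H.f236) (step (H.back (i := 5) (by decide) H.f126) (step (H.back (i := 5) (by decide) H.f124) rfl)))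

theorem f239 : g 3 • path g [4, 2, 0, 4] p = path g [4, 2, 0, 4] p :=
  H.back (i := 8) (by decide) H.f238

theorem f240 : g 9 • path g [4, 2, 0] p = path g [4, 2, 0, 9] p :=
  rfl

theorem f241 : g 4 • path g [4, 2, 0, 9] p = path g [4, 2, 0] p :=
  H.back (i := 9) (by decide) H.f240

theorem f242 : g 9 • path g [4, 2, 0, 9] p = path g [4, 2, 0, 4] p :=
  scan (u := [9]) (w := [9]) (i := 9) H.r14_1_0 (step H.f240 rfl) (step (H.back (i := 4) (by decide) H.f236) rfl)

theorem f243 : g 4 • path g [4, 2, 0, 4] p = path g [4, 2, 0, 9] p :=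
  H.back (i := 9) (by decide) H.f242

theorem f244 : g 3 • path g [4, 2, 0, 9] p = path g [4, 1, 7, 9] p :=
  scan (u := [9]) (w := [4, 5, 5, 8, 5, 8, 5, 8]) (i := 3) H.r16_0_7 (step H.f240 rfl) (step (H.back (i := 9) (by decide) H.f232) (step (H.back (i := 0) (by decide) H.f108) (step (H.back (i := 0) (by decide) H.f105) (step (H.back (i := 3) (by decide) H.f114) (step (H.back (i := 0) (by decide) H.f96) (step (H.back (i := 3) (by decide) H.f184) (step (H.back (i := 0) (by decide) H.f179) (step (H.back (i := 3) (by decide) H.f135) rfl))))))))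

theorem f245 : g 8 • path g [4, 1, 7, 9] p = path g [4, 2, 0, 9] p :=
  H.back (i := 3) (by decide) H.f244

theorem f246 : g 8 • path g [4, 2, 0, 9] p = path g [4, 1, 7, 9] p :=
  scan (u := [9]) (w := [4, 3, 0, 3, 0, 3, 0, 0]) (i := 8) H.r16_1_0 (step H.f240 rfl) (step (H.back (i := 9) (by decide) H.f232) (step (H.back (i := 8) (by decide) H.f115) (step (H.back (i := 5) (by decide) H.f93) (step (H.back (i := 8) (by decide) H.f186) (step (H.back (i := 5) (by decide) H.f177) (step (H.back (i := 8) (by decide) H.f133) (step (H.back (i := 5) (by decide) H.f126) (step (H.back (i := 5) (by decide) H.f124) rfl))))))))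

theorem f247 : g 3 • path g [4, 1, 7, 9] p = path g [4, 2, 0, 9] p :=
  H.back (i := 8) (by decide) H.f246

theorem f248 : g 0 • path g [4, 2, 4] p = path g [4, 2, 4, 0] p :=
  rfl

theorem f249 : g 5 • path g [4, 2, 4, 0] p = path g [4, 2, 4] p :=
  H.back (i := 0) (by decide) H.f248

theorem f250 : g 1 • path g [4, 2, 4] p = path g [4, 2, 4, 1] p :=
  rfl

theorem f251 : g 6 • path g [4, 2, 4, 1] p = path g [4, 2, 4] p :=
  H.back (i := 1) (by decide) H.f250

theorem f252 : g 2 • path g [4, 2, 4] p = path g [4, 2, 4, 2] p :=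
  rfl

theorem f253 : g 7 • path g [4, 2, 4, 2] p = path g [4, 2, 4] p :=
  H.back (i := 2) (by decide) H.f252

theorem f254 : g 5 • path g [4, 2, 4] p = path g [4, 2, 4, 5] p :=
  rfl

theorem f255 : g 0 • path g [4, 2, 4, 5] p = path g [4, 2, 4] p :=
  H.back (i := 5) (by decide) H.f254

theorem f256 : g 6 • path g [4, 2, 4] p = path g [4, 2, 4, 6] p :=
  rfl

theorem f257 : g 1 • path g [4, 2, 4, 6] p = path g [4, 2, 4] p :=
  H.back (i := 6) (by decide) H.f256

theorem f258 : g 7 • path g [4, 2, 4] p = path g [4, 2, 4, 7] p :=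
  rfl

theorem f259 : g 2 • path g [4, 2, 4, 7] p = path g [4, 2, 4] p :=
  H.back (i := 7) (by decide) H.f258

theorem f260 : g 7 • path g [4, 2, 4, 7] p = path g [4, 2, 4, 2] p :=
  scan (u := [7]) (w := [7]) (i := 7) H.r3_1_0 (step H.f258 rfl) (step (H.back (i := 2) (by decide) H.f252) rfl)

theorem f262 : g 0 • path g [4, 2, 9] p = path g [4, 2, 9, 0] p :=
  rfl

theorem f264 : g 0 • path g [4, 2, 9, 0] p = path g [4, 7, 9] p :=
  scan (u := [0]) (w := [4, 8, 9]) (i := 0) H.r15_0_2 (step H.f262 rfl) (step (H.back (i := 9) (by decide) H.f192) (step (H.back (i := 3) (by decide) H.f50) (step (H.back (i := 4) (by decide) H.f169) rfl)))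

theorem f265 : g 5 • path g [4, 7, 9] p = path g [4, 2, 9, 0] p :=
  H.back (i := 0) (by decide) H.f264

theorem f266 : g 1 • path g [4, 2, 9] p = path g [4, 2, 9, 1] p :=
  rfl

theorem f267 : g 6 • path g [4, 2, 9, 1] p = path g [4, 2, 9] p :=
  H.back (i := 1) (by decide) H.f266

theorem f268 : g 1 • path g [4, 2, 9, 1] p = path g [4, 7, 9] p :=
  scan (u := [1]) (w := [5, 5]) (i := 1) H.r1_0_2 (step H.f266 rfl) (step (H.back (i := 0) (by decide) H.f264) (step (H.back (i := 0) (by decide) H.f262) rfl))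

theorem f269 : g 6 • path g [4, 7, 9] p = path g [4, 2, 9, 1] p :=
  H.back (i := 1) (by decide) H.f268

theorem f270 : g 2 • path g [4, 2, 9] p = path g [4, 2, 9, 2] p :=
  rfl

theorem f272 : g 3 • path g [4, 2, 9] p = path g [4, 2, 9, 3] p :=
  rfl

theorem f273 : g 8 • path g [4, 2, 9, 3] p = path g [4, 2, 9] p :=
  H.back (i := 3) (by decide) H.f272

theorem f274 : g 3 • path g [4, 2, 9, 3] p = path g [4, 2, 9] p :=
  scan (u := [3]) (w := []) (i := 3) H.r4_0_0 (step H.f272 rfl) rfl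

theorem f275 : g 8 • path g [4, 2, 9] p = path g [4, 2, 9, 3] p :=
  H.back (i := 3) (by decide) H.f274

theorem f276 : g 4 • path g [4, 2, 9, 3] p = path g [4, 7, 1] p :=
  scan (u := [3]) (w := [5, 5, 8, 5, 8, 5, 8, 9]) (i := 4) H.r16_0_8 (step H.f272 rfl) (step (H.back (i := 0) (by decide) H.f179) (step (H.back (i := 0) (by decide) H.f176) (step (H.back (i := 3) (by decide) H.f187) (step (H.back (i := 0) (by decide) H.f94) (step (H.back (i := 3) (by decide) H.f116) (step (H.back (i := 0) (by decide) H.f108) (step (H.back (i := 3) (by decide) H.f50) (step (H.back (i := 4) (by decide) H.f169) rfl))))))))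

theorem f277 : g 9 • path g [4, 7, 1] p = path g [4, 2, 9, 3] p :=
  H.back (i := 4) (by decide) H.f276

theorem f278 : g 5 • path g [4, 2, 9] p = path g [4, 2, 9, 5] p :=
  rfl

theorem f280 : g 5 • path g [4, 2, 9, 5] p = path g [4, 7, 9] p :=
  scan (u := [5]) (w := [5, 5]) (i := 5) H.r0_1_0 (step H.f278 rfl) (step (H.back (i := 0) (by decide) H.f264) (step (H.back (i := 0) (by decide) H.f262) rfl))

theorem f281 : g 0 • path g [4, 7, 9] p = path g [4, 2, 9, 5] p :=
  H.back (i := 5) (by decide) H.f280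

theorem f282 : g 6 • path g [4, 2, 9] p = path g [4, 2, 9, 6] p :=
  rfl

theorem f283 : g 1 • path g [4, 2, 9, 6] p = path g [4, 2, 9] p :=
  H.back (i := 6) (by decide) H.f282

theorem f284 : g 6 • path g [4, 2, 9, 6] p = path g [4, 7, 9] p :=
  scan (u := [6]) (w := [0, 0]) (i := 6) H.r1_1_0 (step H.f282 rfl) (step (H.back (i := 5) (by decide) H.f280) (step (H.back (i := 5) (by decide) H.f278) rfl))

theorem f285 : g 1 • path g [4, 7, 9] p = path g [4, 2, 9, 6] p :=
  H.back (i := 6) (by decide) H.f284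

theorem f286 : g 7 • path g [4, 2, 9] p = path g [4, 2, 9, 7] p :=
  rfl

theorem f287 : g 2 • path g [4, 2, 9, 7] p = path g [4, 2, 9] p :=
  H.back (i := 7) (by decide) H.f286

theorem f288 : g 7 • path g [4, 2, 9, 7] p = path g [4, 2, 9, 2] p :=
  scan (u := [7]) (w := [7]) (i := 7) H.r3_1_0 (step H.f286 rfl) (step (H.back (i := 2) (by decide) H.f270) rfl)

theorem f290 : g 4 • path g [4, 7, 1] p = path g [4, 7, 1, 4] p :=
  rfl

theorem f291 : g 9 • path g [4, 7, 1, 4] p = path g [4, 7, 1] p :=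
  H.back (i := 4) (by decide) H.f290

theorem f292 : g 4 • path g [4, 7, 1, 4] p = path g [4, 2, 9, 3] p :=
  scan (u := [4]) (w := [4]) (i := 4) H.r14_0_0 (step H.f290 rfl) (step (H.back (i := 9) (by decide) H.f277) rfl)

theorem f293 : g 9 • path g [4, 2, 9, 3] p = path g [4, 7, 1, 4] p :=
  H.back (i := 4) (by decide) H.f292

theorem f294 : g 8 • path g [4, 7, 1, 4] p = path g [4, 7, 1, 4] p :=
  scan (u := [4]) (w := [9, 0, 0]) (i := 8) H.r15_0_4 (step H.f290 rfl) (step (H.back (i := 4) (by decide) H.f290) (step (H.back (i := 5) (by decide) H.f177) (step (H.back (i := 5) (by decide) H.f178) rfl)))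

theorem f295 : g 3 • path g [4, 7, 1, 4] p = path g [4, 7, 1, 4] p :=
  H.back (i := 8) (by decide) H.f294

theorem f296 : g 0 • path g [4, 2, 4, 0] p = path g [4, 7, 1, 4] p :=
  scan (u := [4, 8, 9, 0]) (w := []) (i := 0) H.r15_0_4 (step H.f292 (step H.f273 (step H.f170 (step H.f248 rfl)))) rfl

theorem f297 : g 5 • path g [4, 7, 1, 4] p = path g [4, 2, 4, 0] p :=
  H.back (i := 0) (by decide) H.f296

theorem f298 : g 5 • path g [4, 2, 4, 5] p = path g [4, 7, 1, 4] p :=
  scan (u := [4, 3, 9, 5]) (w := []) (i := 5) H.r15_1_3 (step H.f292 (step H.f274 (step H.f170 (step H.f254 rfl)))) rfl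

theorem f299 : g 0 • path g [4, 7, 1, 4] p = path g [4, 2, 4, 5] p :=
  H.back (i := 5) (by decide) H.f298

theorem f300 : g 1 • path g [4, 7, 1, 4] p = path g [4, 2, 4, 6] p :=
  scan (u := [5]) (w := [1, 5]) (i := 1) H.r1_0_1 (step H.f298 rfl) (step (H.back (i := 6) (by decide) H.f256) (step (H.back (i := 0) (by decide) H.f255) rfl))

theorem f301 : g 6 • path g [4, 2, 4, 6] p = path g [4, 7, 1, 4] p :=
  H.back (i := 1) (by decide) H.f300

theorem f302 : g 6 • path g [4, 7, 1, 4] p = path g [4, 2, 4, 1] p :=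
  scan (u := [0]) (w := [6, 0]) (i := 6) H.r1_1_3 (step H.f296 rfl) (step (H.back (i := 1) (by decide) H.f250) (step (H.back (i := 5) (by decide) H.f249) rfl))

theorem f303 : g 1 • path g [4, 2, 4, 1] p = path g [4, 7, 1, 4] p :=
  H.back (i := 6) (by decide) H.f302

theorem f304 : g 0 • path g [4, 7, 4] p = path g [4, 7, 4, 0] p :=
  rfl

theorem f306 : g 0 • path g [4, 7, 4, 0] p = path g [4, 1, 2, 4] p :=
  scan (u := [0]) (w := [4, 8, 9]) (i := 0) H.r15_0_2 (step H.f304 rfl) (step (H.back (i := 9) (by decide) H.f222) (step (H.back (i := 3) (by decide) H.f227) (step (H.back (i := 4) (by decide) H.f195) rfl)))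

theorem f308 : g 3 • path g [4, 7, 4, 0] p = path g [4, 2, 4, 0] p :=
  scan (u := [0]) (w := [0, 3, 0, 0, 9, 8, 4, 3]) (i := 3) H.r16_1_4 (step H.f304 rfl) (step (H.back (i := 5) (by decide) H.f297) (step (H.back (i := 8) (by decide) H.f294) (step (H.back (i := 5) (by decide) H.f298) (step (H.back (i := 5) (by decide) H.f254) (step (H.back (i := 4) (by decide) H.f164) (step (H.back (i := 3) (by decide) H.f79) (step (H.back (i := 9) (by decide) H.f189) (step (H.back (i := 8) (by decide) H.f190) rfl))))))))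

theorem f309 : g 8 • path g [4, 2, 4, 0] p = path g [4, 7, 4, 0] p :=
  H.back (i := 3) (by decide) H.f308

theorem f310 : g 3 • path g [4, 2, 4, 0] p = path g [4, 7, 4, 0] p :=
  scan (u := [3]) (w := []) (i := 3) H.r4_0_0 (step H.f308 rfl) rfl

theorem f311 : g 8 • path g [4, 7, 4, 0] p = path g [4, 2, 4, 0] p :=
  H.back (i := 3) (by decide) H.f310

theorem f312 : g 1 • path g [4, 7, 4] p = path g [4, 7, 4, 1] p :=
  rfl

theorem f313 : g 6 • path g [4, 7, 4, 1] p = path g [4, 7, 4] p :=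
  H.back (i := 1) (by decide) H.f312

theorem f314 : g 1 • path g [4, 7, 4, 1] p = path g [4, 1, 2, 4] p :=
  scan (u := [1]) (w := [5, 5]) (i := 1) H.r1_0_2 (step H.f312 rfl) (step (H.back (i := 0) (by decide) H.f306) (step (H.back (i := 0) (by decide) H.f304) rfl))

theorem f315 : g 6 • path g [4, 1, 2, 4] p = path g [4, 7, 4, 1] p :=
  H.back (i := 1) (by decide) H.f314

theorem f316 : g 2 • path g [4, 7, 4] p = path g [4, 7, 4, 2] p :=
  rfl

theorem f317 : g 7 • path g [4, 7, 4, 2] p = path g [4, 7, 4] p :=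
  H.back (i := 2) (by decide) H.f316

theorem f318 : g 5 • path g [4, 7, 4] p = path g [4, 7, 4, 5] p :=
  rfl

theorem f319 : g 0 • path g [4, 7, 4, 5] p = path g [4, 7, 4] p :=
  H.back (i := 5) (by decide) H.f318

theorem f320 : g 5 • path g [4, 7, 4, 5] p = path g [4, 1, 2, 4] p :=
  scan (u := [5]) (w := [5, 5]) (i := 5) H.r0_1_0 (step H.f318 rfl) (step (H.back (i := 0) (by decide) H.f306) (step (H.back (i := 0) (by decide) H.f304) rfl))

theorem f324 : g 3 • path g [4, 7, 4, 5] p = path g [4, 2, 4, 5] p :=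
  scan (u := [5]) (w := [0, 0, 3, 5]) (i := 3) H.r13_1_1 (step H.f318 rfl) (step (H.back (i := 5) (by decide) H.f254) (step (H.back (i := 5) (by decide) H.f249) (step (H.back (i := 8) (by decide) H.f311) (step (H.back (i := 0) (by decide) H.f304) rfl))))

theorem f325 : g 8 • path g [4, 2, 4, 5] p = path g [4, 7, 4, 5] p :=
  H.back (i := 3) (by decide) H.f324

theorem f326 : g 6 • path g [4, 7, 4] p = path g [4, 7, 4, 6] p :=
  rfl

theorem f327 : g 1 • path g [4, 7, 4, 6] p = path g [4, 7, 4] p :=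
  H.back (i := 6) (by decide) H.f326

theorem f328 : g 6 • path g [4, 7, 4, 6] p = path g [4, 1, 2, 4] p :=
  scan (u := [6]) (w := [0, 0]) (i := 6) H.r1_1_0 (step H.f326 rfl) (step (H.back (i := 5) (by decide) H.f320) (step (H.back (i := 5) (by decide) H.f318) rfl))

theorem f329 : g 1 • path g [4, 1, 2, 4] p = path g [4, 7, 4, 6] p :=
  H.back (i := 6) (by decide) H.f328

theorem f330 : g 7 • path g [4, 7, 4] p = path g [4, 7, 4, 7] p :=
  rfl

theorem f331 : g 2 • path g [4, 7, 4, 7] p = path g [4, 7, 4] p :=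
  H.back (i := 7) (by decide) H.f330

theorem f332 : g 7 • path g [4, 7, 4, 7] p = path g [4, 7, 4, 2] p :=
  scan (u := [7]) (w := [7]) (i := 7) H.r3_1_0 (step H.f330 rfl) (step (H.back (i := 2) (by decide) H.f316) rfl)

theorem f333 : g 2 • path g [4, 7, 4, 2] p = path g [4, 7, 4, 7] p :=
  H.back (i := 7) (by decide) H.f332

theorem f334 : g 8 • path g [4, 7, 4, 2] p = path g [4, 7, 4, 2] p :=
  scan (u := [7, 7]) (w := [2, 2, 9, 7, 5, 5, 8, 6, 8, 6, 8, 2, 4, 7, 7, 3, 2, 2, 9, 7, 3, 1, 3, 1, 3, 0, 0, 2, 4]) (i := 8) H.r20_0_0 (step H.f330 (step H.f332 rfl)) (step (H.back (i := 7) (by decide) H.f332) (step (H.back (i := 7) (by decide) H.f330) (step (H.back (i := 4) (by decide) H.f188) (step (H.back (i := 2) (by decide) H.f35) (step (H.back (i := 0) (by decide) H.f125) (step (H.back (i := 0) (by decide) H.f123) (step (H.back (i := 3) (by decide) H.f79) (step (H.back (i := 1) (by decide) H.f174) (step (H.back (i := 3) (by decide) H.f187) (step (H.back (i := 1)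 (by decide) H.f127) (step (H.back (i := 3) (by decide) H.f134) (step (H.back (i := 7) (by decide) H.f87) (step (H.back (i := 9) (by decide) H.f12) (step (H.back (i := 2) (by decide) H.f4) (step (H.back (i := 2) (by decide) H.f4) (step (H.back (i := 8) (by decide) H.f7) (step (H.back (i := 7) (by decide) H.f5) (step (H.back (i := 7) (by decide) H.f5) (step (H.back (i := 4) (by decide) H.f13) (step (H.back (i := 2) (by decide) H.f88) (step (H.back (i := 8) (by decide) H.f133) (step (H.back (i := 6) (by decide) H.f128) (step (H.back (i := 8) (by decide) H.f186) (step (H.back (i := 6) (by decide) H.f175) (step (H.back (i := 8) (by decide) H.f80) (step (H.back (i := 5) (by decide) H.f124) (step (H.back (i := 5) (by decide) H.f126) (step (H.back (i := 7) (by decide) H.f34) (step (H.back (i := 9) (by decide) H.f189) rfl)))))))))))))))))))))))))))))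

theorem f335 : g 3 • path g [4, 7, 4, 2] p = path g [4, 7, 4, 2] p :=
  H.back (i := 8) (by decide) H.f334

theorem f336 : g 3 • path g [4, 7, 4, 7] p = path g [4, 7, 4, 7] p :=
  scan (u := [2, 3, 2, 8, 7, 8, 7]) (w := []) (i := 3) H.r10_0_5 (step H.f331 (step H.f191 (step H.f316 (step H.f334 (step H.f317 (step H.f190 (step H.f330 rfl))))))) rfl

theorem f338 : g 2 • path g [4, 7, 9] p = path g [4, 7, 9, 2] p :=
  rfl

theorem f340 : g 7 • path g [4, 7, 9] p = path g [4, 7, 9, 7] p :=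
  rfl

theorem f341 : g 2 • path g [4, 7, 9, 7] p = path g [4, 7, 9] p :=
  H.back (i := 7) (by decide) H.f340

theorem f342 : g 7 • path g [4, 7, 9, 7] p = path g [4, 7, 9, 2] p :=
  scan (u := [7]) (w := [7]) (i := 7) H.r3_1_0 (step H.f340 rfl) (step (H.back (i := 2) (by decide) H.f338) rfl)

theorem f344 : g 0 • path g [9, 2, 4] p = path g [9, 2, 4, 0] p :=
  rfl

theorem f345 : g 5 • path g [9, 2, 4, 0] p = path g [9, 2, 4] p :=
  H.back (i := 0) (by decide) H.f344

theorem f346 : g 0 • path g [9, 2, 4, 0] p = path g [9, 7, 4] p :=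
  scan (u := [0]) (w := [4, 8, 9]) (i := 0) H.r15_0_2 (step H.f344 rfl) (step (H.back (i := 9) (by decide) H.f210) (step (H.back (i := 3) (by decide) H.f215) (step (H.back (i := 4) (by decide) H.f203) rfl)))

theorem f347 : g 5 • path g [9, 7, 4] p = path g [9, 2, 4, 0] p :=
  H.back (i := 0) (by decide) H.f346

theorem f348 : g 1 • path g [9, 2, 4] p = path g [9, 2, 4, 1] p :=
  rfl

theorem f349 : g 6 • path g [9, 2, 4, 1] p = path g [9, 2, 4] p :=
  H.back (i := 1) (by decide) H.f348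

theorem f350 : g 1 • path g [9, 2, 4, 1] p = path g [9, 7, 4] p :=
  scan (u := [1]) (w := [5, 5]) (i := 1) H.r1_0_2 (step H.f348 rfl) (step (H.back (i := 0) (by decide) H.f346) (step (H.back (i := 0) (by decide) H.f344) rfl))

theorem f352 : g 3 • path g [9, 2, 4, 1] p = path g [4, 2, 4, 6] p :=
  scan (u := [1]) (w := [1, 3, 0, 0, 9, 5, 5, 8, 6, 8, 6, 8, 4, 3]) (i := 3) H.r17_1_10 (step H.f348 rfl) (step (H.back (i := 6) (by decide) H.f256) (step (H.back (i := 8) (by decide) H.f166) (step (H.back (i := 5) (by decide) H.f249) (step (H.back (i := 5) (by decide) H.f297) (step (H.back (i := 4) (by decide) H.f290) (step (H.back (i := 0) (by decide) H.f179) (step (H.back (i := 0) (by decide) H.f176) (step (H.back (i := 3) (by decide) H.f187) (step (H.back (i := 1) (by decide) H.f127) (step (H.back (i := 3) (by decide) H.f134) (step (H.back (i := 1) (by decide) H.f109) (step (H.back (i := 3) (by decide) H.f114) (step (H.back (i := 9) (by decide) H.f197) (step (H.back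 (i := 8) (by decide) H.f198) rfl))))))))))))))

theorem f353 : g 8 • path g [4, 2, 4, 6] p = path g [9, 2, 4, 1] p :=
  H.back (i := 3) (by decide) H.f352

theorem f354 : g 3 • path g [4, 2, 4, 6] p = path g [9, 2, 4, 1] p :=
  scan (u := [3]) (w := []) (i := 3) H.r4_0_0 (step H.f352 rfl) rfl

theorem f355 : g 8 • path g [9, 2, 4, 1] p = path g [4, 2, 4, 6] p :=
  H.back (i := 3) (by decide) H.f354

theorem f356 : g 2 • path g [9, 2, 4] p = path g [9, 2, 4, 2] p :=
  rfl

theorem f357 : g 7 • path g [9, 2, 4, 2] p = path g [9, 2, 4] p :=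
  H.back (i := 2) (by decide) H.f356

theorem f358 : g 5 • path g [9, 2, 4] p = path g [9, 2, 4, 5] p :=
  rfl

theorem f360 : g 5 • path g [9, 2, 4, 5] p = path g [9, 7, 4] p :=
  scan (u := [5]) (w := [5, 5]) (i := 5) H.r0_1_0 (step H.f358 rfl) (step (H.back (i := 0) (by decide) H.f346) (step (H.back (i := 0) (by decide) H.f344) rfl))

theorem f361 : g 0 • path g [9, 7, 4] p = path g [9, 2, 4, 5] p :=
  H.back (i := 5) (by decide) H.f360

theorem f362 : g 6 • path g [9, 2, 4] p = path g [9, 2, 4, 6] p :=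
  rfl

theorem f363 : g 1 • path g [9, 2, 4, 6] p = path g [9, 2, 4] p :=
  H.back (i := 6) (by decide) H.f362

theorem f364 : g 6 • path g [9, 2, 4, 6] p = path g [9, 7, 4] p :=
  scan (u := [6]) (w := [0, 0]) (i := 6) H.r1_1_0 (step H.f362 rfl) (step (H.back (i := 5) (by decide) H.f360) (step (H.back (i := 5) (by decide) H.f358) rfl))

theorem f365 : g 1 • path g [9, 7, 4] p = path g [9, 2, 4, 6] p :=
  H.back (i := 6) (by decide) H.f364

theorem f366 : g 3 • path g [9, 2, 4, 6] p = path g [4, 2, 4, 1] p :=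
  scan (u := [6]) (w := [1, 3, 1, 8, 6, 8]) (i := 3) H.r9_0_3 (step H.f362 rfl) (step (H.back (i := 6) (by decide) H.f302) (step (H.back (i := 8) (by decide) H.f294) (step (H.back (i := 6) (by decide) H.f301) (step (H.back (i := 3) (by decide) H.f352) (step (H.back (i := 1) (by decide) H.f348) (step (H.back (i := 3) (by decide) H.f199) rfl))))))

theorem f367 : g 8 • path g [4, 2, 4, 1] p = path g [9, 2, 4, 6] p :=
  H.back (i := 3) (by decide) H.f366

theorem f368 : g 8 • path g [9, 2, 4, 6] p = path g [4, 2, 4, 1] p :=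
  scan (u := [6]) (w := [1, 3, 1, 3, 6, 8]) (i := 8) H.r9_1_2 (step H.f362 rfl) (step (H.back (i := 6) (by decide) H.f302) (step (H.back (i := 8) (by decide) H.f294) (step (H.back (i := 6) (by decide) H.f301) (step (H.back (i := 8) (by decide) H.f355) (step (H.back (i := 1) (by decide) H.f348) (step (H.back (i := 3) (by decide) H.f199) rfl))))))

theorem f370 : g 7 • path g [9, 2, 4] p = path g [9, 2, 4, 7] p :=
  rfl

theorem f372 : g 7 • path g [9, 2, 4, 7] p = path g [9, 2, 4, 2] p :=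
  scan (u := [7]) (w := [7]) (i := 7) H.r3_1_0 (step H.f370 rfl) (step (H.back (i := 2) (by decide) H.f356) rfl)

theorem f373 : g 2 • path g [9, 2, 4, 2] p = path g [9, 2, 4, 7] p :=
  H.back (i := 7) (by decide) H.f372

theorem f374 : g 0 • path g [9, 2, 9] p = path g [9, 2, 9, 0] p :=
  rfl

theorem f376 : g 0 • path g [9, 2, 9, 0] p = path g [4, 1, 7, 9] p :=
  scan (u := [0]) (w := [4, 8, 9]) (i := 0) H.r15_0_2 (step H.f374 rfl) (step (H.back (i := 9) (by decide) H.f232) (step (H.back (i := 3) (by decide) H.f114) (step (H.back (i := 4) (by decide) H.f201) rfl)))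

theorem f377 : g 5 • path g [4, 1, 7, 9] p = path g [9, 2, 9, 0] p :=
  H.back (i := 0) (by decide) H.f376

theorem f378 : g 1 • path g [9, 2, 9] p = path g [9, 2, 9, 1] p :=
  rfl

theorem f379 : g 6 • path g [9, 2, 9, 1] p = path g [9, 2, 9] p :=
  H.back (i := 1) (by decide) H.f378

theorem f380 : g 1 • path g [9, 2, 9, 1] p = path g [4, 1, 7, 9] p :=
  scan (u := [1]) (w := [5, 5]) (i := 1) H.r1_0_2 (step H.f378 rfl) (step (H.back (i := 0) (by decide) H.f376) (step (H.back (i := 0) (by decide) H.f374) rfl))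

theorem f381 : g 6 • path g [4, 1, 7, 9] p = path g [9, 2, 9, 1] p :=
  H.back (i := 1) (by decide) H.f380

theorem f382 : g 2 • path g [9, 2, 9] p = path g [9, 2, 9, 2] p :=
  rfl

theorem f384 : g 5 • path g [9, 2, 9] p = path g [9, 2, 9, 5] p :=
  rfl

theorem f385 : g 0 • path g [9, 2, 9, 5] p = path g [9, 2, 9] p :=
  H.back (i := 5) (by decide) H.f384

theorem f386 : g 5 • path g [9, 2, 9, 5] p = path g [4, 1, 7, 9] p :=
  scan (u := [5]) (w := [5, 5]) (i := 5) H.r0_1_0 (step H.f384 rfl) (step (H.back (i := 0) (by decide) H.f376) (step (H.back (i := 0) (by decide) H.f374) rfl))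

theorem f387 : g 0 • path g [4, 1, 7, 9] p = path g [9, 2, 9, 5] p :=
  H.back (i := 5) (by decide) H.f386

theorem f388 : g 6 • path g [9, 2, 9] p = path g [9, 2, 9, 6] p :=
  rfl

theorem f389 : g 1 • path g [9, 2, 9, 6] p = path g [9, 2, 9] p :=
  H.back (i := 6) (by decide) H.f388

theorem f390 : g 6 • path g [9, 2, 9, 6] p = path g [4, 1, 7, 9] p :=
  scan (u := [6]) (w := [0, 0]) (i := 6) H.r1_1_0 (step H.f388 rfl) (step (H.back (i := 5) (by decide) H.f386) (step (H.back (i := 5) (by decide) H.f384) rfl))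

theorem f391 : g 1 • path g [4, 1, 7, 9] p = path g [9, 2, 9, 6] p :=
  H.back (i := 6) (by decide) H.f390

theorem f392 : g 7 • path g [9, 2, 9] p = path g [9, 2, 9, 7] p :=
  rfl

theorem f394 : g 7 • path g [9, 2, 9, 7] p = path g [9, 2, 9, 2] p :=
  scan (u := [7]) (w := [7]) (i := 7) H.r3_1_0 (step H.f392 rfl) (step (H.back (i := 2) (by decide) H.f382) rfl)

theorem f396 : g 2 • path g [9, 7, 4] p = path g [9, 7, 4, 2] p :=
  rfl

theorem f397 : g 7 • path g [9, 7, 4, 2] p = path g [9, 7, 4] p :=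
  H.back (i := 2) (by decide) H.f396

theorem f398 : g 7 • path g [9, 7, 4] p = path g [9, 7, 4, 7] p :=
  rfl

theorem f400 : g 7 • path g [9, 7, 4, 7] p = path g [9, 7, 4, 2] p :=
  scan (u := [7]) (w := [7]) (i := 7) H.r3_1_0 (step H.f398 rfl) (step (H.back (i := 2) (by decide) H.f396) rfl)

theorem f401 : g 2 • path g [9, 7, 4, 2] p = path g [9, 7, 4, 7] p :=
  H.back (i := 7) (by decide) H.f400

theorem f402 : g 0 • path g [9, 7, 9] p = path g [9, 7, 9, 0] p :=
  rfl

theorem f404 : g 0 • path g [9, 7, 9, 0] p = path g [4, 2, 0, 9] p :=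
  scan (u := [0]) (w := [4, 8, 9]) (i := 0) H.r15_0_2 (step H.f402 rfl) (step (H.back (i := 9) (by decide) H.f240) (step (H.back (i := 3) (by decide) H.f134) (step (H.back (i := 4) (by decide) H.f209) rfl)))

theorem f405 : g 5 • path g [4, 2, 0, 9] p = path g [9, 7, 9, 0] p :=
  H.back (i := 0) (by decide) H.f404

theorem f412 : g 1 • path g [9, 7, 9] p = path g [9, 7, 9, 1] p :=
  rfl

theorem f413 : g 6 • path g [9, 7, 9, 1] p = path g [9, 7, 9] p :=
  H.back (i := 1) (by decide) H.f412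

theorem f414 : g 1 • path g [9, 7, 9, 1] p = path g [4, 2, 0, 9] p :=
  scan (u := [1]) (w := [5, 5]) (i := 1) H.r1_0_2 (step H.f412 rfl) (step (H.back (i := 0) (by decide) H.f404) (step (H.back (i := 0) (by decide) H.f402) rfl))

theorem f415 : g 6 • path g [4, 2, 0, 9] p = path g [9, 7, 9, 1] p :=
  H.back (i := 1) (by decide) H.f414

theorem f416 : g 3 • path g [4, 2, 9, 1] p = path g [9, 7, 9, 1] p :=
  scan (u := [1, 3, 0, 0, 4, 5, 5, 8, 6, 8, 6, 8, 9, 3, 1]) (w := []) (i := 3) H.r17_0_11 (step H.f414 (step H.f244 (step H.f387 (step H.f385 (step H.f201 (step H.f95 (step H.f93 (step H.f115 (step H.f111 (step H.f136 (step H.f129 (step H.f185 (step H.f277 (step H.f274 (step H.f266 rfl))))))))))))))) rfl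

theorem f417 : g 8 • path g [9, 7, 9, 1] p = path g [4, 2, 9, 1] p :=
  H.back (i := 3) (by decide) H.f416

theorem f418 : g 5 • path g [4, 2, 9, 1] p = path g [9, 2, 4, 1] p :=
  scan (u := [6, 8]) (w := [6, 8, 9, 6, 8, 5, 6, 8, 9]) (i := 5) H.r18_1_0 (step H.f415 (step H.f417 rfl)) (step (H.back (i := 1) (by decide) H.f348) (step (H.back (i := 3) (by decide) H.f199) (step (H.back (i := 4) (by decide) H.f196) (step (H.back (i := 1) (by decide) H.f84) (step (H.back (i := 3) (by decide) H.f79) (step (H.back (i := 0) (by decide) H.f105) (step (H.back (i := 1) (by decide) H.f112) (step (H.back (i := 3) (by decide) H.f135) (step (H.back (i := 4) (by decide) H.f241) rfl)))))))))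

theorem f419 : g 0 • path g [9, 2, 4, 1] p = path g [4, 2, 9, 1] p :=
  H.back (i := 5) (by decide) H.f418

theorem f420 : g 5 • path g [9, 2, 4, 1] p = path g [4, 2, 9, 6] p :=
  scan (u := [5]) (w := [1, 1]) (i := 5) H.r1_0_0 (step H.f418 rfl) (step (H.back (i := 6) (by decide) H.f282) (step (H.back (i := 6) (by decide) H.f267) rfl))

theorem f421 : g 0 • path g [4, 2, 9, 6] p = path g [9, 2, 4, 1] p :=
  H.back (i := 5) (by decide) H.f420

theorem f422 : g 5 • path g [9, 2, 4, 6] p = path g [4, 2, 9, 1] p :=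
  scan (u := [5, 1, 1]) (w := []) (i := 5) H.r1_0_1 (step H.f418 (step H.f350 (step H.f365 rfl))) rfl

theorem f423 : g 0 • path g [4, 2, 9, 1] p = path g [9, 2, 4, 6] p :=
  H.back (i := 5) (by decide) H.f422

theorem f424 : path g [9, 2, 4, 5] p = path g [4, 2, 9] p :=
  close (u := [5, 6, 5]) (w := [1]) H.r2_1_0 (step H.f418 (step H.f349 (step H.f358 rfl))) (step (H.back (i := 6) (by decide) H.f267) rfl)

theorem f427 : g 5 • path g [4, 2, 9] p = path g [9, 7, 4] p :=
  (congrArg (g 5 • ·) H.f424.symm).trans H.f360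

theorem f428 : path g [4, 2, 9, 5] p = path g [9, 7, 4] p :=
  H.f278.symm.trans H.f427

theorem f430 : g 0 • path g [9, 7, 4] p = path g [4, 2, 9] p :=
  H.f361.trans H.f424

theorem f432 : g 5 • path g [9, 7, 4] p = path g [4, 7, 9] p :=
  (congrArg (g 5 • ·) H.f428.symm).trans H.f280

theorem f433 : path g [9, 2, 4, 0] p = path g [4, 7, 9] p :=
  H.f347.symm.trans H.f432

theorem f434 : g 5 • path g [4, 7, 9] p = path g [9, 2, 4] p :=
  (congrArg (g 5 • ·) H.f433.symm).trans H.f345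

theorem f435 : path g [4, 2, 9, 0] p = path g [9, 2, 4] p :=
  H.f265.symm.trans H.f434

theorem f437 : g 0 • path g [4, 7, 9] p = path g [9, 7, 4] p :=
  H.f281.trans H.f428

theorem f440 : g 5 • path g [9, 2, 4] p = path g [4, 2, 9] p :=
  H.f358.trans H.f424

theorem f443 : g 0 • path g [9, 2, 4] p = path g [4, 7, 9] p :=
  H.f344.trans H.f433

theorem f445 : g 5 • path g [9, 7, 4] p = path g [4, 7, 9] p :=
  H.f347.trans H.f433

theorem f446 : path g [4, 7, 4, 0] p = path g [4, 2, 0, 9] p :=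
  close (u := [5, 3, 1, 3, 0, 8]) (w := [6, 8]) H.r8_0_3 (step H.f418 (step H.f352 (step H.f257 (step H.f167 (step H.f248 (step H.f309 rfl)))))) (step (H.back (i := 1) (by decide) H.f414) (step (H.back (i := 3) (by decide) H.f416) rfl))

theorem f449 : g 0 • path g [4, 2, 0, 9] p = path g [4, 1, 2, 4] p :=
  (congrArg (g 0 • ·) H.f446.symm).trans H.f306

theorem f451 : g 5 • path g [4, 1, 2, 4] p = path g [4, 2, 0, 9] p :=
  H.back (i := 0) (by decide) H.f449

theorem f454 : g 8 • path g [4, 2, 0, 9] p = path g [4, 2, 4, 0] p :=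
  (congrArg (g 8 • ·) H.f446.symm).trans H.f311

theorem f455 : path g [4, 1, 7, 9] p = path g [4, 2, 4, 0] p :=
  H.f246.symm.trans H.f454

theorem f456 : path g [4, 2, 4, 0] p = path g [4, 1, 7, 9] p :=
  H.f455.symm

theorem f459 : g 0 • path g [4, 1, 7, 9] p = path g [4, 7, 1, 4] p :=
  (congrArg (g 0 • ·) H.f456.symm).trans H.f296

theorem f460 : path g [9, 2, 9, 5] p = path g [4, 7, 1, 4] p :=
  H.f387.symm.trans H.f459

theorem f467 : g 0 • path g [4, 7, 1, 4] p = path g [9, 2, 9] p :=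
  (congrArg (g 0 • ·) H.f460.symm).trans H.f385

theorem f468 : path g [4, 2, 4, 5] p = path g [9, 2, 9] p :=
  H.f299.symm.trans H.f467

theorem f470 : g 5 • path g [4, 7, 1, 4] p = path g [4, 1, 7, 9] p :=
  H.f297.trans H.f456

theorem f478 : g 0 • path g [9, 2, 9] p = path g [4, 2, 4] p :=
  (congrArg (g 0 • ·) H.f468.symm).trans H.f255

theorem f479 : path g [9, 2, 9, 0] p = path g [4, 2, 4] p :=
  H.f374.symm.trans H.f478

theorem f481 : g 5 • path g [9, 2, 9] p = path g [4, 7, 1, 4] p :=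
  H.f384.trans H.f460

theorem f485 : g 8 • path g [9, 2, 9] p = path g [4, 7, 4, 5] p :=
  (congrArg (g 8 • ·) H.f468.symm).trans H.f325

theorem f486 : path g [9, 7, 9] p = path g [4, 7, 4, 5] p :=
  H.f213.symm.trans H.f485

theorem f487 : path g [4, 7, 4, 5] p = path g [9, 7, 9] p :=
  H.f486.symm

theorem f488 : g 0 • path g [9, 7, 9] p = path g [4, 7, 4] p :=
  (congrArg (g 0 • ·) H.f487.symm).trans H.f319

theorem f489 : path g [9, 7, 9, 0] p = path g [4, 7, 4] p :=
  H.f402.symm.trans H.f488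

theorem f490 : g 5 • path g [9, 7, 9] p = path g [4, 1, 2, 4] p :=
  (congrArg (g 5 • ·) H.f487.symm).trans H.f320

theorem f492 : g 0 • path g [4, 1, 2, 4] p = path g [9, 7, 9] p :=
  H.back (i := 5) (by decide) H.f490

theorem f500 : g 5 • path g [4, 7, 4] p = path g [9, 7, 9] p :=
  H.f318.trans H.f487

theorem f503 : g 0 • path g [4, 7, 4] p = path g [4, 2, 0, 9] p :=
  H.f304.trans H.f446

theorem f512 : g 5 • path g [4, 2, 4] p = path g [9, 2, 9] p :=
  H.f254.trans H.f468

theorem f515 : g 0 • path g [4, 2, 4] p = path g [4, 1, 7, 9] p :=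
  H.f248.trans H.f456

theorem f523 : g 0 • path g [4, 7, 1, 4] p = path g [9, 2, 9] p :=
  H.f299.trans H.f468

theorem f524 : g 3 • path g [9, 7, 9, 1] p = path g [4, 2, 9, 1] p :=
  scan (u := [5, 8, 6, 8, 0, 3, 1]) (w := []) (i := 3) H.r8_1_0 (step H.f418 (step H.f355 (step H.f301 (step H.f294 (step H.f523 (step H.f215 (step H.f412 rfl))))))) rfl

theorem f525 : g 8 • path g [4, 2, 9, 1] p = path g [9, 7, 9, 1] p :=
  H.back (i := 3) (by decide) H.f524

theorem f526 : g 0 • path g [9, 2, 4, 6] p = path g [4, 2, 9, 6] p :=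
  scan (u := [0, 0]) (w := [0]) (i := 0) H.r0_0_0 (step H.f419 (step H.f423 rfl)) (step (H.back (i := 5) (by decide) H.f420) rfl)

theorem f528 : g 0 • path g [4, 2, 9] p = path g [9, 2, 4] p :=
  H.f262.trans H.f435

theorem f529 : g 5 • path g [4, 1, 7, 9] p = path g [4, 2, 4] p :=
  H.f377.trans H.f479

theorem f530 : g 0 • path g [4, 7, 4, 1] p = path g [9, 7, 9, 1] p :=
  scan (u := [3, 1, 4, 3, 1, 0, 3, 1, 4, 3, 1]) (w := []) (i := 0) H.r18_0_4 (step H.f524 (step H.f268 (step H.f193 (step H.f79 (step H.f84 (step H.f94 (step H.f187 (step H.f174 (step H.f188 (step H.f191 (step H.f312 rfl))))))))))) rfl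

theorem f531 : g 5 • path g [9, 7, 9, 1] p = path g [4, 7, 4, 1] p :=
  H.back (i := 0) (by decide) H.f530

theorem f532 : g 0 • path g [4, 1, 7, 9] p = path g [4, 7, 1, 4] p :=
  H.f387.trans H.f460

theorem f533 : path g [4, 7, 4, 7] p = path g [4, 7, 4] p :=
  close (u := [3, 1, 4, 3, 2, 3, 2, 3, 1, 0, 3, 1, 4, 3, 2, 3, 2, 3]) (w := [1, 0]) H.r19_0_7 (step H.f524 (step H.f268 (step H.f193 (step H.f79 (step H.f35 (step H.f79 (step H.f35 (step H.f79 (step H.f84 (step H.f94 (step H.f187 (step H.f174 (step H.f188 (step H.f191 (step H.f316 (step H.f335 (step H.f333 (step H.f336 rfl)))))))))))))))))) (step (H.back (i := 6) (by decide) H.f313) (step (H.back (i := 5) (by decide) H.f531) rfl))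

theorem f536 : g 7 • path g [4, 7, 4] p = path g [4, 7, 4, 2] p :=
  (congrArg (g 7 • ·) H.f533.symm).trans H.f332

theorem f537 : g 7 • path g [4, 7, 4] p = path g [4, 7, 4] p :=
  H.f330.trans H.f533

theorem f538 : path g [4, 7, 4] p = path g [4, 7, 4, 2] p :=
  H.f537.symm.trans H.f536

theorem f545 : path g [4, 7, 4, 2] p = path g [4, 7, 4] p :=
  H.f538.symm

theorem f550 : g 2 • path g [4, 7, 4] p = path g [4, 7, 4] p :=
  H.f316.trans H.f545

theorem f558 : g 0 • path g [9, 2, 9] p = path g [4, 2, 4] p :=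
  H.f374.trans H.f479

theorem f559 : g 0 • path g [9, 7, 9, 1] p = path g [4, 7, 4, 6] p :=
  scan (u := [0]) (w := [6, 6]) (i := 0) H.r1_1_2 (step H.f530 rfl) (step (H.back (i := 1) (by decide) H.f329) (step (H.back (i := 1) (by decide) H.f314) rfl))

theorem f560 : g 5 • path g [4, 7, 4, 6] p = path g [9, 7, 9, 1] p :=
  H.back (i := 0) (by decide) H.f559

theorem f561 : g 0 • path g [9, 7, 9] p = path g [4, 7, 4] p :=
  H.f402.trans H.f489

theorem f562 : g 7 • path g [9, 7, 9, 1] p = path g [4, 7, 4, 1] p :=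
  scan (u := [0]) (w := [6, 2, 1]) (i := 7) H.r6_1_4 (step H.f530 rfl) (step (H.back (i := 1) (by decide) H.f312) (step (H.back (i := 7) (by decide) H.f537) (step (H.back (i := 6) (by decide) H.f313) rfl)))

theorem f563 : g 2 • path g [4, 7, 4, 1] p = path g [9, 7, 9, 1] p :=
  H.back (i := 7) (by decide) H.f562

theorem f564 : g 7 • path g [4, 2, 0, 9] p = path g [9, 7, 9, 1] p :=
  scan (u := [5, 2, 1]) (w := []) (i := 7) H.r5_1_1 (step H.f531 (step H.f563 (step H.f414 rfl))) rfl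

theorem f565 : g 2 • path g [9, 7, 9, 1] p = path g [4, 2, 0, 9] p :=
  H.back (i := 7) (by decide) H.f564

theorem f566 : g 7 • path g [4, 7, 4, 1] p = path g [4, 2, 0, 9] p :=
  scan (u := [7, 7]) (w := []) (i := 7) H.r3_1_0 (step H.f564 (step H.f562 rfl)) rfl

theorem f567 : g 2 • path g [4, 2, 0, 9] p = path g [4, 7, 4, 1] p :=
  H.back (i := 7) (by decide) H.f566

theorem f568 : g 5 • path g [4, 2, 0, 9] p = path g [4, 7, 4] p :=
  H.f405.trans H.f489

theorem f569 : g 2 • path g [9, 7, 9] p = path g [4, 7, 4, 6] p :=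
  scan (u := [7, 6]) (w := [1, 0]) (i := 2) H.r6_1_0 (step H.f564 (step H.f413 rfl)) (step (H.back (i := 6) (by decide) H.f326) (step (H.back (i := 5) (by decide) H.f568) rfl))

theorem f570 : g 7 • path g [4, 7, 4, 6] p = path g [9, 7, 9] p :=
  H.back (i := 2) (by decide) H.f569

theorem f571 : path g [4, 2, 4, 6] p = path g [4, 2, 4, 7] p :=
  close (u := [7, 8, 5, 3]) (w := [2, 3, 0, 8]) H.r11_0_1 (step H.f564 (step H.f417 (step H.f418 (step H.f352 rfl)))) (step (H.back (i := 7) (by decide) H.f258) (step (H.back (i := 8) (by decide) H.f166) (step (H.back (i := 5) (by decide) H.f529) (step (H.back (i := 3) (by decide) H.f244) rfl))))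

theorem f572 : path g [4, 2, 4, 7] p = path g [4, 2, 4, 6] p :=
  H.f571.symm

theorem f573 : g 2 • path g [4, 2, 4, 6] p = path g [4, 2, 4] p :=
  (congrArg (g 2 • ·) H.f572.symm).trans H.f259

theorem f575 : g 7 • path g [4, 2, 4] p = path g [4, 2, 4, 6] p :=
  H.back (i := 2) (by decide) H.f573

theorem f576 : g 7 • path g [4, 2, 4, 6] p = path g [4, 2, 4, 2] p :=
  (congrArg (g 7 • ·) H.f572.symm).trans H.f260

theorem f578 : g 2 • path g [4, 2, 4, 2] p = path g [4, 2, 4, 6] p :=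
  H.back (i := 7) (by decide) H.f576

theorem f579 : g 2 • path g [4, 2, 4, 1] p = path g [4, 7, 1, 4] p :=
  scan (u := [7, 8, 0, 3]) (w := [3, 5, 8]) (i := 2) H.r11_1_2 (step H.f564 (step H.f417 (step H.f423 (step H.f366 rfl)))) (step (H.back (i := 8) (by decide) H.f294) (step (H.back (i := 0) (by decide) H.f532) (step (H.back (i := 3) (by decide) H.f244) rfl)))

theorem f580 : g 7 • path g [4, 7, 1, 4] p = path g [4, 2, 4, 1] p :=
  H.back (i := 2) (by decide) H.f579

theorem f581 : g 5 • path g [4, 2, 4, 2] p = path g [4, 2, 4, 1] p :=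
  scan (u := [2, 1, 7]) (w := []) (i := 5) H.r5_1_2 (step H.f579 (step H.f300 (step H.f576 rfl))) rfl

theorem f582 : g 0 • path g [4, 2, 4, 1] p = path g [4, 2, 4, 2] p :=
  H.back (i := 5) (by decide) H.f581

theorem f583 : path g [9, 2, 9, 1] p = path g [4, 2, 4, 2] p :=
  close (u := [2, 5, 6]) (w := [7, 1]) H.r6_0_4 (step H.f579 (step H.f470 (step H.f381 rfl))) (step (H.back (i := 2) (by decide) H.f252) (step (H.back (i := 6) (by decide) H.f251) rfl))

theorem f584 : g 6 • path g [4, 2, 4, 2] p = path g [9, 2, 9] p :=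
  (congrArg (g 6 • ·) H.f583.symm).trans H.f379

theorem f586 : g 1 • path g [9, 2, 9] p = path g [4, 2, 4, 2] p :=
  H.back (i := 6) (by decide) H.f584

theorem f587 : g 1 • path g [4, 2, 4, 2] p = path g [4, 1, 7, 9] p :=
  (congrArg (g 1 • ·) H.f583.symm).trans H.f380

theorem f589 : g 6 • path g [4, 1, 7, 9] p = path g [4, 2, 4, 2] p :=
  H.back (i := 1) (by decide) H.f587

theorem f590 : path g [9, 2, 4, 1] p = path g [9, 2, 4, 2] p :=
  close (u := [2, 3, 1, 8]) (w := [7, 8, 6, 3]) H.r12_0_5 (step H.f579 (step H.f295 (step H.f300 (step H.f353 rfl)))) (step (H.back (i := 2) (by decide) H.f356) (step (H.back (i := 3) (by decide) H.f199) (step (H.back (i := 1) (by decide) H.f363) (step (H.back (i := 8) (by decide) H.f367) rfl))))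

theorem f591 : path g [9, 2, 4, 2] p = path g [9, 2, 4, 1] p :=
  H.f590.symm

theorem f592 : g 7 • path g [9, 2, 4, 1] p = path g [9, 2, 4] p :=
  (congrArg (g 7 • ·) H.f591.symm).trans H.f357

theorem f594 : g 2 • path g [9, 2, 4] p = path g [9, 2, 4, 1] p :=
  H.back (i := 7) (by decide) H.f592

theorem f595 : g 2 • path g [9, 2, 4, 1] p = path g [9, 2, 4, 7] p :=
  (congrArg (g 2 • ·) H.f591.symm).trans H.f373

theorem f597 : g 7 • path g [9, 2, 4, 7] p = path g [9, 2, 4, 1] p :=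
  H.back (i := 2) (by decide) H.f595

theorem f598 : path g [9, 2, 4, 6] p = path g [9, 7, 4, 2] p :=
  close (u := [2, 3, 6, 8]) (w := [7, 8, 1, 3]) H.r12_1_6 (step H.f579 (step H.f295 (step H.f302 (step H.f367 rfl)))) (step (H.back (i := 2) (by decide) H.f396) (step (H.back (i := 3) (by decide) H.f207) (step (H.back (i := 6) (by decide) H.f364) (step (H.back (i := 8) (by decide) H.f367) rfl))))

theorem f599 : path g [9, 7, 4, 2] p = path g [9, 2, 4, 6] p :=
  H.f598.symm

theorem f600 : g 7 • path g [9, 2, 4, 6] p = path g [9, 7, 4] p :=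
  (congrArg (g 7 • ·) H.f599.symm).trans H.f397

theorem f602 : g 2 • path g [9, 7, 4] p = path g [9, 2, 4, 6] p :=
  H.back (i := 7) (by decide) H.f600

theorem f603 : g 2 • path g [9, 2, 4, 6] p = path g [9, 7, 4, 7] p :=
  (congrArg (g 2 • ·) H.f599.symm).trans H.f401

theorem f605 : g 7 • path g [9, 7, 4, 7] p = path g [9, 2, 4, 6] p :=
  H.back (i := 2) (by decide) H.f603

theorem f606 : path g [9, 7, 4, 7] p = path g [4, 7, 9] p :=
  close (u := [2]) (w := [5, 6, 7, 1]) H.r6_0_4 (step H.f603 rfl) (step (H.back (i := 0) (by decide) H.f443) (step (H.back (i := 1) (by decide) H.f363) (step (H.back (i := 2) (by decide) H.f602) (step (H.back (i := 6) (by decide) H.f364) rfl))))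

theorem f609 : g 7 • path g [4, 7, 9] p = path g [9, 2, 4, 6] p :=
  (congrArg (g 7 • ·) H.f606.symm).trans H.f605

theorem f610 : path g [4, 7, 9, 7] p = path g [9, 2, 4, 6] p :=
  H.f340.symm.trans H.f609

theorem f611 : path g [9, 2, 4, 6] p = path g [4, 7, 9, 7] p :=
  H.f610.symm

theorem f612 : g 1 • path g [4, 7, 9, 7] p = path g [9, 2, 4] p :=
  (congrArg (g 1 • ·) H.f611.symm).trans H.f363

theorem f614 : g 6 • path g [9, 2, 4] p = path g [4, 7, 9, 7] p :=
  H.back (i := 1) (by decide) H.f612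

theorem f615 : g 6 • path g [4, 7, 9, 7] p = path g [9, 7, 4] p :=
  (congrArg (g 6 • ·) H.f611.symm).trans H.f364

theorem f617 : g 1 • path g [9, 7, 4] p = path g [4, 7, 9, 7] p :=
  H.back (i := 6) (by decide) H.f615

theorem f618 : g 3 • path g [4, 7, 9, 7] p = path g [4, 2, 4, 1] p :=
  (congrArg (g 3 • ·) H.f611.symm).trans H.f366

theorem f620 : g 8 • path g [4, 2, 4, 1] p = path g [4, 7, 9, 7] p :=
  H.back (i := 3) (by decide) H.f618

theorem f621 : g 8 • path g [4, 7, 9, 7] p = path g [4, 2, 4, 1] p :=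
  (congrArg (g 8 • ·) H.f611.symm).trans H.f368

theorem f623 : g 3 • path g [4, 2, 4, 1] p = path g [4, 7, 9, 7] p :=
  H.back (i := 8) (by decide) H.f621

theorem f624 : g 5 • path g [4, 7, 9, 7] p = path g [4, 2, 9, 1] p :=
  (congrArg (g 5 • ·) H.f611.symm).trans H.f422

theorem f626 : g 0 • path g [4, 2, 9, 1] p = path g [4, 7, 9, 7] p :=
  H.back (i := 5) (by decide) H.f624

theorem f627 : g 0 • path g [4, 7, 9, 7] p = path g [4, 2, 9, 6] p :=
  (congrArg (g 0 • ·) H.f611.symm).trans H.f526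

theorem f629 : g 5 • path g [4, 2, 9, 6] p = path g [4, 7, 9, 7] p :=
  H.back (i := 0) (by decide) H.f627

theorem f630 : g 7 • path g [4, 7, 9, 7] p = path g [9, 7, 4] p :=
  (congrArg (g 7 • ·) H.f611.symm).trans H.f600

theorem f631 : path g [4, 7, 9, 2] p = path g [9, 7, 4] p :=
  H.f342.symm.trans H.f630

theorem f636 : g 7 • path g [9, 7, 4] p = path g [4, 7, 9] p :=
  H.f398.trans H.f606

theorem f639 : g 2 • path g [9, 7, 4] p = path g [4, 7, 9, 7] p :=
  H.f602.trans H.f611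

theorem f641 : g 2 • path g [4, 2, 9, 6] p = path g [4, 2, 9, 6] p :=
  scan (u := [0]) (w := [6, 7]) (i := 2) H.r5_0_2 (step H.f627 rfl) (step (H.back (i := 1) (by decide) H.f285) (step (H.back (i := 2) (by decide) H.f341) rfl))

theorem f642 : g 7 • path g [4, 2, 9, 6] p = path g [4, 2, 9, 6] p :=
  H.back (i := 2) (by decide) H.f641

theorem f643 : g 2 • path g [4, 7, 9] p = path g [9, 7, 4] p :=
  H.f338.trans H.f631

theorem f644 : g 5 • path g [4, 2, 4, 6] p = path g [4, 2, 4, 2] p :=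
  scan (u := [0, 0, 8]) (w := [5, 8]) (i := 5) H.r13_0_4 (step H.f627 (step H.f421 (step H.f355 rfl))) (step (H.back (i := 0) (by decide) H.f582) (step (H.back (i := 3) (by decide) H.f618) rfl))

theorem f645 : g 0 • path g [4, 2, 4, 2] p = path g [4, 2, 4, 6] p :=
  H.back (i := 5) (by decide) H.f644

theorem f646 : g 5 • path g [9, 2, 9, 6] p = path g [4, 2, 4, 6] p :=
  scan (u := [5, 1, 1]) (w := []) (i := 5) H.r1_0_1 (step H.f644 (step H.f587 (step H.f391 rfl))) rfl

theorem f647 : g 0 • path g [4, 2, 4, 6] p = path g [9, 2, 9, 6] p :=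
  H.back (i := 5) (by decide) H.f646

theorem f648 : path g [9, 2, 9, 7] p = path g [9, 2, 9] p :=
  close (u := [5, 6, 7]) (w := [1, 2]) H.r6_0_0 (step H.f644 (step H.f584 (step H.f392 rfl))) (step (H.back (i := 6) (by decide) H.f584) (step (H.back (i := 7) (by decide) H.f576) rfl))

theorem f651 : g 7 • path g [9, 2, 9] p = path g [9, 2, 9, 2] p :=
  (congrArg (g 7 • ·) H.f648.symm).trans H.f394

theorem f652 : g 7 • path g [9, 2, 9] p = path g [9, 2, 9] p :=
  H.f392.trans H.f648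

theorem f653 : path g [9, 2, 9] p = path g [9, 2, 9, 2] p :=
  H.f652.symm.trans H.f651

theorem f654 : path g [9, 2, 9, 2] p = path g [9, 2, 9] p :=
  H.f653.symm

theorem f659 : g 2 • path g [9, 2, 9] p = path g [9, 2, 9] p :=
  H.f382.trans H.f654

theorem f661 : g 0 • path g [9, 2, 9, 6] p = path g [4, 2, 4, 1] p :=
  scan (u := [0, 0]) (w := [0]) (i := 0) H.r0_0_0 (step H.f645 (step H.f647 rfl)) (step (H.back (i := 5) (by decide) H.f581) rfl)

theorem f662 : g 5 • path g [4, 2, 4, 1] p = path g [9, 2, 9, 6] p :=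
  H.back (i := 0) (by decide) H.f661

theorem f663 : g 7 • path g [4, 2, 4, 1] p = path g [9, 2, 9, 6] p :=
  scan (u := [0, 2, 6]) (w := []) (i := 7) H.r5_0_2 (step H.f661 (step H.f579 (step H.f302 rfl))) rfl

theorem f664 : g 2 • path g [9, 2, 9, 6] p = path g [4, 2, 4, 1] p :=
  H.back (i := 7) (by decide) H.f663

theorem f665 : g 2 • path g [4, 1, 7, 9] p = path g [4, 1, 7, 9] p :=
  scan (u := [0, 7, 6]) (w := [1]) (i := 2) H.r6_1_4 (step H.f661 (step H.f663 (step H.f390 rfl))) (step (H.back (i := 6) (by decide) H.f390) rfl)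

theorem f666 : g 7 • path g [4, 1, 7, 9] p = path g [4, 1, 7, 9] p :=
  H.back (i := 2) (by decide) H.f665

theorem f667 : g 7 • path g [4, 7, 9, 7] p = path g [9, 7, 4] p :=
  H.f342.trans H.f631

theorem f668 : g 7 • path g [9, 2, 9, 6] p = path g [4, 7, 1, 4] p :=
  scan (u := [2, 1]) (w := [5]) (i := 7) H.r5_1_2 (step H.f665 (step H.f391 rfl)) (step (H.back (i := 0) (by decide) H.f532) rfl)

theorem f669 : g 2 • path g [4, 7, 1, 4] p = path g [9, 2, 9, 6] p :=
  H.back (i := 7) (by decide) H.f668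

theorem f670 : g 7 • path g [4, 2, 9, 1] p = path g [4, 2, 9, 1] p :=
  scan (u := [2, 8, 7, 8]) (w := [3, 2, 3]) (i := 7) H.r10_0_7 (step H.f665 (step H.f245 (step H.f564 (step H.f417 rfl)))) (step (H.back (i := 8) (by decide) H.f417) (step (H.back (i := 7) (by decide) H.f564) (step (H.back (i := 8) (by decide) H.f245) rfl)))

theorem f671 : g 2 • path g [4, 2, 9, 1] p = path g [4, 2, 9, 1] p :=
  H.back (i := 7) (by decide) H.f670

theorem f672 : g 7 • path g [4, 1, 2, 4] p = path g [4, 1, 2, 4] p :=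
  scan (u := [2, 3, 0, 8]) (w := [8, 5, 3]) (i := 7) H.r11_0_5 (step H.f665 (step H.f247 (step H.f449 (step H.f218 rfl)))) (step (H.back (i := 3) (by decide) H.f219) (step (H.back (i := 0) (by decide) H.f449) (step (H.back (i := 8) (by decide) H.f245) rfl)))

theorem f673 : g 2 • path g [4, 1, 2, 4] p = path g [4, 1, 2, 4] p :=
  H.back (i := 7) (by decide) H.f672

theorem f674 : path g [9, 2, 4, 7] p = path g [4, 2, 9] p :=
  close (u := [7, 5, 2]) (w := [1]) H.r5_1_0 (step H.f670 (step H.f418 (step H.f595 rfl))) (step (H.back (i := 6) (by decide) H.f267) rfl)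

theorem f677 : g 7 • path g [4, 2, 9] p = path g [9, 2, 4, 1] p :=
  (congrArg (g 7 • ·) H.f674.symm).trans H.f597

theorem f678 : path g [4, 2, 9, 7] p = path g [9, 2, 4, 1] p :=
  H.f286.symm.trans H.f677

theorem f679 : path g [9, 2, 4, 1] p = path g [4, 2, 9, 7] p :=
  H.f678.symm

theorem f680 : g 6 • path g [4, 2, 9, 7] p = path g [9, 2, 4] p :=
  (congrArg (g 6 • ·) H.f679.symm).trans H.f349

theorem f682 : g 1 • path g [9, 2, 4] p = path g [4, 2, 9, 7] p :=
  H.back (i := 6) (by decide) H.f680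

theorem f683 : g 1 • path g [4, 2, 9, 7] p = path g [9, 7, 4] p :=
  (congrArg (g 1 • ·) H.f679.symm).trans H.f350

theorem f685 : g 6 • path g [9, 7, 4] p = path g [4, 2, 9, 7] p :=
  H.back (i := 1) (by decide) H.f683

theorem f686 : g 3 • path g [4, 2, 9, 7] p = path g [4, 2, 4, 6] p :=
  (congrArg (g 3 • ·) H.f679.symm).trans H.f352

theorem f688 : g 8 • path g [4, 2, 4, 6] p = path g [4, 2, 9, 7] p :=
  H.back (i := 3) (by decide) H.f686

theorem f689 : g 8 • path g [4, 2, 9, 7] p = path g [4, 2, 4, 6] p :=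
  (congrArg (g 8 • ·) H.f679.symm).trans H.f355

theorem f691 : g 3 • path g [4, 2, 4, 6] p = path g [4, 2, 9, 7] p :=
  H.back (i := 8) (by decide) H.f689

theorem f692 : g 0 • path g [4, 2, 9, 7] p = path g [4, 2, 9, 1] p :=
  (congrArg (g 0 • ·) H.f679.symm).trans H.f419

theorem f694 : g 5 • path g [4, 2, 9, 1] p = path g [4, 2, 9, 7] p :=
  H.back (i := 0) (by decide) H.f692

theorem f695 : g 5 • path g [4, 2, 9, 7] p = path g [4, 2, 9, 6] p :=
  (congrArg (g 5 • ·) H.f679.symm).trans H.f420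

theorem f697 : g 0 • path g [4, 2, 9, 6] p = path g [4, 2, 9, 7] p :=
  H.back (i := 5) (by decide) H.f695

theorem f698 : g 7 • path g [4, 2, 9, 7] p = path g [9, 2, 4] p :=
  (congrArg (g 7 • ·) H.f679.symm).trans H.f592

theorem f699 : path g [4, 2, 9, 2] p = path g [9, 2, 4] p :=
  H.f288.symm.trans H.f698

theorem f704 : g 7 • path g [9, 2, 4] p = path g [4, 2, 9] p :=
  H.f370.trans H.f674

theorem f707 : g 2 • path g [9, 2, 4] p = path g [4, 2, 9, 7] p :=
  H.f594.trans H.f679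

theorem f709 : g 2 • path g [4, 2, 9] p = path g [9, 2, 4] p :=
  H.f270.trans H.f699

theorem f710 : g 5 • path g [4, 7, 9] p = path g [9, 2, 4] p :=
  H.f265.trans H.f435

theorem f711 : g 5 • path g [4, 2, 9] p = path g [9, 7, 4] p :=
  H.f278.trans H.f428

theorem f712 : g 7 • path g [4, 2, 9, 7] p = path g [9, 2, 4] p :=
  H.f288.trans H.f699

theorem f713 : g 2 • path g [4, 2, 0, 4] p = path g [4, 2, 9, 3] p :=
  scan (u := [0, 3, 1, 4, 3, 2, 3, 2, 3, 1, 0, 3, 1, 4, 3]) (w := [3, 2, 3, 1]) (i := 2) H.r19_0_6 (step H.f692 (step H.f416 (step H.f414 (step H.f241 (step H.f135 (step H.f88 (step H.f16 (step H.f81 (step H.f114 (step H.f109 (step H.f179 (step H.f184 (step H.f130 (step H.f236 (step H.f239 rfl))))))))))))))) (step (H.back (i := 8) (by decide) H.f275) (step (H.back (i := 7) (by decide) H.f704) (step (H.back (i := 8) (by decide) H.f198) (step (H.back (i := 6) (by decide) H.f680) rfl))))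

theorem f714 : g 7 • path g [4, 2, 9, 3] p = path g [4, 2, 0, 4] p :=
  H.back (i := 2) (by decide) H.f713

theorem f715 : g 5 • path g [4, 2, 9, 3] p = path g [4, 2, 0, 4] p :=
  scan (u := [2, 3, 0, 8, 7, 8]) (w := [3]) (i := 5) H.r11_0_5 (step H.f713 (step H.f274 (step H.f528 (step H.f198 (step H.f704 (step H.f275 rfl)))))) (step (H.back (i := 8) (by decide) H.f238) rfl)

theorem f716 : g 0 • path g [4, 2, 0, 4] p = path g [4, 2, 9, 3] p :=
  H.back (i := 5) (by decide) H.f715

theorem f717 : g 0 • path g [4, 1, 2, 9] p = path g [4, 2, 0, 4] p :=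
  scan (u := [2, 3, 5, 8, 7, 8]) (w := [3]) (i := 0) H.r11_1_6 (step H.f713 (step H.f274 (step H.f711 (step H.f206 (step H.f636 (step H.f225 rfl)))))) (step (H.back (i := 8) (by decide) H.f238) rfl)

theorem f718 : g 5 • path g [4, 2, 0, 4] p = path g [4, 1, 2, 9] p :=
  H.back (i := 0) (by decide) H.f717

theorem f719 : g 0 • path g [4, 1, 7, 4] p = path g [4, 1, 2, 9] p :=
  scan (u := [0, 4, 8, 9]) (w := []) (i := 0) H.r15_0_3 (step H.f717 (step H.f243 (step H.f246 (step H.f234 rfl)))) rfl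

theorem f720 : g 5 • path g [4, 1, 2, 9] p = path g [4, 1, 7, 4] p :=
  H.back (i := 0) (by decide) H.f719

theorem f721 : g 0 • path g [4, 2, 9, 3] p = path g [4, 1, 7, 4] p :=
  scan (u := [0, 3, 0]) (w := [9, 8, 4, 3, 0, 3]) (i := 0) H.r16_1_6 (step H.f717 (step H.f239 (step H.f716 rfl))) (step (H.back (i := 4) (by decide) H.f228) (step (H.back (i := 3) (by decide) H.f114) (step (H.back (i := 9) (by decide) H.f197) (step (H.back (i := 8) (by decide) H.f198) (step (H.back (i := 5) (by decide) H.f710) (step (H.back (i := 8) (by decide) H.f226) rfl))))))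

theorem f722 : g 5 • path g [4, 1, 7, 4] p = path g [4, 2, 9, 3] p :=
  H.back (i := 0) (by decide) H.f721

theorem f723 : g 2 • path g [4, 1, 7, 4] p = path g [4, 1, 2, 9] p :=
  scan (u := [0, 3]) (w := [3, 5, 8, 7, 8]) (i := 2) H.r11_1_4 (step H.f721 (step H.f231 rfl)) (step (H.back (i := 8) (by decide) H.f225) (step (H.back (i := 0) (by decide) H.f443) (step (H.back (i := 3) (by decide) H.f199) (step (H.back (i := 2) (by decide) H.f709) (step (H.back (i := 3) (by decide) H.f274) rfl)))))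

theorem f724 : g 7 • path g [4, 1, 2, 9] p = path g [4, 1, 7, 4] p :=
  H.back (i := 2) (by decide) H.f723

theorem f725 : g 6 • path g [9, 7, 9] p = path g [9, 7, 9, 6] p :=
  rfl

theorem f726 : g 1 • path g [9, 7, 9, 6] p = path g [9, 7, 9] p :=
  H.back (i := 6) (by decide) H.f725

theorem f727 : g 6 • path g [9, 7, 9, 6] p = path g [4, 2, 0, 9] p :=
  scan (u := [6]) (w := [0, 0]) (i := 6) H.r1_1_0 (step H.f725 rfl) (step (H.back (i := 5) (by decide) H.f451) (step (H.back (i := 5) (by decide) H.f490) rfl))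

theorem f728 : g 1 • path g [4, 2, 0, 9] p = path g [9, 7, 9, 6] p :=
  H.back (i := 6) (by decide) H.f727

theorem f729 : g 0 • path g [9, 7, 9, 6] p = path g [4, 7, 4, 1] p :=
  scan (u := [6]) (w := [0, 6]) (i := 0) H.r1_1_1 (step H.f725 rfl) (step (H.back (i := 5) (by decide) H.f531) (step (H.back (i := 1) (by decide) H.f412) rfl))

theorem f730 : g 5 • path g [4, 7, 4, 1] p = path g [9, 7, 9, 6] p :=
  H.back (i := 0) (by decide) H.f729

theorem f731 : g 5 • path g [9, 7, 9, 6] p = path g [4, 7, 4, 6] p :=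
  scan (u := [6]) (w := [1, 5]) (i := 5) H.r2_1_1 (step H.f725 rfl) (step (H.back (i := 6) (by decide) H.f326) (step (H.back (i := 0) (by decide) H.f561) rfl))

theorem f732 : g 0 • path g [4, 7, 4, 6] p = path g [9, 7, 9, 6] p :=
  H.back (i := 5) (by decide) H.f731

theorem f733 : g 7 • path g [9, 7, 9, 6] p = path g [4, 7, 4, 6] p :=
  scan (u := [6]) (w := [1, 2, 5]) (i := 7) H.r6_0_1 (step H.f725 rfl) (step (H.back (i := 6) (by decide) H.f326) (step (H.back (i := 7) (by decide) H.f537) (step (H.back (i := 0) (by decide) H.f561) rfl)))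

theorem f734 : g 2 • path g [4, 7, 4, 6] p = path g [9, 7, 9, 6] p :=
  H.back (i := 7) (by decide) H.f733

theorem f735 : g 2 • path g [9, 7, 9, 6] p = path g [9, 7, 9] p :=
  scan (u := [6]) (w := [1, 0, 7]) (i := 2) H.r6_1_1 (step H.f725 rfl) (step (H.back (i := 6) (by decide) H.f413) (step (H.back (i := 5) (by decide) H.f560) (step (H.back (i := 2) (by decide) H.f569) rfl)))

theorem f736 : g 7 • path g [9, 7, 9] p = path g [9, 7, 9, 6] p :=
  H.back (i := 2) (by decide) H.f735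

theorem f737 : g 8 • path g [9, 7, 9, 6] p = path g [4, 2, 9, 6] p :=
  scan (u := [6]) (w := [5, 3, 1, 3, 0, 8]) (i := 8) H.r8_0_1 (step H.f725 rfl) (step (H.back (i := 0) (by decide) H.f627) (step (H.back (i := 8) (by decide) H.f620) (step (H.back (i := 6) (by decide) H.f302) (step (H.back (i := 8) (by decide) H.f294) (step (H.back (i := 5) (by decide) H.f481) (step (H.back (i := 3) (by decide) H.f212) rfl))))))

theorem f738 : g 3 • path g [4, 2, 9, 6] p = path g [9, 7, 9, 6] p :=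
  H.back (i := 8) (by decide) H.f737

theorem f739 : g 3 • path g [9, 7, 9, 6] p = path g [4, 2, 9, 6] p :=
  scan (u := [6]) (w := [2, 3, 1, 8, 7, 8]) (i := 3) H.r12_0_3 (step H.f725 rfl) (step (H.back (i := 7) (by decide) H.f642) (step (H.back (i := 8) (by decide) H.f737) (step (H.back (i := 6) (by decide) H.f725) (step (H.back (i := 3) (by decide) H.f215) (step (H.back (i := 2) (by decide) H.f659) (step (H.back (i := 3) (by decide) H.f212) rfl))))))

theorem f740 : g 8 • path g [4, 2, 9, 6] p = path g [9, 7, 9, 6] p :=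
  H.back (i := 3) (by decide) H.f739

theorem f741 : g 1 • path g [4, 1, 2, 9] p = path g [4, 1, 2, 9, 1] p :=
  rfl

theorem f742 : g 6 • path g [4, 1, 2, 9, 1] p = path g [4, 1, 2, 9] p :=
  H.back (i := 1) (by decide) H.f741

theorem f743 : g 1 • path g [4, 1, 2, 9, 1] p = path g [4, 2, 9, 3] p :=
  scan (u := [1]) (w := [5, 5]) (i := 1) H.r1_0_2 (step H.f741 rfl) (step (H.back (i := 0) (by decide) H.f716) (step (H.back (i := 0) (by decide) H.f717) rfl))

theorem f744 : g 6 • path g [4, 2, 9, 3] p = path g [4, 1, 2, 9, 1] p :=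
  H.back (i := 1) (by decide) H.f743

theorem f745 : g 7 • path g [4, 1, 2, 9, 1] p = path g [4, 1, 2, 9] p :=
  scan (u := [1]) (w := [5, 2]) (i := 7) H.r5_1_3 (step H.f741 rfl) (step (H.back (i := 0) (by decide) H.f719) (step (H.back (i := 7) (by decide) H.f724) rfl))

theorem f746 : g 2 • path g [4, 1, 2, 9] p = path g [4, 1, 2, 9, 1] p :=
  H.back (i := 7) (by decide) H.f745

theorem f747 : g 2 • path g [4, 1, 2, 9, 1] p = path g [4, 1, 7, 4] p :=
  scan (u := [1]) (w := [5, 6, 7]) (i := 2) H.r6_0_3 (step H.f741 rfl) (step (H.back (i := 0) (by decide) H.f721) (step (H.back (i := 1) (by decide) H.f743) (step (H.back (i := 2) (by decide) H.f746) rfl)))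

theorem f748 : g 7 • path g [4, 1, 7, 4] p = path g [4, 1, 2, 9, 1] p :=
  H.back (i := 2) (by decide) H.f747

theorem f749 : g 3 • path g [4, 1, 2, 9, 1] p = path g [9, 2, 9, 6] p :=
  scan (u := [1]) (w := [0, 8, 6, 8, 5, 3]) (i := 3) H.r8_0_5 (step H.f741 rfl) (step (H.back (i := 5) (by decide) H.f662) (step (H.back (i := 3) (by decide) H.f618) (step (H.back (i := 1) (by decide) H.f617) (step (H.back (i := 3) (by decide) H.f207) (step (H.back (i := 0) (by decide) H.f437) (step (H.back (i := 8) (by decide) H.f226) rfl))))))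

theorem f750 : g 8 • path g [9, 2, 9, 6] p = path g [4, 1, 2, 9, 1] p :=
  H.back (i := 3) (by decide) H.f749

theorem f751 : g 8 • path g [4, 1, 2, 9, 1] p = path g [9, 2, 9, 6] p :=
  scan (u := [1]) (w := [6, 8, 6, 3, 1, 3]) (i := 8) H.r9_0_7 (step H.f741 rfl) (step (H.back (i := 1) (by decide) H.f391) (step (H.back (i := 3) (by decide) H.f244) (step (H.back (i := 1) (by decide) H.f414) (step (H.back (i := 8) (by decide) H.f525) (step (H.back (i := 6) (by decide) H.f269) (step (H.back (i := 8) (by decide) H.f226) rfl))))))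

theorem f752 : g 3 • path g [9, 2, 9, 6] p = path g [4, 1, 2, 9, 1] p :=
  H.back (i := 8) (by decide) H.f751

theorem f753 : g 4 • path g [4, 2, 4, 6] p = path g [4, 7, 9, 7] p :=
  scan (u := [1, 3, 0, 0, 2]) (w := [7, 7, 8, 2, 2, 9, 7, 5, 5, 8, 6, 8, 6, 8, 2, 4, 7, 7, 3, 2, 2, 9, 7, 3, 1, 3]) (i := 4) H.r20_0_26 (step H.f741 (step H.f749 (step H.f661 (step H.f582 (step H.f578 rfl))))) (step (H.back (i := 2) (by decide) H.f639) (step (H.back (i := 2) (by decide) H.f643) (step (H.back (i := 3) (by decide) H.f224) (step (H.back (i := 7) (by decide) H.f745) (step (H.back (i := 7) (by decide) H.f748) (step (H.back (i := 4) (by decide) H.f228) (step (H.back (i := 2) (by decide) H.f104) (step (H.back (i := 0) (by decide) H.f94) (step (H.back (i := 0) (by decide) H.f96) (step (H.back (i := 3) (by decide) H.f184) (step (H.back (i := 1) (by decide) H.f172) (step (H.back (i := 3) (by decide) H.f50) (step (H.back (i := 1) (by decide) H.f85) (step (H.back (i := 3) (by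 decide) H.f116) (step (H.back (i := 7) (by decide) H.f101) (step (H.back (i := 9) (by decide) H.f156) (step (H.back (i := 2) (by decide) H.f102) (step (H.back (i := 2) (by decide) H.f104) (step (H.back (i := 8) (by decide) H.f186) (step (H.back (i := 7) (by decide) H.f183) (step (H.back (i := 7) (by decide) H.f131) (step (H.back (i := 4) (by decide) H.f241) (step (H.back (i := 2) (by decide) H.f565) (step (H.back (i := 8) (by decide) H.f525) (step (H.back (i := 6) (by decide) H.f269) (step (H.back (i := 8) (by decide) H.f226) rfl))))))))))))))))))))))))))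

theorem f754 : g 9 • path g [4, 7, 9, 7] p = path g [4, 2, 4, 6] p :=
  H.back (i := 4) (by decide) H.f753

theorem f755 : g 9 • path g [4, 2, 4, 1] p = path g [4, 2, 4, 1] p :=
  scan (u := [4, 8]) (w := [0, 0]) (i := 9) H.r15_0_4 (step H.f753 (step H.f621 rfl)) (step (H.back (i := 5) (by decide) H.f581) (step (H.back (i := 5) (by decide) H.f644) rfl))

theorem f756 : g 4 • path g [4, 2, 4, 1] p = path g [4, 2, 4, 1] p :=
  H.back (i := 9) (by decide) H.f755

theorem f757 : g 9 • path g [4, 1, 2, 9, 1] p = path g [4, 1, 2, 9, 1] p :=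
  scan (u := [9, 6, 8, 5, 6, 8]) (w := [6, 8, 5, 6, 8]) (i := 9) H.r18_1_5 (step H.f755 (step H.f251 (step H.f166 (step H.f512 (step H.f388 (step H.f750 rfl)))))) (step (H.back (i := 1) (by decide) H.f741) (step (H.back (i := 3) (by decide) H.f227) (step (H.back (i := 0) (by decide) H.f443) (step (H.back (i := 1) (by decide) H.f612) (step (H.back (i := 3) (by decide) H.f623) rfl)))))

theorem f758 : g 4 • path g [4, 1, 2, 9, 1] p = path g [4, 1, 2, 9, 1] p :=
  H.back (i := 9) (by decide) H.f757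

theorem f759 : g 4 • path g [9, 2, 9, 6] p = path g [9, 7, 9, 1] p :=
  scan (u := [9, 3]) (w := [5, 5, 8, 5, 8, 5, 8]) (i := 4) H.r16_0_7 (step H.f757 (step H.f749 rfl)) (step (H.back (i := 0) (by decide) H.f530) (step (H.back (i := 0) (by decide) H.f729) (step (H.back (i := 3) (by decide) H.f738) (step (H.back (i := 0) (by decide) H.f627) (step (H.back (i := 3) (by decide) H.f623) (step (H.back (i := 0) (by decide) H.f661) (step (H.back (i := 3) (by decide) H.f749) rfl)))))))

theorem f760 : g 9 • path g [9, 7, 9, 1] p = path g [9, 2, 9, 6] p :=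
  H.back (i := 4) (by decide) H.f759

theorem f761 : g 4 • path g [4, 2, 9, 6] p = path g [4, 2, 9, 6] p :=
  scan (u := [9, 3, 1, 3, 1, 3, 0, 0]) (w := [5, 5, 8, 6, 8, 6, 8]) (i := 4) H.r17_0_7 (step H.f757 (step H.f749 (step H.f389 (step H.f215 (step H.f412 (step H.f524 (step H.f626 (step H.f627 rfl)))))))) (step (H.back (i := 0) (by decide) H.f627) (step (H.back (i := 0) (by decide) H.f626) (step (H.back (i := 3) (by decide) H.f524) (step (H.back (i := 1) (by decide) H.f412) (step (H.back (i := 3) (by decide) H.f215) (step (H.back (i := 1) (by decide) H.f389) (step (H.back (i := 3) (by decide) H.f749) rfl)))))))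

theorem f762 : g 9 • path g [4, 2, 9, 6] p = path g [4, 2, 9, 6] p :=
  H.back (i := 4) (by decide) H.f761

theorem f763 : g 9 • path g [9, 7, 9, 6] p = path g [4, 2, 9, 1] p :=
  scan (u := [4, 8]) (w := [0, 0]) (i := 9) H.r15_0_4 (step H.f761 (step H.f740 rfl)) (step (H.back (i := 5) (by decide) H.f624) (step (H.back (i := 5) (by decide) H.f629) rfl))

theorem f764 : g 4 • path g [4, 2, 9, 1] p = path g [9, 7, 9, 6] p :=
  H.back (i := 9) (by decide) H.f763

theorem f765 : g 9 • path g [4, 7, 4, 6] p = path g [4, 2, 9, 7] p :=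
  scan (u := [4, 7, 7, 8, 2, 2]) (w := [7, 5, 5, 8, 6, 8, 6, 8, 2, 4, 7, 7, 3, 2, 2, 9, 7, 3, 1, 3, 1, 3, 0, 0, 2]) (i := 9) H.r20_0_31 (step H.f761 (step H.f642 (step H.f642 (step H.f740 (step H.f735 (step H.f569 rfl)))))) (step (H.back (i := 2) (by decide) H.f707) (step (H.back (i := 0) (by decide) H.f528) (step (H.back (i := 0) (by decide) H.f430) (step (H.back (i := 3) (by decide) H.f207) (step (H.back (i := 1) (by decide) H.f683) (step (H.back (i := 3) (by decide) H.f691) (step (H.back (i := 1) (by decide) H.f300) (step (H.back (i := 3) (by decide) H.f295) (step (H.back (i := 7) (by decide) H.f668) (step (H.back (i := 9) (by decide) H.f760) (step (H.back (i := 2) (by decide) H.f563) (step (H.back (i := 2) (by decide) H.f567) (step (H.back (i := 8) (by decide) H.f245) (step (H.back (i := 7) (by decide) H.f666) (step (H.back (i := 7) (by decide) H.f666) (step (H.back (i := 4) (by decide) H.f235) (step (H.back (i := 2) (by decide) H.f747) (step (H.back (i :=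 8) (by decide) H.f750) (step (H.back (i := 6) (by decide) H.f388) (step (H.back (i := 8) (by decide) H.f214) (step (H.back (i := 6) (by decide) H.f413) (step (H.back (i := 8) (by decide) H.f525) (step (H.back (i := 5) (by decide) H.f624) (step (H.back (i := 5) (by decide) H.f629) (step (H.back (i := 7) (by decide) H.f642) rfl)))))))))))))))))))))))))

theorem f766 : g 4 • path g [4, 2, 9, 7] p = path g [4, 7, 4, 6] p :=
  H.back (i := 9) (by decide) H.f765

theorem f767 : g 9 • path g [4, 2, 9, 1] p = path g [4, 2, 4, 2] p :=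
  scan (u := [4, 8]) (w := [0, 0]) (i := 9) H.r15_0_4 (step H.f759 (step H.f417 rfl)) (step (H.back (i := 5) (by decide) H.f644) (step (H.back (i := 5) (by decide) H.f646) rfl))

theorem f768 : g 4 • path g [4, 2, 4, 2] p = path g [4, 2, 9, 1] p :=
  H.back (i := 9) (by decide) H.f767

theorem f769 : g 9 • path g [4, 2, 4, 2] p = path g [9, 7, 9, 6] p :=
  scan (u := [4, 3, 1, 3, 1, 3, 0, 0]) (w := [5, 5, 8, 6, 8, 6, 8]) (i := 9) H.r17_1_8 (step H.f759 (step H.f524 (step H.f268 (step H.f227 (step H.f741 (step H.f749 (step H.f661 (step H.f582 rfl)))))))) (step (H.back (i := 0) (by decide) H.f732) (step (H.back (i := 0) (by decide) H.f559) (step (H.back (i := 3) (by decide) H.f416) (step (H.back (i := 1) (by decide) H.f266) (step (H.back (i := 3) (by decide) H.f274) (step (H.back (i := 1) (by decide) H.f743) (step (H.back (i := 3) (by decide) H.f752) rfl)))))))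

theorem f770 : g 4 • path g [9, 7, 9, 6] p = path g [4, 2, 4, 2] p :=
  H.back (i := 9) (by decide) H.f769

theorem f771 : g 6 • path g [4, 1, 2, 9] p = path g [4, 1, 2, 9, 6] p :=
  rfl

theorem f772 : g 1 • path g [4, 1, 2, 9, 6] p = path g [4, 1, 2, 9] p :=
  H.back (i := 6) (by decide) H.f771

theorem f773 : g 6 • path g [4, 1, 2, 9, 6] p = path g [4, 2, 9, 3] p :=
  scan (u := [6]) (w := [0, 0]) (i := 6) H.r1_1_0 (step H.f771 rfl) (step (H.back (i := 5) (by decide) H.f722) (step (H.back (i := 5) (by decide) H.f720) rfl))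

theorem f774 : g 1 • path g [4, 2, 9, 3] p = path g [4, 1, 2, 9, 6] p :=
  H.back (i := 6) (by decide) H.f773

theorem f775 : g 7 • path g [4, 1, 2, 9, 6] p = path g [4, 2, 9, 3] p :=
  scan (u := [6]) (w := [0, 2]) (i := 7) H.r5_0_0 (step H.f771 rfl) (step (H.back (i := 5) (by decide) H.f722) (step (H.back (i := 7) (by decide) H.f724) rfl))

theorem f776 : g 2 • path g [4, 2, 9, 3] p = path g [4, 1, 2, 9, 6] p :=
  H.back (i := 7) (by decide) H.f775

theorem f777 : g 2 • path g [4, 1, 2, 9, 6] p = path g [4, 2, 0, 4] p :=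
  scan (u := [6, 7, 1]) (w := [5]) (i := 2) H.r6_0_1 (step H.f771 (step H.f775 (step H.f774 rfl))) (step (H.back (i := 0) (by decide) H.f717) rfl)

theorem f778 : g 7 • path g [4, 2, 0, 4] p = path g [4, 1, 2, 9, 6] p :=
  H.back (i := 2) (by decide) H.f777

theorem f779 : g 8 • path g [4, 1, 2, 9, 6] p = path g [4, 2, 4, 2] p :=
  scan (u := [6]) (w := [5, 3, 1, 3, 0, 8]) (i := 8) H.r8_0_1 (step H.f771 rfl) (step (H.back (i := 0) (by decide) H.f582) (step (H.back (i := 8) (by decide) H.f621) (step (H.back (i := 6) (by decide) H.f614) (step (H.back (i := 8) (by decide) H.f198) (step (H.back (i := 5) (by decide) H.f710) (step (H.back (i := 3) (by decide) H.f224) rfl))))))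

theorem f780 : g 3 • path g [4, 2, 4, 2] p = path g [4, 1, 2, 9, 6] p :=
  H.back (i := 8) (by decide) H.f779

theorem f781 : g 3 • path g [4, 1, 2, 9, 6] p = path g [4, 2, 4, 2] p :=
  scan (u := [6]) (w := [1, 3, 1, 8, 6, 8]) (i := 3) H.r9_0_3 (step H.f771 rfl) (step (H.back (i := 6) (by decide) H.f589) (step (H.back (i := 8) (by decide) H.f246) (step (H.back (i := 6) (by decide) H.f727) (step (H.back (i := 3) (by decide) H.f738) (step (H.back (i := 1) (by decide) H.f285) (step (H.back (i := 3) (by decide) H.f224) rfl))))))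

theorem f782 : g 8 • path g [4, 2, 4, 2] p = path g [4, 1, 2, 9, 6] p :=
  H.back (i := 3) (by decide) H.f781

theorem f783 : g 4 • path g [9, 7, 9, 1] p = path g [4, 1, 2, 9, 6] p :=
  scan (u := [3, 9, 5, 5]) (w := []) (i := 4) H.r15_1_4 (step H.f781 (step H.f769 (step H.f731 (step H.f560 rfl)))) rfl

theorem f784 : g 9 • path g [4, 1, 2, 9, 6] p = path g [9, 7, 9, 1] p :=
  H.back (i := 4) (by decide) H.f783

theorem f785 : g 9 • path g [9, 2, 9, 6] p = path g [4, 1, 2, 9, 6] p :=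
  scan (u := [3, 1, 3, 1, 3, 0, 0, 4, 5, 5, 8, 6, 8, 6, 8]) (w := []) (i := 9) H.r17_0_8 (step H.f781 (step H.f587 (step H.f247 (step H.f728 (step H.f739 (step H.f697 (step H.f692 (step H.f764 (step H.f731 (step H.f560 (step H.f417 (step H.f267 (step H.f275 (step H.f744 (step H.f751 rfl))))))))))))))) rfl

theorem f786 : g 4 • path g [4, 1, 2, 9, 6] p = path g [9, 2, 9, 6] p :=
  H.back (i := 9) (by decide) H.f785

theorem f787 : g 1 • path g [4, 1, 7, 4] p = path g [4, 1, 7, 4, 1] p :=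
  rfl

theorem f788 : g 6 • path g [4, 1, 7, 4, 1] p = path g [4, 1, 7, 4] p :=
  H.back (i := 1) (by decide) H.f787

theorem f789 : g 1 • path g [4, 1, 7, 4, 1] p = path g [4, 2, 0, 4] p :=
  scan (u := [1]) (w := [5, 5]) (i := 1) H.r1_0_2 (step H.f787 rfl) (step (H.back (i := 0) (by decide) H.f717) (step (H.back (i := 0) (by decide) H.f719) rfl))

theorem f790 : g 6 • path g [4, 2, 0, 4] p = path g [4, 1, 7, 4, 1] p :=
  H.back (i := 1) (by decide) H.f789

theorem f791 : g 0 • path g [4, 1, 7, 4, 1] p = path g [4, 1, 2, 9, 6] p :=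
  scan (u := [1]) (w := [6, 0]) (i := 0) H.r2_0_2 (step H.f787 rfl) (step (H.back (i := 1) (by decide) H.f774) (step (H.back (i := 5) (by decide) H.f722) rfl))

theorem f792 : g 5 • path g [4, 1, 2, 9, 6] p = path g [4, 1, 7, 4, 1] p :=
  H.back (i := 0) (by decide) H.f791

theorem f793 : g 5 • path g [4, 1, 7, 4, 1] p = path g [4, 1, 2, 9, 1] p :=
  scan (u := [1]) (w := [6, 5]) (i := 5) H.r2_1_3 (step H.f787 rfl) (step (H.back (i := 1) (by decide) H.f741) (step (H.back (i := 0) (by decide) H.f719) rfl))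

theorem f794 : g 0 • path g [4, 1, 2, 9, 1] p = path g [4, 1, 7, 4, 1] p :=
  H.back (i := 5) (by decide) H.f793

theorem f795 : g 7 • path g [4, 1, 7, 4, 1] p = path g [4, 1, 7, 4, 1] p :=
  scan (u := [1]) (w := [5, 2]) (i := 7) H.r5_1_3 (step H.f787 rfl) (step (H.back (i := 0) (by decide) H.f794) (step (H.back (i := 7) (by decide) H.f748) rfl))

theorem f796 : g 2 • path g [4, 1, 7, 4, 1] p = path g [4, 1, 7, 4, 1] p :=
  H.back (i := 7) (by decide) H.f795

theorem f797 : g 3 • path g [4, 1, 7, 4, 1] p = path g [4, 7, 4, 6] p :=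
  scan (u := [1]) (w := [0, 8, 6, 8, 5, 3]) (i := 3) H.r8_0_5 (step H.f787 rfl) (step (H.back (i := 5) (by decide) H.f731) (step (H.back (i := 3) (by decide) H.f738) (step (H.back (i := 1) (by decide) H.f285) (step (H.back (i := 3) (by decide) H.f224) (step (H.back (i := 0) (by decide) H.f719) (step (H.back (i := 8) (by decide) H.f230) rfl))))))

theorem f798 : g 8 • path g [4, 7, 4, 6] p = path g [4, 1, 7, 4, 1] p :=
  H.back (i := 3) (by decide) H.f797

theorem f799 : g 8 • path g [4, 1, 7, 4, 1] p = path g [4, 7, 4, 6] p :=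
  scan (u := [1]) (w := [7, 8, 6, 3, 2, 3]) (i := 8) H.r12_0_7 (step H.f787 rfl) (step (H.back (i := 2) (by decide) H.f569) (step (H.back (i := 3) (by decide) H.f215) (step (H.back (i := 1) (by decide) H.f389) (step (H.back (i := 8) (by decide) H.f751) (step (H.back (i := 7) (by decide) H.f748) (step (H.back (i := 8) (by decide) H.f230) rfl))))))

theorem f800 : g 3 • path g [4, 7, 4, 6] p = path g [4, 1, 7, 4, 1] p :=
  H.back (i := 8) (by decide) H.f799

theorem f801 : g 4 • path g [4, 1, 7, 4, 1] p = path g [4, 2, 4, 6] p :=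
  scan (u := [1]) (w := [3, 1, 0, 3, 1, 4, 3, 1, 0, 3]) (i := 4) H.r18_0_5 (step H.f787 rfl) (step (H.back (i := 8) (by decide) H.f689) (step (H.back (i := 6) (by decide) H.f685) (step (H.back (i := 5) (by decide) H.f711) (step (H.back (i := 8) (by decide) H.f273) (step (H.back (i := 6) (by decide) H.f773) (step (H.back (i := 9) (by decide) H.f785) (step (H.back (i := 8) (by decide) H.f751) (step (H.back (i := 6) (by decide) H.f744) (step (H.back (i := 5) (by decide) H.f722) (step (H.back (i := 8) (by decide) H.f230) rfl))))))))))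

theorem f802 : g 9 • path g [4, 2, 4, 6] p = path g [4, 1, 7, 4, 1] p :=
  H.back (i := 4) (by decide) H.f801

theorem f803 : g 4 • path g [4, 7, 9, 7] p = path g [4, 1, 7, 4, 1] p :=
  scan (u := [4, 4]) (w := []) (i := 4) H.r14_0_0 (step H.f801 (step H.f753 rfl)) rfl

theorem f804 : g 9 • path g [4, 1, 7, 4, 1] p = path g [4, 7, 9, 7] p :=
  H.back (i := 4) (by decide) H.f803

theorem f805 : g 4 • path g [4, 7, 4, 1] p = path g [4, 7, 4, 1] p :=
  scan (u := [4, 7, 7, 3, 2, 2, 9, 7, 3, 1, 3, 1, 3, 0, 0, 2]) (w := [7, 7, 8, 2, 2, 9, 7, 5, 5, 8, 6, 8, 6, 8, 2]) (i := 4) H.r20_0_15 (step H.f803 (step H.f795 (step H.f795 (step H.f797 (step H.f734 (step H.f735 (step H.f210 (step H.f636 (step H.f227 (step H.f741 (step H.f749 (step H.f389 (step H.f215 (step H.f561 (step H.f503 (step H.f567 rfl)))))))))))))))) (step (H.back (i := 2) (by decide) H.f567) (step (H.back (i := 2) (by decide) H.f565) (step (H.back (i := 3) (by decide) H.f416) (step (H.back (i := 7) (by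 decide) H.f670) (step (H.back (i := 7) (by decide) H.f670) (step (H.back (i := 4) (by decide) H.f768) (step (H.back (i := 2) (by decide) H.f252) (step (H.back (i := 0) (by decide) H.f558) (step (H.back (i := 0) (by decide) H.f523) (step (H.back (i := 3) (by decide) H.f295) (step (H.back (i := 1) (by decide) H.f303) (step (H.back (i := 3) (by decide) H.f618) (step (H.back (i := 1) (by decide) H.f617) (step (H.back (i := 3) (by decide) H.f207) (step (H.back (i := 7) (by decide) H.f667) rfl)))))))))))))))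

theorem f806 : g 9 • path g [4, 7, 4, 1] p = path g [4, 7, 4, 1] p :=
  H.back (i := 4) (by decide) H.f805

theorem f807 : g 6 • path g [4, 1, 7, 4] p = path g [4, 1, 7, 4, 6] p :=
  rfl

theorem f808 : g 1 • path g [4, 1, 7, 4, 6] p = path g [4, 1, 7, 4] p :=
  H.back (i := 6) (by decide) H.f807

theorem f809 : g 6 • path g [4, 1, 7, 4, 6] p = path g [4, 2, 0, 4] p :=
  scan (u := [6]) (w := [0, 0]) (i := 6) H.r1_1_0 (step H.f807 rfl) (step (H.back (i := 5) (by decide) H.f715) (step (H.back (i := 5) (by decide) H.f722) rfl))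

theorem f810 : g 1 • path g [4, 2, 0, 4] p = path g [4, 1, 7, 4, 6] p :=
  H.back (i := 6) (by decide) H.f809

theorem f811 : g 0 • path g [4, 1, 7, 4, 6] p = path g [4, 1, 2, 9, 1] p :=
  scan (u := [6]) (w := [0, 6]) (i := 0) H.r1_1_1 (step H.f807 rfl) (step (H.back (i := 5) (by decide) H.f793) (step (H.back (i := 1) (by decide) H.f787) rfl))

theorem f812 : g 5 • path g [4, 1, 2, 9, 1] p = path g [4, 1, 7, 4, 6] p :=
  H.back (i := 0) (by decide) H.f811

theorem f813 : g 5 • path g [4, 1, 7, 4, 6] p = path g [4, 1, 2, 9, 6] p :=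
  scan (u := [6]) (w := [1, 5]) (i := 5) H.r2_1_1 (step H.f807 rfl) (step (H.back (i := 6) (by decide) H.f771) (step (H.back (i := 0) (by decide) H.f719) rfl))

theorem f814 : g 0 • path g [4, 1, 2, 9, 6] p = path g [4, 1, 7, 4, 6] p :=
  H.back (i := 5) (by decide) H.f813

theorem f815 : g 7 • path g [4, 1, 7, 4, 6] p = path g [4, 1, 7, 4, 6] p :=
  scan (u := [6]) (w := [0, 2]) (i := 7) H.r5_0_0 (step H.f807 rfl) (step (H.back (i := 5) (by decide) H.f812) (step (H.back (i := 7) (by decide) H.f748) rfl))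

theorem f816 : g 2 • path g [4, 1, 7, 4, 6] p = path g [4, 1, 7, 4, 6] p :=
  H.back (i := 7) (by decide) H.f815

theorem f817 : g 8 • path g [4, 1, 7, 4, 6] p = path g [4, 7, 4, 1] p :=
  scan (u := [6]) (w := [5, 3, 1, 3, 0, 8]) (i := 8) H.r8_0_1 (step H.f807 rfl) (step (H.back (i := 0) (by decide) H.f729) (step (H.back (i := 8) (by decide) H.f740) (step (H.back (i := 6) (by decide) H.f282) (step (H.back (i := 8) (by decide) H.f273) (step (H.back (i := 5) (by decide) H.f722) (step (H.back (i := 3) (by decide) H.f231) rfl))))))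

theorem f818 : g 3 • path g [4, 7, 4, 1] p = path g [4, 1, 7, 4, 6] p :=
  H.back (i := 8) (by decide) H.f817

theorem f819 : g 3 • path g [4, 1, 7, 4, 6] p = path g [4, 7, 4, 1] p :=
  scan (u := [6]) (w := [1, 3, 1, 8, 6, 8]) (i := 3) H.r9_0_3 (step H.f807 rfl) (step (H.back (i := 6) (by decide) H.f315) (step (H.back (i := 8) (by decide) H.f218) (step (H.back (i := 6) (by decide) H.f328) (step (H.back (i := 3) (by decide) H.f797) (step (H.back (i := 1) (by decide) H.f787) (step (H.back (i := 3) (by decide) H.f231) rfl))))))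

theorem f820 : g 8 • path g [4, 7, 4, 1] p = path g [4, 1, 7, 4, 6] p :=
  H.back (i := 3) (by decide) H.f819

theorem f821 : g 4 • path g [4, 7, 4, 6] p = path g [4, 1, 7, 4, 6] p :=
  scan (u := [3, 9, 5, 5]) (w := []) (i := 4) H.r15_1_4 (step H.f819 (step H.f806 (step H.f730 (step H.f731 rfl)))) rfl

theorem f822 : g 9 • path g [4, 1, 7, 4, 6] p = path g [4, 7, 4, 6] p :=
  H.back (i := 4) (by decide) H.f821

theorem f823 : g 9 • path g [4, 2, 9, 7] p = path g [4, 1, 7, 4, 6] p :=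
  scan (u := [3, 4, 5, 5, 8, 5, 8, 5, 8]) (w := []) (i := 9) H.r16_0_8 (step H.f819 (step H.f805 (step H.f730 (step H.f731 (step H.f798 (step H.f793 (step H.f751 (step H.f646 (step H.f688 rfl))))))))) rfl

theorem f824 : g 4 • path g [4, 1, 7, 4, 6] p = path g [4, 2, 9, 7] p :=
  H.back (i := 9) (by decide) H.f823

theorem step0 : ∀ w ∈ reps, ∃ w' ∈ reps, g 0 • path g w p = path g w' p := by
  intro w hw
  simp only [reps, List.mem_cons, List.not_mem_nil, or_false] at hw
  rcases hw with rfl | rfl | rfl | rfl | rfl | rfl | rfl | rfl | rfl | rfl | rfl | rfl | rfl | rfl | rfl | rfl | rfl | rfl | rfl | rfl | rfl | rfl | rfl | rfl | rfl | rfl | rfl | rfl | rfl | rfl | rfl | rfl | rfl | rfl | rfl | rfl | rfl | rfl | rfl | rfl | rfl | rfl | rfl | rfl | rfl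
  · exact ⟨[], by decide, H.f0⟩
  · exact ⟨[9], by decide, H.f75⟩
  · exact ⟨[4], by decide, H.f67⟩
  · exact ⟨[9, 1], by decide, H.f48⟩
  · exact ⟨[4, 2, 0], by decide, H.f123⟩
  · exact ⟨[4, 1, 7], by decide, H.f108⟩
  · exact ⟨[4, 1], by decide, H.f77⟩
  · exact ⟨[4, 1, 2], by decide, H.f94⟩
  · exact ⟨[4, 7, 1], by decide, H.f179⟩
  · exact ⟨[9, 2], by decide, H.f96⟩
  · exact ⟨[4, 7], by decide, H.f105⟩
  · exact ⟨[4, 2], by decide, H.f125⟩
  · exact ⟨[4, 1, 7, 9], by decide, H.f515⟩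
  · exact ⟨[9, 2, 4], by decide, H.f528⟩
  · exact ⟨[9, 7], by decide, H.f176⟩
  · exact ⟨[4, 2, 0, 9], by decide, H.f503⟩
  · exact ⟨[9, 7, 4], by decide, H.f437⟩
  · exact ⟨[4, 7, 9], by decide, H.f443⟩
  · exact ⟨[4, 2, 4], by decide, H.f558⟩
  · exact ⟨[4, 2, 9], by decide, H.f430⟩
  · exact ⟨[4, 7, 4], by decide, H.f561⟩
  · exact ⟨[9, 7, 9], by decide, H.f492⟩
  · exact ⟨[4, 2, 0, 4], by decide, H.f717⟩
  · exact ⟨[4, 1, 2, 9], by decide, H.f719⟩
  · exact ⟨[4, 7, 1, 4], by decide, H.f532⟩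
  · exact ⟨[4, 2, 9, 3], by decide, H.f716⟩
  · exact ⟨[4, 1, 2, 4], by decide, H.f449⟩
  · exact ⟨[4, 2, 4, 2], by decide, H.f582⟩
  · exact ⟨[4, 2, 4, 6], by decide, H.f645⟩
  · exact ⟨[9, 2, 9, 6], by decide, H.f647⟩
  · exact ⟨[4, 7, 9, 7], by decide, H.f626⟩
  · exact ⟨[4, 1, 7, 4], by decide, H.f721⟩
  · exact ⟨[4, 2, 9, 7], by decide, H.f697⟩
  · exact ⟨[4, 2, 9, 1], by decide, H.f692⟩
  · exact ⟨[9, 2, 9], by decide, H.f523⟩
  · exact ⟨[9, 7, 9, 1], by decide, H.f530⟩
  · exact ⟨[9, 7, 9, 6], by decide, H.f732⟩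
  · exact ⟨[4, 2, 9, 6], by decide, H.f627⟩
  · exact ⟨[4, 2, 4, 1], by decide, H.f661⟩
  · exact ⟨[4, 7, 4, 6], by decide, H.f559⟩
  · exact ⟨[4, 7, 4, 1], by decide, H.f729⟩
  · exact ⟨[4, 1, 7, 4, 1], by decide, H.f794⟩
  · exact ⟨[4, 1, 7, 4, 6], by decide, H.f814⟩
  · exact ⟨[4, 1, 2, 9, 6], by decide, H.f791⟩
  · exact ⟨[4, 1, 2, 9, 1], by decide, H.f811⟩

theorem step1 : ∀ w ∈ reps, ∃ w' ∈ reps, g 1 • path g w p = path g w' p := by
  intro w hw
  simp only [reps, List.mem_cons, List.not_mem_nil, or_false] at hw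
  rcases hw with rfl | rfl | rfl | rfl | rfl | rfl | rfl | rfl | rfl | rfl | rfl | rfl | rfl | rfl | rfl | rfl | rfl | rfl | rfl | rfl | rfl | rfl | rfl | rfl | rfl | rfl | rfl | rfl | rfl | rfl | rfl | rfl | rfl | rfl | rfl | rfl | rfl | rfl | rfl | rfl | rfl | rfl | rfl | rfl | rfl
  · exact ⟨[], by decide, H.f2⟩
  · exact ⟨[4, 1], by decide, H.f24⟩
  · exact ⟨[9, 1], by decide, H.f42⟩
  · exact ⟨[4], by decide, H.f26⟩
  · exact ⟨[9, 2], by decide, H.f84⟩
  · exact ⟨[4, 7, 1], by decide, H.f172⟩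
  · exact ⟨[9], by decide, H.f44⟩
  · exact ⟨[4, 2], by decide, H.f85⟩
  · exact ⟨[4, 1, 7], by decide, H.f112⟩
  · exact ⟨[4, 2, 0], by decide, H.f130⟩
  · exact ⟨[9, 7], by decide, H.f109⟩
  · exact ⟨[4, 1, 2], by decide, H.f127⟩
  · exact ⟨[4, 2, 4, 1], by decide, H.f250⟩
  · exact ⟨[4, 2, 9, 1], by decide, H.f266⟩
  · exact ⟨[4, 7], by decide, H.f174⟩
  · exact ⟨[4, 7, 4, 1], by decide, H.f312⟩
  · exact ⟨[4, 2, 9, 6], by decide, H.f285⟩
  · exact ⟨[4, 2, 9, 7], by decide, H.f682⟩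
  · exact ⟨[4, 2, 4, 2], by decide, H.f586⟩
  · exact ⟨[4, 7, 9, 7], by decide, H.f617⟩
  · exact ⟨[9, 7, 9, 1], by decide, H.f412⟩
  · exact ⟨[4, 7, 4, 6], by decide, H.f329⟩
  · exact ⟨[4, 1, 2, 9, 1], by decide, H.f741⟩
  · exact ⟨[4, 1, 7, 4, 1], by decide, H.f787⟩
  · exact ⟨[9, 2, 9, 6], by decide, H.f391⟩
  · exact ⟨[4, 1, 7, 4, 6], by decide, H.f810⟩
  · exact ⟨[9, 7, 9, 6], by decide, H.f728⟩
  · exact ⟨[4, 7, 1, 4], by decide, H.f303⟩
  · exact ⟨[4, 1, 7, 9], by decide, H.f587⟩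
  · exact ⟨[4, 2, 4], by decide, H.f257⟩
  · exact ⟨[4, 7, 9], by decide, H.f268⟩
  · exact ⟨[4, 1, 2, 9, 6], by decide, H.f774⟩
  · exact ⟨[4, 2, 9], by decide, H.f283⟩
  · exact ⟨[9, 7, 4], by decide, H.f683⟩
  · exact ⟨[4, 2, 4, 6], by decide, H.f300⟩
  · exact ⟨[4, 1, 2, 4], by decide, H.f314⟩
  · exact ⟨[4, 7, 4], by decide, H.f327⟩
  · exact ⟨[9, 2, 4], by decide, H.f612⟩
  · exact ⟨[9, 2, 9], by decide, H.f389⟩
  · exact ⟨[4, 2, 0, 9], by decide, H.f414⟩
  · exact ⟨[9, 7, 9], by decide, H.f726⟩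
  · exact ⟨[4, 2, 9, 3], by decide, H.f743⟩
  · exact ⟨[4, 1, 2, 9], by decide, H.f772⟩
  · exact ⟨[4, 2, 0, 4], by decide, H.f789⟩
  · exact ⟨[4, 1, 7, 4], by decide, H.f808⟩

theorem step2 : ∀ w ∈ reps, ∃ w' ∈ reps, g 2 • path g w p = path g w' p := by
  intro w hw
  simp only [reps, List.mem_cons, List.not_mem_nil, or_false] at hw
  rcases hw with rfl | rfl | rfl | rfl | rfl | rfl | rfl | rfl | rfl | rfl | rfl | rfl | rfl | rfl | rfl | rfl | rfl | rfl | rfl | rfl | rfl | rfl | rfl | rfl | rfl | rfl | rfl | rfl | rfl | rfl | rfl | rfl | rfl | rfl | rfl | rfl | rfl | rfl | rfl | rfl | rfl | rfl | rfl | rfl | rfl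
  · exact ⟨[], by decide, H.f4⟩
  · exact ⟨[4, 2], by decide, H.f30⟩
  · exact ⟨[9, 2], by decide, H.f81⟩
  · exact ⟨[4, 1, 2], by decide, H.f91⟩
  · exact ⟨[4, 7], by decide, H.f35⟩
  · exact ⟨[4], by decide, H.f33⟩
  · exact ⟨[4, 2, 0], by decide, H.f132⟩
  · exact ⟨[9, 7], by decide, H.f90⟩
  · exact ⟨[9], by decide, H.f88⟩
  · exact ⟨[4, 1, 7], by decide, H.f104⟩
  · exact ⟨[4, 1], by decide, H.f102⟩
  · exact ⟨[4, 7, 1], by decide, H.f181⟩
  · exact ⟨[4, 2, 4, 2], by decide, H.f252⟩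
  · exact ⟨[9, 2, 4], by decide, H.f709⟩
  · exact ⟨[9, 1], by decide, H.f182⟩
  · exact ⟨[4, 7, 4], by decide, H.f550⟩
  · exact ⟨[9, 7, 4], by decide, H.f643⟩
  · exact ⟨[4, 2, 9, 7], by decide, H.f707⟩
  · exact ⟨[9, 2, 9], by decide, H.f659⟩
  · exact ⟨[4, 7, 9, 7], by decide, H.f639⟩
  · exact ⟨[4, 7, 4, 6], by decide, H.f569⟩
  · exact ⟨[4, 1, 2, 4], by decide, H.f673⟩
  · exact ⟨[4, 1, 2, 9, 1], by decide, H.f746⟩
  · exact ⟨[4, 1, 2, 9], by decide, H.f723⟩
  · exact ⟨[4, 1, 7, 9], by decide, H.f665⟩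
  · exact ⟨[4, 2, 9, 3], by decide, H.f713⟩
  · exact ⟨[4, 7, 4, 1], by decide, H.f567⟩
  · exact ⟨[4, 7, 1, 4], by decide, H.f579⟩
  · exact ⟨[4, 2, 4, 6], by decide, H.f578⟩
  · exact ⟨[4, 2, 4], by decide, H.f573⟩
  · exact ⟨[4, 2, 9, 1], by decide, H.f671⟩
  · exact ⟨[4, 1, 2, 9, 6], by decide, H.f776⟩
  · exact ⟨[4, 2, 9, 6], by decide, H.f641⟩
  · exact ⟨[4, 2, 9], by decide, H.f287⟩
  · exact ⟨[9, 2, 9, 6], by decide, H.f669⟩
  · exact ⟨[9, 7, 9, 1], by decide, H.f563⟩
  · exact ⟨[9, 7, 9, 6], by decide, H.f734⟩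
  · exact ⟨[4, 7, 9], by decide, H.f341⟩
  · exact ⟨[4, 2, 4, 1], by decide, H.f664⟩
  · exact ⟨[4, 2, 0, 9], by decide, H.f565⟩
  · exact ⟨[9, 7, 9], by decide, H.f735⟩
  · exact ⟨[4, 1, 7, 4], by decide, H.f747⟩
  · exact ⟨[4, 2, 0, 4], by decide, H.f777⟩
  · exact ⟨[4, 1, 7, 4, 1], by decide, H.f796⟩
  · exact ⟨[4, 1, 7, 4, 6], by decide, H.f816⟩

theorem step3 : ∀ w ∈ reps, ∃ w' ∈ reps, g 3 • path g w p = path g w' p := by
  intro w hw
  simp only [reps, List.mem_cons, List.not_mem_nil, or_false] at hw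
  rcases hw with rfl | rfl | rfl | rfl | rfl | rfl | rfl | rfl | rfl | rfl | rfl | rfl | rfl | rfl | rfl | rfl | rfl | rfl | rfl | rfl | rfl | rfl | rfl | rfl | rfl | rfl | rfl | rfl | rfl | rfl | rfl | rfl | rfl | rfl | rfl | rfl | rfl | rfl | rfl | rfl | rfl | rfl | rfl | rfl | rfl
  · exact ⟨[], by decide, H.f6⟩
  · exact ⟨[4], by decide, H.f11⟩
  · exact ⟨[9], by decide, H.f16⟩
  · exact ⟨[4, 1], by decide, H.f28⟩
  · exact ⟨[4, 7], by decide, H.f50⟩
  · exact ⟨[4, 2], by decide, H.f79⟩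
  · exact ⟨[9, 1], by decide, H.f46⟩
  · exact ⟨[4, 1, 7], by decide, H.f114⟩
  · exact ⟨[4, 2, 0], by decide, H.f134⟩
  · exact ⟨[4, 7, 1], by decide, H.f187⟩
  · exact ⟨[9, 2], by decide, H.f116⟩
  · exact ⟨[9, 7], by decide, H.f135⟩
  · exact ⟨[4, 2, 4], by decide, H.f167⟩
  · exact ⟨[4, 2, 9, 3], by decide, H.f272⟩
  · exact ⟨[4, 1, 2], by decide, H.f184⟩
  · exact ⟨[4, 7, 4], by decide, H.f191⟩
  · exact ⟨[4, 1, 2, 9], by decide, H.f227⟩
  · exact ⟨[9, 2, 4], by decide, H.f199⟩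
  · exact ⟨[9, 7, 9], by decide, H.f215⟩
  · exact ⟨[9, 7, 4], by decide, H.f207⟩
  · exact ⟨[9, 2, 9], by decide, H.f212⟩
  · exact ⟨[4, 1, 2, 4], by decide, H.f219⟩
  · exact ⟨[4, 7, 9], by decide, H.f224⟩
  · exact ⟨[4, 1, 7, 4], by decide, H.f231⟩
  · exact ⟨[4, 2, 0, 9], by decide, H.f247⟩
  · exact ⟨[4, 2, 0, 4], by decide, H.f239⟩
  · exact ⟨[4, 1, 7, 9], by decide, H.f244⟩
  · exact ⟨[4, 7, 9, 7], by decide, H.f623⟩
  · exact ⟨[4, 1, 2, 9, 6], by decide, H.f780⟩
  · exact ⟨[4, 2, 9, 7], by decide, H.f691⟩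
  · exact ⟨[9, 7, 9, 1], by decide, H.f416⟩
  · exact ⟨[4, 2, 9], by decide, H.f274⟩
  · exact ⟨[9, 7, 9, 6], by decide, H.f738⟩
  · exact ⟨[4, 2, 4, 6], by decide, H.f686⟩
  · exact ⟨[4, 7, 1, 4], by decide, H.f295⟩
  · exact ⟨[4, 1, 7, 4, 6], by decide, H.f818⟩
  · exact ⟨[4, 1, 7, 4, 1], by decide, H.f800⟩
  · exact ⟨[4, 2, 4, 1], by decide, H.f618⟩
  · exact ⟨[4, 1, 2, 9, 1], by decide, H.f752⟩
  · exact ⟨[4, 2, 9, 1], by decide, H.f524⟩
  · exact ⟨[4, 2, 9, 6], by decide, H.f739⟩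
  · exact ⟨[9, 2, 9, 6], by decide, H.f749⟩
  · exact ⟨[4, 2, 4, 2], by decide, H.f781⟩
  · exact ⟨[4, 7, 4, 6], by decide, H.f797⟩
  · exact ⟨[4, 7, 4, 1], by decide, H.f819⟩

theorem step4 : ∀ w ∈ reps, ∃ w' ∈ reps, g 4 • path g w p = path g w' p := by
  intro w hw
  simp only [reps, List.mem_cons, List.not_mem_nil, or_false] at hw
  rcases hw with rfl | rfl | rfl | rfl | rfl | rfl | rfl | rfl | rfl | rfl | rfl | rfl | rfl | rfl | rfl | rfl | rfl | rfl | rfl | rfl | rfl | rfl | rfl | rfl | rfl | rfl | rfl | rfl | rfl | rfl | rfl | rfl | rfl | rfl | rfl | rfl | rfl | rfl | rfl | rfl | rfl | rfl | rfl | rfl | rfl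
  · exact ⟨[4], by decide, H.f8⟩
  · exact ⟨[9], by decide, H.f15⟩
  · exact ⟨[], by decide, H.f13⟩
  · exact ⟨[4, 1], by decide, H.f149⟩
  · exact ⟨[4, 2, 4], by decide, H.f164⟩
  · exact ⟨[4, 7, 4], by decide, H.f188⟩
  · exact ⟨[9, 1], by decide, H.f137⟩
  · exact ⟨[9, 2, 4], by decide, H.f196⟩
  · exact ⟨[9, 7, 4], by decide, H.f204⟩
  · exact ⟨[4, 1, 2, 4], by decide, H.f216⟩
  · exact ⟨[4, 1, 7, 4], by decide, H.f228⟩
  · exact ⟨[4, 2, 0, 4], by decide, H.f236⟩
  · exact ⟨[4, 2, 9], by decide, H.f171⟩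
  · exact ⟨[4, 2], by decide, H.f169⟩
  · exact ⟨[4, 7, 1, 4], by decide, H.f290⟩
  · exact ⟨[4, 7, 9], by decide, H.f195⟩
  · exact ⟨[4, 7], by decide, H.f193⟩
  · exact ⟨[9, 2, 9], by decide, H.f203⟩
  · exact ⟨[9, 2], by decide, H.f201⟩
  · exact ⟨[9, 7, 9], by decide, H.f211⟩
  · exact ⟨[9, 7], by decide, H.f209⟩
  · exact ⟨[4, 1, 2, 9], by decide, H.f223⟩
  · exact ⟨[4, 1, 2], by decide, H.f221⟩
  · exact ⟨[4, 1, 7, 9], by decide, H.f235⟩
  · exact ⟨[4, 1, 7], by decide, H.f233⟩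
  · exact ⟨[4, 2, 0, 9], by decide, H.f243⟩
  · exact ⟨[4, 2, 0], by decide, H.f241⟩
  · exact ⟨[4, 2, 4, 1], by decide, H.f756⟩
  · exact ⟨[4, 2, 9, 1], by decide, H.f768⟩
  · exact ⟨[4, 7, 9, 7], by decide, H.f753⟩
  · exact ⟨[9, 7, 9, 6], by decide, H.f764⟩
  · exact ⟨[4, 7, 1], by decide, H.f276⟩
  · exact ⟨[4, 2, 9, 6], by decide, H.f761⟩
  · exact ⟨[4, 7, 4, 6], by decide, H.f766⟩
  · exact ⟨[4, 2, 9, 3], by decide, H.f292⟩
  · exact ⟨[4, 7, 4, 1], by decide, H.f805⟩
  · exact ⟨[4, 1, 7, 4, 6], by decide, H.f821⟩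
  · exact ⟨[4, 1, 7, 4, 1], by decide, H.f803⟩
  · exact ⟨[9, 7, 9, 1], by decide, H.f759⟩
  · exact ⟨[4, 1, 2, 9, 6], by decide, H.f783⟩
  · exact ⟨[4, 2, 4, 2], by decide, H.f770⟩
  · exact ⟨[4, 1, 2, 9, 1], by decide, H.f758⟩
  · exact ⟨[9, 2, 9, 6], by decide, H.f786⟩
  · exact ⟨[4, 2, 4, 6], by decide, H.f801⟩
  · exact ⟨[4, 2, 9, 7], by decide, H.f824⟩

end CosetData

end CfsgPSp43
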