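import Cfsg.Agent.Lib.Basic

/-!
Groups with the involution centraliser of PSp₄(3): steps of a coset enumeration in an action.

The letters are `0, …, 4` for the generators and `5, …, 9` for their inverses.
-/

set_option autoImplicit false

namespace CfsgPSp43

variable {M α : Type*} [Group M] [MulAction M α] {g : ℕ → M}

/-- The successive application of the letters of a word. -/
def path (g : ℕ → M) (w : List ℕ) (x : α) : α := w.foldl (fun y i => g i • y) x

/-- The value of a word, read as a product from the left. -/
def wordVal (g : ℕ → M) (w : List ℕ) : M := (w.map g).prod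

/-- The relations of the enumeration. -/
def relWords : List (List ℕ) := [
  [0, 0, 0, 0],
  [1, 1, 5, 5],
  [0, 1, 0, 6],
  [2, 2, 2],
  [3, 3],
  [2, 0, 7, 6],
  [2, 1, 7, 6, 5],
  [0, 3, 0, 3, 5, 8, 5, 8],
  [0, 3, 1, 3, 5, 8, 6, 8],
  [1, 3, 1, 3, 6, 8, 6, 8],
  [2, 3, 2, 3, 7, 8, 7, 8],
  [0, 3, 2, 3, 5, 8, 7, 8],
  [1, 3, 2, 3, 6, 8, 7, 8],
  [0, 0, 8, 5, 5, 8],
  [4, 4, 4],
  [4, 0, 0, 9, 8],
  [4, 3, 9, 8, 5, 8, 5, 8, 5, 5],
  [4, 0, 0, 3, 1, 3, 1, 3, 9, 8, 6, 8, 6, 8, 5, 5],
  [1, 3, 0, 1, 3, 4, 1, 3, 0, 1, 3, 4],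
  [4, 1, 3, 0, 1, 3, 2, 3, 2, 3, 4, 1, 3, 0, 1, 3, 2, 3, 2, 3],
  [4, 2, 0, 0, 3, 1, 3, 1, 3, 7, 9, 2, 2, 3, 7, 7, 4, 2, 8, 6, 8, 6, 8, 5, 5, 7, 9, 2, 2, 8, 7, 7]]

/-- The inverse letter. -/
def invLetter (i : ℕ) : ℕ := (i + 5) % 10

/-- Generators satisfying the relations, the first four fixing the base point. -/
structure CosetData {α : Type*} [MulAction M α] (g : ℕ → M) (p : α) : Prop where
  inv : ∀ i < 10, g (invLetter i) = (g i)⁻¹
  rel : ∀ w ∈ relWords, wordVal g w = 1
  base : ∀ {i : ℕ}, i < 4 → g i • p = p

theorem path_cons (i : ℕ) (w : List ℕ) (x : α) : path g (i :: w) x = path g w (g i • x) := rfl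

theorem path_append (u w : List ℕ) (x : α) : path g (u ++ w) x = path g w (path g u x) := by
  simp [path, List.foldl_append]

theorem path_reverse (w : List ℕ) (x : α) : path g w.reverse x = wordVal g w • x := by
  induction w generalizing x with
  | nil => simp [path, wordVal]
  | cons i w ih =>
    rw [List.reverse_cons, path_append, ih]
    simp only [wordVal, List.map_cons, List.prod_cons, mul_smul]
    rfl

/-- Prepend a step. -/
theorem step {i : ℕ} {w : List ℕ} {a c b : α} (h : g i • a = c) (h' : path g w c = b) :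
    path g (i :: w) a = b := by
  rw [path_cons, h, h']

/-- A relation closing two chains. -/
theorem close {u w : List ℕ} {a b f : α} (h : ∀ x : α, path g (u ++ w) x = x) (hu : path g u a = f)
    (hw : path g w b = a) : f = b := by
  have h1 := h a
  rw [path_append, hu] at h1
  have inj : ∀ (w : List ℕ) (x y : α), path g w x = path g w y → x = y := by
    intro w
    induction w with
    | nil => exact fun x y h => h
    | cons i w ih =>
      intro x y h
      exact smul_left_cancel (g i) (ih _ _ h)
  exact inj w f b (h1.trans hw.symm)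

/-- A relation giving a missing step. -/
theorem scan {u w : List ℕ} {i : ℕ} {a b f : α} (h : ∀ x : α, path g (u ++ i :: w) x = x) (hu : path g u a = f)
    (hw : path g w b = a) : g i • f = b :=
  close (u := u ++ [i]) (w := w) (a := a) (fun x => by rw [List.append_assoc]; exact h x)
    (by rw [path_append, hu]; rfl) hw

namespace CosetData

variable {p : α} (H : CosetData g p)
include H

theorem back {i : ℕ} (hi : i < 10) {a b : α} (h : g i • a = b) : g ((i + 5) % 10) • b = a := by
  rw [show (i + 5) % 10 = invLetter i from rfl, H.inv i hi, inv_smul_eq_iff, h]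

theorem trivial_rev {i : ℕ} (hi : i < relWords.length) (x : α) : path g (relWords.getD i []).reverse x = x := by
  rw [path_reverse, H.rel _ (by rw [List.getD_eq_getElem?_getD, List.getElem?_eq_getElem hi]; exact List.getElem_mem hi),
    one_smul]

theorem trivial_inv {i : ℕ} (hi : i < relWords.length) (x : α) :
    path g ((relWords.getD i []).map invLetter) x = x := by
  have key : ∀ w : List ℕ, (∀ j ∈ w, j < 10) → ∀ y : α, path g (w.map invLetter) y = (wordVal g w)⁻¹ • y := by
    intro w
    induction w with
    | nil => intro _ y; simp [path, wordVal]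
    | cons j w ih =>
      intro hj y
      rw [List.map_cons, path_cons, ih (fun k hk => hj k (List.mem_cons_of_mem _ hk)), H.inv j (hj j (List.mem_cons_self ..))]
      simp only [wordVal, List.map_cons, List.prod_cons, mul_inv_rev, mul_smul]
  have hm : relWords.getD i [] ∈ relWords := by
    rw [List.getD_eq_getElem?_getD, List.getElem?_eq_getElem hi]; exact List.getElem_mem hi
  have hlt : ∀ w ∈ relWords, ∀ j ∈ w, j < 10 := by decide
  rw [key _ (hlt _ hm), H.rel _ hm, inv_one, one_smul]

end CosetData

/-- A cyclic shift of a word acting trivially acts trivially. -/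
theorem trivial_rot (k : ℕ) {v v' : List ℕ} (h : ∀ x : α, path g v x = x) (he : v.drop k ++ v.take k = v') (x : α) :
    path g v' x = x := by
  rw [← he, path_append]
  have inj : ∀ (w : List ℕ) (x y : α), path g w x = path g w y → x = y := by
    intro w
    induction w with
    | nil => exact fun x y h => h
    | cons i w ih =>
      intro x y h
      exact smul_left_cancel (g i) (ih _ _ h)
  refine inj (v.drop k) _ _ ?_
  rw [← path_append, List.take_append_drop, h]

end CfsgPSp43
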