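import Cfsg.Agent.Lib.Basic

/-!
Groups with the involution centraliser of PSp₄(3): tables for the actions on the elementary abelian subgroup.
-/

set_option autoImplicit false

namespace CfsgPSp43

/-- The actions of the elements of the centraliser. -/
def a4L : List (List ℕ) := [
  [0,1,2,3,4,5,6,7,8,9,10,11,12,13,14,15],
  [0,1,2,3,8,9,10,11,12,13,14,15,4,5,6,7],
  [0,1,2,3,12,13,14,15,4,5,6,7,8,9,10,11],
  [0,1,7,6,4,5,3,2,9,8,14,15,13,12,10,11],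
  [0,1,7,6,9,8,14,15,13,12,10,11,4,5,3,2],
  [0,1,7,6,13,12,10,11,4,5,3,2,9,8,14,15],
  [0,1,11,10,5,4,14,15,8,9,3,2,13,12,6,7],
  [0,1,11,10,8,9,3,2,13,12,6,7,5,4,14,15],
  [0,1,11,10,13,12,6,7,5,4,14,15,8,9,3,2],
  [0,1,15,14,5,4,10,11,9,8,6,7,12,13,3,2],
  [0,1,15,14,9,8,6,7,12,13,3,2,5,4,10,11],
  [0,1,15,14,12,13,3,2,5,4,10,11,9,8,6,7]]

/-- The sixty actions of the normaliser. -/
def l60 : List (List ℕ) := [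
  [0,1,2,3,4,5,6,7,8,9,10,11,12,13,14,15],
  [0,1,2,3,8,9,10,11,12,13,14,15,4,5,6,7],
  [0,1,2,3,12,13,14,15,4,5,6,7,8,9,10,11],
  [0,1,7,6,4,5,3,2,9,8,14,15,13,12,10,11],
  [0,1,7,6,9,8,14,15,13,12,10,11,4,5,3,2],
  [0,1,7,6,13,12,10,11,4,5,3,2,9,8,14,15],
  [0,1,11,10,5,4,14,15,8,9,3,2,13,12,6,7],
  [0,1,11,10,8,9,3,2,13,12,6,7,5,4,14,15],
  [0,1,11,10,13,12,6,7,5,4,14,15,8,9,3,2],
  [0,1,15,14,5,4,10,11,9,8,6,7,12,13,3,2],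
  [0,1,15,14,9,8,6,7,12,13,3,2,5,4,10,11],
  [0,1,15,14,12,13,3,2,5,4,10,11,9,8,6,7],
  [0,2,1,3,4,6,5,7,12,14,13,15,8,10,9,11],
  [0,2,1,3,8,10,9,11,4,6,5,7,12,14,13,15],
  [0,2,1,3,12,14,13,15,8,10,9,11,4,6,5,7],
  [0,2,7,5,4,6,3,1,14,12,9,11,10,8,13,15],
  [0,2,7,5,10,8,13,15,4,6,3,1,14,12,9,11],
  [0,2,7,5,14,12,9,11,10,8,13,15,4,6,3,1],
  [0,2,11,9,6,4,13,15,14,12,5,7,8,10,3,1],
  [0,2,11,9,8,10,3,1,6,4,13,15,14,12,5,7],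
  [0,2,11,9,14,12,5,7,8,10,3,1,6,4,13,15],
  [0,2,15,13,6,4,9,11,12,14,3,1,10,8,5,7],
  [0,2,15,13,10,8,5,7,6,4,9,11,12,14,3,1],
  [0,2,15,13,12,14,3,1,10,8,5,7,6,4,9,11],
  [0,7,1,6,4,3,5,2,13,10,12,11,9,14,8,15],
  [0,7,1,6,9,14,8,15,4,3,5,2,13,10,12,11],
  [0,7,1,6,13,10,12,11,9,14,8,15,4,3,5,2],
  [0,7,2,5,4,3,6,1,10,13,8,15,14,9,12,11],
  [0,7,2,5,10,13,8,15,14,9,12,11,4,3,6,1],
  [0,7,2,5,14,9,12,11,4,3,6,1,10,13,8,15],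
  [0,7,11,12,3,4,8,15,13,10,6,1,14,9,5,2],
  [0,7,11,12,13,10,6,1,14,9,5,2,3,4,8,15],
  [0,7,11,12,14,9,5,2,3,4,8,15,13,10,6,1],
  [0,7,15,8,3,4,12,11,10,13,5,2,9,14,6,1],
  [0,7,15,8,9,14,6,1,3,4,12,11,10,13,5,2],
  [0,7,15,8,10,13,5,2,9,14,6,1,3,4,12,11],
  [0,11,1,10,5,14,4,15,13,6,12,7,8,3,9,2],
  [0,11,1,10,8,3,9,2,5,14,4,15,13,6,12,7],
  [0,11,1,10,13,6,12,7,8,3,9,2,5,14,4,15],
  [0,11,2,9,6,13,4,15,8,3,10,1,14,5,12,7],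
  [0,11,2,9,8,3,10,1,14,5,12,7,6,13,4,15],
  [0,11,2,9,14,5,12,7,6,13,4,15,8,3,10,1],
  [0,11,7,12,3,8,4,15,14,5,9,2,13,6,10,1],
  [0,11,7,12,13,6,10,1,3,8,4,15,14,5,9,2],
  [0,11,7,12,14,5,9,2,13,6,10,1,3,8,4,15],
  [0,11,15,4,3,8,12,7,5,14,10,1,6,13,9,2],
  [0,11,15,4,5,14,10,1,6,13,9,2,3,8,12,7],
  [0,11,15,4,6,13,9,2,3,8,12,7,5,14,10,1],
  [0,15,1,14,5,10,4,11,12,3,13,2,9,6,8,7],
  [0,15,1,14,9,6,8,7,5,10,4,11,12,3,13,2],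
  [0,15,1,14,12,3,13,2,9,6,8,7,5,10,4,11],
  [0,15,2,13,6,9,4,11,10,5,8,7,12,3,14,1],
  [0,15,2,13,10,5,8,7,12,3,14,1,6,9,4,11],
  [0,15,2,13,12,3,14,1,6,9,4,11,10,5,8,7],
  [0,15,7,8,3,12,4,11,9,6,14,1,10,5,13,2],
  [0,15,7,8,9,6,14,1,10,5,13,2,3,12,4,11],
  [0,15,7,8,10,5,13,2,3,12,4,11,9,6,14,1],
  [0,15,11,4,3,12,8,7,6,9,13,2,5,10,14,1],
  [0,15,11,4,5,10,14,1,3,12,8,7,6,9,13,2],
  [0,15,11,4,6,9,13,2,5,10,14,1,3,12,8,7]]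

/-- The candidates sending `z` to `u`. -/
def candU : List (List ℕ) := [
  [0,4,2,6,1,5,3,7,10,14,8,12,11,15,9,13],
  [0,4,2,6,1,5,3,7,11,15,9,13,10,14,8,12],
  [0,4,2,6,1,5,3,7,14,10,12,8,15,11,13,9],
  [0,4,2,6,1,5,3,7,15,11,13,9,14,10,12,8],
  [0,4,3,7,1,5,2,6,10,14,9,13,11,15,8,12],
  [0,4,3,7,1,5,2,6,11,15,8,12,10,14,9,13],
  [0,4,3,7,1,5,2,6,14,10,13,9,15,11,12,8],
  [0,4,3,7,1,5,2,6,15,11,12,8,14,10,13,9],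
  [0,4,6,2,1,5,7,3,10,14,12,8,11,15,13,9],
  [0,4,6,2,1,5,7,3,11,15,13,9,10,14,12,8],
  [0,4,6,2,1,5,7,3,14,10,8,12,15,11,9,13],
  [0,4,6,2,1,5,7,3,15,11,9,13,14,10,8,12],
  [0,4,7,3,1,5,6,2,10,14,13,9,11,15,12,8],
  [0,4,7,3,1,5,6,2,11,15,12,8,10,14,13,9],
  [0,4,7,3,1,5,6,2,14,10,9,13,15,11,8,12],
  [0,4,7,3,1,5,6,2,15,11,8,12,14,10,9,13],
  [0,4,8,12,5,1,13,9,10,14,2,6,15,11,7,3],
  [0,4,8,12,5,1,13,9,11,15,3,7,14,10,6,2],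
  [0,4,8,12,5,1,13,9,14,10,6,2,11,15,3,7],
  [0,4,8,12,5,1,13,9,15,11,7,3,10,14,2,6],
  [0,4,9,13,5,1,12,8,10,14,3,7,15,11,6,2],
  [0,4,9,13,5,1,12,8,11,15,2,6,14,10,7,3],
  [0,4,9,13,5,1,12,8,14,10,7,3,11,15,2,6],
  [0,4,9,13,5,1,12,8,15,11,6,2,10,14,3,7],
  [0,4,12,8,5,1,9,13,10,14,6,2,15,11,3,7],
  [0,4,12,8,5,1,9,13,11,15,7,3,14,10,2,6],
  [0,4,12,8,5,1,9,13,14,10,2,6,11,15,7,3],
  [0,4,12,8,5,1,9,13,15,11,3,7,10,14,6,2],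
  [0,4,13,9,5,1,8,12,10,14,7,3,15,11,2,6],
  [0,4,13,9,5,1,8,12,11,15,6,2,14,10,3,7],
  [0,4,13,9,5,1,8,12,14,10,3,7,11,15,6,2],
  [0,4,13,9,5,1,8,12,15,11,2,6,10,14,7,3]]

/-- The candidates sending `z` to `s`. -/
def candS : List (List ℕ) := [
  [0,2,1,3,4,6,5,7,8,10,9,11,12,14,13,15],
  [0,2,1,3,4,6,5,7,12,14,13,15,8,10,9,11],
  [0,2,1,3,8,10,9,11,4,6,5,7,12,14,13,15],
  [0,2,1,3,8,10,9,11,12,14,13,15,4,6,5,7],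
  [0,2,1,3,12,14,13,15,4,6,5,7,8,10,9,11],
  [0,2,1,3,12,14,13,15,8,10,9,11,4,6,5,7],
  [0,2,3,1,4,6,7,5,8,10,11,9,12,14,15,13],
  [0,2,3,1,4,6,7,5,12,14,15,13,8,10,11,9],
  [0,2,3,1,8,10,11,9,4,6,7,5,12,14,15,13],
  [0,2,3,1,8,10,11,9,12,14,15,13,4,6,7,5],
  [0,2,3,1,12,14,15,13,4,6,7,5,8,10,11,9],
  [0,2,3,1,12,14,15,13,8,10,11,9,4,6,7,5]]

/-- The candidates sending `z` to `z s`. -/
def candZ : List (List ℕ) := [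
  [0,3,1,2,4,7,5,6,8,11,9,10,12,15,13,14],
  [0,3,1,2,4,7,5,6,12,15,13,14,8,11,9,10],
  [0,3,1,2,8,11,9,10,4,7,5,6,12,15,13,14],
  [0,3,1,2,8,11,9,10,12,15,13,14,4,7,5,6],
  [0,3,1,2,12,15,13,14,4,7,5,6,8,11,9,10],
  [0,3,1,2,12,15,13,14,8,11,9,10,4,7,5,6],
  [0,3,2,1,4,7,6,5,8,11,10,9,12,15,14,13],
  [0,3,2,1,4,7,6,5,12,15,14,13,8,11,10,9],
  [0,3,2,1,8,11,10,9,4,7,6,5,12,15,14,13],
  [0,3,2,1,8,11,10,9,12,15,14,13,4,7,6,5],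
  [0,3,2,1,12,15,14,13,4,7,6,5,8,11,10,9],
  [0,3,2,1,12,15,14,13,8,11,10,9,4,7,6,5]]

/-- Words refuting the candidates sending `z` to `u`; the generators are the actions of the centraliser and the candidate. -/
def certU : List (List ℕ) := [[12,1,12,2,12,5,12], [12,12], [12,12], [12,1,12,1,12,5,12], [12,6,12,6,12], [12,12], [12,12], [12,6,12,6,12], [12,12], [12,6,12,6,12], [12,6,12,6,12], [12,12], [12,12], [12,1,12,2,12,5,12], [12,1,12,1,12,5,12], [12,12], [12,6,12], [12,1,12,1,12,2,12], [12,6,12], [12,12,12], [12,6,12], [12,12,12], [12,6,12], [12,1,12,4,12,5,12], [12,1,12,1,12,2,12], [12,6,12], [12,12,12], [12,6,12], [12,12,12], [12,6,12], [12,1,12,4,12,5,12], [12,6,12]]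

/-- Words refuting pairs of candidates. -/
def certP : List (List ℕ) := [
  [13,12], [13,12], [13,12], [13,12], [13,12], [13,12], [12,13,12], [12,13,12], [12,13,12], [12,13,12], [12,13,12], [12,13,12],
  [13,12], [13,12], [13,12], [13,12], [13,12], [13,12], [12,13,12], [12,13,12], [12,13,12], [12,13,12], [12,13,12], [12,13,12],
  [13,12], [13,12], [13,12], [13,12], [13,12], [13,12], [12,13,12], [12,13,12], [12,13,12], [12,13,12], [12,13,12], [12,13,12],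
  [13,12], [13,12], [13,12], [13,12], [13,12], [13,12], [12,13,12], [12,13,12], [12,13,12], [12,13,12], [12,13,12], [12,13,12],
  [13,12], [13,12], [13,12], [13,12], [13,12], [13,12], [12,13,12], [12,13,12], [12,13,12], [12,13,12], [12,13,12], [12,13,12],
  [13,12], [13,12], [13,12], [13,12], [13,12], [13,12], [12,13,12], [12,13,12], [12,13,12], [12,13,12], [12,13,12], [12,13,12],
  [12,3,13,3,12], [12,13], [12,13], [12,3,13,9,12], [12,3,13,6,12], [12,13], [12,13], [12,13], [12,13], [12,13], [12,13], [12,13],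
  [12,13], [12,12,12], [12,12,12], [12,13], [12,13], [12,12,12], [12,13], [12,13], [12,13], [12,13], [12,13], [12,13],
  [12,13], [12,12,12], [12,12,12], [12,13], [12,13], [12,12,12], [12,13], [12,13], [12,13], [12,13], [12,13], [12,13],
  [12,3,13,3,12], [12,13], [12,13], [12,3,13,9,12], [12,3,13,6,12], [12,13], [12,13], [12,13], [12,13], [12,13], [12,13], [12,13],
  [12,3,13,3,12], [12,13], [12,13], [12,3,13,9,12], [12,3,13,6,12], [12,13], [12,13], [12,13], [12,13], [12,13], [12,13], [12,13],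
  [12,13], [12,12,12], [12,12,12], [12,13], [12,13], [12,12,12], [12,13], [12,13], [12,13], [12,13], [12,13], [12,13]]

/-- The permutations of the five points sending `z` to `s`. -/
def candF : List (List ℕ) := [
  [0,2,1,3,4,6,5,7,8,10,9,11,12,14,13,15],
  [0,2,1,3,4,6,5,7,12,14,13,15,8,10,9,11],
  [0,2,1,3,8,10,9,11,4,6,5,7,12,14,13,15],
  [0,2,1,3,8,10,9,11,12,14,13,15,4,6,5,7],
  [0,2,1,3,12,14,13,15,4,6,5,7,8,10,9,11],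
  [0,2,1,3,12,14,13,15,8,10,9,11,4,6,5,7],
  [0,2,7,5,4,6,3,1,14,12,9,11,10,8,13,15],
  [0,2,7,5,4,6,3,1,10,8,13,15,14,12,9,11],
  [0,2,7,5,14,12,9,11,4,6,3,1,10,8,13,15],
  [0,2,7,5,14,12,9,11,10,8,13,15,4,6,3,1],
  [0,2,7,5,10,8,13,15,4,6,3,1,14,12,9,11],
  [0,2,7,5,10,8,13,15,14,12,9,11,4,6,3,1],
  [0,2,11,9,8,10,3,1,14,12,5,7,6,4,13,15],
  [0,2,11,9,8,10,3,1,6,4,13,15,14,12,5,7],
  [0,2,11,9,14,12,5,7,8,10,3,1,6,4,13,15],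
  [0,2,11,9,14,12,5,7,6,4,13,15,8,10,3,1],
  [0,2,11,9,6,4,13,15,8,10,3,1,14,12,5,7],
  [0,2,11,9,6,4,13,15,14,12,5,7,8,10,3,1],
  [0,2,15,13,12,14,3,1,10,8,5,7,6,4,9,11],
  [0,2,15,13,12,14,3,1,6,4,9,11,10,8,5,7],
  [0,2,15,13,10,8,5,7,12,14,3,1,6,4,9,11],
  [0,2,15,13,10,8,5,7,6,4,9,11,12,14,3,1],
  [0,2,15,13,6,4,9,11,12,14,3,1,10,8,5,7],
  [0,2,15,13,6,4,9,11,10,8,5,7,12,14,3,1]]

/-- For each such permutation, a word giving the three-cycle or a refuting word. -/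
def certF : List (List ℕ) := [[12,3,12,3,12], [12,3], [12,7], [12,3,12,9,12], [12,3,12,6,12], [12,11], [12,0], [12,12,12], [12,1,12,12], [12,2], [12,1], [12,2,12,12], [12,2,12,12], [12,10], [12,5], [12,1,12,12], [12,12,12], [12,6], [12,8], [12,1,12,12], [12,2,12,12], [12,4], [12,9], [12,12,12]]

end CfsgPSp43
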