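import Cfsg.Agent.Lib.PSp43.Fusion
import Cfsg.Agent.S0051

/-!
Groups with the involution centraliser of PSp₄(3): the action on the five points and the lifts of its generators.
-/

set_option autoImplicit false
set_option maxRecDepth 100000
set_option linter.unusedSectionVars false

namespace CfsgPSp43

open CfsgU43Type

open scoped Pointwise

/-- The three-cycle `(z, s, c)`. -/
def abcA : List ℕ := [0, 2, 7, 5, 4, 6, 3, 1, 14, 12, 9, 11, 10, 8, 13, 15]

/-- The complement of the subgroup of order 16 in the stabiliser of `z`. -/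
def a0L : List ℕ := [0, 52, 102, 146, 200, 252, 302, 346, 400, 452, 502, 546]

theorem to_S_points : (five.all fun k => k == 1 || a4L.any fun f => f.getD 2 16 == k) = true := by decide +kernel

theorem candF_complete : ∀ b < 16, ∀ c < 16, ∀ d < 16,
    (!(five.all fun k => five.contains ((lin 2 b c d).getD k 16)) || !decide (lin 2 b c d).Nodup ||
      candF.contains (lin 2 b c d)) = true := by
  decide +kernel

theorem certF_ok : ((List.range 24).all fun i =>
    wordAct (a4L ++ [candF.getD i []]) (certF.getD i []) == abcA &&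
      ((certF.getD i []).all fun j => decide (j < 13)) || refutes (a4L ++ [candF.getD i []]) (certF.getD i [])) = true ∧
    candF.length = 24 := by
  decide +kernel

theorem l60_reps : (five.all fun k => (comp idA idA == idA && k == 1) ||
    (k == 2 && abcA.getD 1 16 == k) || a4L.any fun h => (comp h abcA).getD 1 16 == k ||
      (comp abcA abcA).getD 1 16 == k) = true := by
  decide +kernel

theorem l60_closed : (five.all fun k => (k != 1 || a4L.all fun f => l60.contains f) &&
    a4L.all fun f => a4L.all fun h => l60.contains (comp (comp h abcA) f) &&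
      l60.contains (comp (comp abcA abcA) f)) = true := by
  decide +kernel

theorem U_lift : ∀ x < 576, ((List.range 16).all fun n => eTab.contains (mconj x (el n))) = true →
    a0L.any (fun a => act a == act x) = true := by
  decide +kernel

theorem a0_closed : (a0L.all fun a => decide (a < 576) && (a0L.all fun b => a0L.contains (mmul a b)) &&
    a0L.contains (minv a) && ((List.range 16).all fun n => eTab.contains (mconj a (el n))) &&
    (a == 0 || act a != idA)) = true := by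
  decide +kernel

theorem inS_norm : ((List.range 576).filter inS).all
    (fun x => (List.range 16).all fun n => eTab.contains (mconj x (el n))) = true := by
  decide +kernel

theorem lifts_conj : ∀ a < 16, ∀ b < 16,
    mmul (mmul rCode (el a)) (mmul rCode (el a)) = 0 →
    mmul (mmul vCode (el b)) (mmul (mmul vCode (el b)) (mmul vCode (el b))) = 0 →
    mmul (mmul (mmul rCode (el a)) (mmul vCode (el b)))
      (mmul (mmul (mmul rCode (el a)) (mmul vCode (el b))) (mmul (mmul rCode (el a)) (mmul vCode (el b)))) = 0 →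
    ((List.range 16).any fun k => mconj (el k) rCode == mmul rCode (el a) &&
      mconj (el k) vCode == mmul vCode (el b)) = true := by
  decide +kernel

theorem rel_acts : comp (act rCode) (act rCode) = idA ∧ comp (act vCode) (comp (act vCode) (act vCode)) = idA ∧
    comp (comp (act rCode) (act vCode)) (comp (comp (act rCode) (act vCode)) (comp (act rCode) (act vCode))) = idA ∧
    comp abcA (comp abcA abcA) = idA ∧ comp (comp (comp (act rCode) abcA) (act rCode)) abcA = idA ∧
    comp (comp (comp abcA (act rCode)) (act vCode)) (comp (comp abcA (act rCode)) (act vCode)) = idA ∧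
    comp abcA (comp (comp (act vCode) (act rCode)) (act vCode)) = comp (act vCode) abcA := by
  decide +kernel

theorem vp_word : mmul (mmul vCode rCode) vCode = 546 := by decide +kernel

variable {G : Type*} [Group G] {z : G} {φ : ℕ → G} [Finite G]

namespace Dat

variable (D : Dat z φ)
include D

theorem orb_five (hS : D.Orb 2) {k : ℕ} (hk : k < 16) : D.Orb k ↔ k ∈ five := by
  constructor
  · intro h
    have h0 : k ≠ 0 := fun e0 => by
      obtain ⟨g, f, hf, hf1⟩ := h
      have h2 := (hf.2 1 (by norm_num)).2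
      rw [hf1, e0, D.e_zero] at h2
      have : e φ 1 = e φ 0 := by
        rw [D.e_zero]
        calc e φ 1 = g⁻¹ * (g * e φ 1 * g⁻¹) * g := by group
          _ = 1 := by rw [h2]; group
      exact absurd (D.e_inj (by norm_num) (by norm_num) this) (by norm_num)
    by_cases hU : k ∈ [4, 5, 8, 9, 12, 13]
    · exact absurd h (D.no_U hU)
    by_cases hZ : k ∈ [3, 6, 10, 14]
    · exact absurd (D.not_both (k := 2) (by simp) hZ hS h) id
    simp only [five, List.mem_cons, List.not_mem_nil, or_false] at hU hZ ⊢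
    omega
  · intro h
    have := List.all_eq_true.1 to_S_points k h
    simp only [Bool.or_eq_true, beq_iff_eq] at this
    rcases this with rfl | h'
    · exact ⟨1, idA, D.acts_id, rfl⟩
    · exact D.orb_move hS (by simpa only [List.any_eq_true, beq_iff_eq] using h')

theorem acts_five (hS : D.Orb 2) {g : G} {f : List ℕ} (hf : Acts φ g f) {k : ℕ} (hk : k ∈ five) :
    f.getD k 16 ∈ five := by
  have hk' : k < 16 := by simp only [five, List.mem_cons, List.not_mem_nil, or_false] at hk; omega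
  obtain ⟨g', f', hf', rfl⟩ := (D.orb_five hS hk').2 hk
  exact (D.orb_five hS (hf.2 _ hk').1).1 ⟨_, _, D.acts_mul hf hf', comp_getD (hf'.1.symm ▸ by norm_num)⟩

theorem exists_abc (hS : D.Orb 2) : ∃ g, Acts φ g abcA := by
  obtain ⟨g, f, hf, h2⟩ := id hS
  have hl := D.acts_lin hf
  rw [h2] at hl
  have hc := candF_complete _ (hf.2 2 (by norm_num)).1 _ (hf.2 4 (by norm_num)).1 _ (hf.2 8 (by norm_num)).1
  rw [← hl] at hc
  have h5 : (five.all fun k => five.contains (f.getD k 16)) = true :=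
    List.all_eq_true.2 fun k hk => List.contains_iff_mem.2 (D.acts_five hS hf hk)
  simp only [h5, Bool.not_true, Bool.false_or, D.acts_nodup hf, decide_true, List.contains_iff_mem] at hc
  obtain ⟨i, hi, hi'⟩ := List.mem_iff_getElem.1 hc
  obtain ⟨hcert, hlen⟩ := certF_ok
  have hgens : ∀ f₁ ∈ a4L ++ [candF.getD i []], ∃ g, Acts φ g f₁ := by
    intro f₁ hf₁
    rw [List.mem_append, List.mem_singleton] at hf₁
    rcases hf₁ with hf₁ | rfl
    · obtain ⟨y, -, hy⟩ := D.a4_acts hf₁
      exact ⟨_, hy⟩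
    · rw [List.getD_eq_getElem?_getD, List.getElem?_eq_getElem hi, Option.getD_some, hi']
      exact ⟨_, hf⟩
  have := of_range_all hcert (hlen ▸ hi)
  simp only [Bool.or_eq_true, Bool.and_eq_true, beq_iff_eq, List.all_eq_true, decide_eq_true_eq] at this
  rcases this with ⟨h1, h2⟩ | h
  · obtain ⟨g', hg'⟩ := D.acts_word hgens (w := certF.getD i []) (fun j hj => by
      have := h2 j hj
      simp [a4L] at this ⊢
      omega) D.acts_id
    exact ⟨g', h1 ▸ hg'⟩
  · exact absurd (D.refute hgens h) id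

/-- Every action lies in the list of sixty. -/
theorem acts_l60 (hS : D.Orb 2) {g : G} {f : List ℕ} (hf : Acts φ g f) : f ∈ l60 := by
  obtain ⟨c, hc⟩ := D.exists_abc hS
  have h1 := D.acts_five hS hf (k := 1) (by simp [five])
  have hcl := List.all_eq_true.1 l60_closed _ h1
  simp only [Bool.and_eq_true, Bool.or_eq_true, bne_iff_ne, ne_eq, List.all_eq_true] at hcl
  have key : ∀ (w : G) (fw : List ℕ), Acts φ w fw → fw.getD 1 16 = f.getD 1 16 →
      ∃ a ∈ a4L, f = comp fw a := by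
    intro w fw hw he
    obtain ⟨fi, hfi⟩ := D.acts_exists (mul_mem (inv_mem (D.acts_mem hw)) (D.acts_mem hf) : w⁻¹ * g ∈ D.N)
    have e2 : f = comp fw fi := D.acts_unique hf (by
      have := D.acts_mul hw hfi
      rwa [show w * (w⁻¹ * g) = g by group] at this)
    refine ⟨fi, D.acts_stab hfi (D.acts_inj hw (hfi.2 1 (by norm_num)).1 (by norm_num) ?_), e2⟩
    rw [he, e2, comp_getD (hfi.1.symm ▸ (by norm_num : 1 < 16))]
  have hr := List.all_eq_true.1 l60_reps _ h1
  simp only [Bool.or_eq_true, Bool.and_eq_true, beq_iff_eq, List.any_eq_true] at hr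
  rcases hr with (⟨-, h⟩ | ⟨h, -⟩) | ⟨h', hh', h | h⟩
  · obtain ⟨a, ha, rfl⟩ := key 1 idA D.acts_id (by rw [h]; rfl)
    obtain ⟨y, -, hy⟩ := D.a4_acts ha
    rw [D.acts_unique (D.acts_mul D.acts_id hy) (by rwa [one_mul])]
    exact List.contains_iff_mem.1 (hcl.1.resolve_left (fun e => e h) a ha)
  · obtain ⟨a, ha, rfl⟩ := key c abcA hc (by rw [h]; decide)
    obtain ⟨y, -, hy⟩ := D.a4_acts ha
    have hid : idA ∈ a4L := List.contains_iff_mem.1 (by decide)
    have := hcl.2 a ha idA hid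
    rw [D.acts_unique (D.acts_mul (g := 1) D.acts_id hc) (by rwa [one_mul])] at this
    exact List.contains_iff_mem.1 this.1
  · obtain ⟨y, -, hy⟩ := D.a4_acts hh'
    obtain ⟨a, ha, rfl⟩ := key _ _ (D.acts_mul hy hc) h
    exact List.contains_iff_mem.1 (hcl.2 a ha h' hh').1
  · obtain ⟨a, ha, rfl⟩ := key _ _ (D.acts_mul hc hc) h
    exact List.contains_iff_mem.1 (hcl.2 a ha h' hh').2

theorem S_le_N : D.S ≤ D.N := by
  rintro _ ⟨x, hx, rfl⟩
  refine D.acts_mem (D.acts_model (lt_of_inS hx) fun n hn => List.contains_iff_mem.1 ?_)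
  exact of_range_all (List.all_eq_true.1 inS_norm x
    (List.mem_filter.2 ⟨List.mem_range.2 (lt_of_inS hx), hx⟩)) hn

/-- The complement in the stabiliser of `z`. -/
def A0 : Subgroup G where
  carrier := {g | ∃ a ∈ a0L, φ a = g}
  one_mem' := ⟨0, by decide, D.one⟩
  mul_mem' := by
    rintro _ _ ⟨a, ha, rfl⟩ ⟨b, hb, rfl⟩
    have h := List.all_eq_true.1 a0_closed a ha
    simp only [Bool.and_eq_true, decide_eq_true_eq, List.all_eq_true] at h
    have h' := List.all_eq_true.1 a0_closed b hb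
    simp only [Bool.and_eq_true, decide_eq_true_eq] at h'
    exact ⟨mmul a b, List.contains_iff_mem.1 (h.1.1.1.2 b hb), D.mul _ h.1.1.1.1 _ h'.1.1.1.1⟩
  inv_mem' := by
    rintro _ ⟨a, ha, rfl⟩
    have h := List.all_eq_true.1 a0_closed a ha
    simp only [Bool.and_eq_true, decide_eq_true_eq] at h
    exact ⟨minv a, List.contains_iff_mem.1 h.1.1.2, D.inv h.1.1.1.1⟩

/-- A complement of `E` in its normaliser through `r` and `v`. -/
theorem exists_compl :
    ∃ A : Subgroup G, A ≤ D.N ∧ φ rCode ∈ A ∧ φ vCode ∈ A ∧ (∀ x ∈ A, x ∈ D.E → x = 1) ∧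
      ∀ g ∈ D.N, ∃ a ∈ A, g * a⁻¹ ∈ D.E := by
  classical
  haveI : Fact (Nat.Prime 2) := ⟨Nat.prime_two⟩
  have hEN : D.E ≤ D.N := Subgroup.le_normalizer
  let K := D.E.subgroupOf D.N
  let U0 := D.N ⊓ Subgroup.centralizer ({z} : Set G)
  have hA0N : D.A0 ≤ U0 := by
    rintro _ ⟨a, ha, rfl⟩
    have h := List.all_eq_true.1 a0_closed a ha
    simp only [Bool.and_eq_true, decide_eq_true_eq, List.all_eq_true, List.mem_range] at h
    exact ⟨D.acts_mem (D.acts_model h.1.1.1.1 fun n hn => List.contains_iff_mem.1 (h.1.2 n hn)),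
      (D.range_eq _).2 ⟨a, h.1.1.1.1, rfl⟩⟩
  have hEU : D.E ≤ U0 := fun x hx => ⟨hEN hx, Subgroup.mem_centralizer_singleton_iff.2 (by
    rw [← D.e_one]; exact D.E_comm hx (D.e_mem (by norm_num)))⟩
  have hdisj : ∀ x ∈ D.A0, x ∈ D.E → x = 1 := by
    rintro _ ⟨a, ha, rfl⟩ hx
    have h := List.all_eq_true.1 a0_closed a ha
    simp only [Bool.and_eq_true, decide_eq_true_eq, List.all_eq_true, List.mem_range, Bool.or_eq_true,
      beq_iff_eq, bne_iff_ne, ne_eq] at h
    rcases h.2 with rfl | h'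
    · exact D.one
    · exact absurd (D.acts_unique (D.acts_model h.1.1.1.1 fun n hn => List.contains_iff_mem.1 (h.1.2 n hn))
        (D.acts_E hx)) h'
  have hcover : ∀ g ∈ U0, ∃ a ∈ D.A0, g * a⁻¹ ∈ D.E := by
    rintro g ⟨hgN, hgC⟩
    obtain ⟨x, hx, rfl⟩ := (D.range_eq g).1 hgC
    have hn : ∀ n < 16, mconj x (el n) ∈ eTab := fun n hn => by
      obtain ⟨m, hm, he⟩ := (Subgroup.mem_normalizer_iff.1 hgN _).1 (D.e_mem hn)
      rw [e, e, ← D.conj hx (el_lt n)] at he
      rw [← D.inj _ (el_lt m) _ (mconj_lt hx (el_lt n)) he, el, List.getD_eq_getElem?_getD,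
        List.getElem?_eq_getElem (lt_of_lt_of_eq hm rfl : m < eTab.length), Option.getD_some]
      exact List.getElem_mem _
    have h := U_lift x hx (List.all_eq_true.2 fun n hn' => List.contains_iff_mem.2 (hn n (List.mem_range.1 hn')))
    simp only [List.any_eq_true, beq_iff_eq] at h
    obtain ⟨a, ha, hae⟩ := h
    have hA : φ a ∈ D.A0 := ⟨a, ha, rfl⟩
    refine ⟨φ a, hA, D.mem_E_of_acts ?_⟩
    have h' := List.all_eq_true.1 a0_closed a ha
    simp only [Bool.and_eq_true, decide_eq_true_eq, List.all_eq_true, List.mem_range] at h'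
    have hax := D.acts_model h'.1.1.1.1 fun n hn => List.contains_iff_mem.1 (h'.1.2 n hn)
    rw [hae] at hax
    obtain ⟨fi, hfi⟩ := D.acts_exists (inv_mem (hA0N hA).1)
    have e1 := D.acts_unique (D.acts_mul hax hfi) (by rw [mul_inv_cancel]; exact D.acts_id)
    have e2 := D.acts_mul (D.acts_model hx hn) hfi
    rwa [e1] at e2
  haveI : K.Normal := Subgroup.normal_subgroupOf_of_le_normalizer le_rfl
  haveI : IsMulCommutative K :=
    ⟨⟨fun a b => Subtype.ext (Subtype.ext (D.E_comm a.2 b.2))⟩⟩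
  obtain ⟨H, hH⟩ := Cfsg.Agent.S0051.result K (U0.subgroupOf D.N) (fun x hx => hEU hx) (by
    rw [Nat.card_congr (Subgroup.subgroupOfEquivOfLe hEN).toEquiv, D.card_E,
      show (16 : ℕ) = 2 ^ 4 by norm_num]
    refine Nat.Coprime.pow_left 4 ((Nat.Prime.coprime_iff_not_dvd Nat.prime_two).2 ?_)
    intro h
    refine D.sylow.not_dvd_index (h.trans ?_)
    have h1 : U0.relIndex D.N ∣ D.S.relIndex D.N :=
      Subgroup.relIndex_dvd_of_le_left D.N (le_inf D.S_le_N D.S_le_cent)
    exact h1.trans ⟨_, (Subgroup.relIndex_mul_index D.S_le_N).symm⟩)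
    (D.A0.subgroupOf D.N) (fun x hx => hA0N hx) (by
      rw [eq_bot_iff]
      rintro x ⟨h1, h2⟩
      exact Subgroup.mem_bot.2 (Subtype.ext (hdisj _ h1 h2)))
    (le_antisymm (sup_le (fun x hx => hEU hx) fun x hx => hA0N hx) fun x hx => by
      obtain ⟨a, ha, he⟩ := hcover x hx
      have : x = ⟨(x : G) * a⁻¹, hEN he⟩ * ⟨a, (hA0N ha).1⟩ :=
        Subtype.ext (show (x : G) = (x : G) * a⁻¹ * a by group)
      rw [this]
      exact Subgroup.mul_mem_sup he ha)
  have hgen : ∀ g ∈ D.N, ∃ h ∈ H.map D.N.subtype, g * h⁻¹ ∈ D.E := fun g hg => by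
    have hm : (⟨g, hg⟩ : D.N) ∈ (K : Set D.N) * (H : Set D.N) := by rw [hH.mul_eq]; exact Set.mem_univ _
    obtain ⟨a, ha, b, hb, hab⟩ := hm
    refine ⟨(b : G), ⟨b, hb, rfl⟩, ?_⟩
    have : g = (a : G) * (b : G) := (congrArg Subtype.val hab).symm
    rw [this, mul_inv_cancel_right]
    exact ha
  have hHE : ∀ x ∈ H.map D.N.subtype, x ∈ D.E → x = 1 := by
    rintro _ ⟨y, hy, rfl⟩ hx
    exact congrArg Subtype.val (Subgroup.disjoint_def.1 hH.disjoint (show y ∈ K from hx) hy)
  have hcode : ∀ c, c < 576 → φ c ∈ D.N → ∃ a < 16, φ (mmul c (el a)) ∈ H.map D.N.subtype := fun c hc hcN => by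
    obtain ⟨h, hh, he⟩ := hgen _ hcN
    have hm : (φ c)⁻¹ * (φ c * h⁻¹)⁻¹ * φ c ∈ D.E := by
      have := (Subgroup.mem_normalizer_iff.1 (inv_mem hcN) _).1 (inv_mem he)
      rwa [inv_inv] at this
    obtain ⟨a, ha, hae⟩ := hm
    refine ⟨a, ha, ?_⟩
    rw [D.mul _ hc _ (el_lt a), show φ (el a) = e φ a from rfl, hae,
      show φ c * ((φ c)⁻¹ * (φ c * h⁻¹)⁻¹ * φ c) = h * (φ c)⁻¹ * φ c by group, inv_mul_cancel_right]
    exact hh
  obtain ⟨a, ha, hra⟩ := hcode rCode (by decide) (D.acts_mem D.acts_r)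
  obtain ⟨b, hb, hvb⟩ := hcode vCode (by decide) (D.acts_mem D.acts_v)
  obtain ⟨rr, rv, rrv, -⟩ := rel_acts
  have hlt : ∀ c k, c < 576 → mmul c (el k) < 576 := fun c k hc => mmul_lt hc (el_lt k)
  have hact : ∀ c k, c < 576 → k < 16 → ∀ f, Acts φ (φ c) f → Acts φ (φ (mmul c (el k))) f := fun c k hc hk f hf => by
    rw [D.mul _ hc _ (el_lt k)]
    have h := D.acts_mul hf (D.acts_E (D.e_mem hk))
    have e1 : comp f idA = f := by
      refine List.ext_getElem (by simp [comp, idA, hf.1]) fun n h1 h2 => ?_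
      simp [comp, idA, List.getD_eq_getElem?_getD, h2]
    rwa [e1] at h
  have hR := hact _ a (by decide) ha _ D.acts_r
  have hV := hact _ b (by decide) hb _ D.acts_v
  have hone : ∀ (x : ℕ), x < 576 → φ x ∈ H.map D.N.subtype → Acts φ (φ x) idA → x = 0 := fun x hx hm hi =>
    (D.eq_one_iff hx).1 (hHE _ hm (D.mem_E_of_acts hi))
  have hlR := hlt rCode a (by decide)
  have hlV := hlt vCode b (by decide)
  have hlRV := mmul_lt hlR hlV
  have c1 := hone _ (mmul_lt hlR hlR) (by rw [D.mul _ hlR _ hlR]; exact mul_mem hra hra)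
    (by rw [D.mul _ hlR _ hlR, ← rr]; exact D.acts_mul hR hR)
  have c2 := hone _ (mmul_lt hlV (mmul_lt hlV hlV))
    (by rw [D.mul _ hlV _ (mmul_lt hlV hlV), D.mul _ hlV _ hlV]; exact mul_mem hvb (mul_mem hvb hvb))
    (by rw [D.mul _ hlV _ (mmul_lt hlV hlV), D.mul _ hlV _ hlV, ← rv]; exact D.acts_mul hV (D.acts_mul hV hV))
  have c3 := hone _ (mmul_lt hlRV (mmul_lt hlRV hlRV))
    (by
      rw [D.mul _ hlRV _ (mmul_lt hlRV hlRV), D.mul _ hlRV _ hlRV, D.mul _ hlR _ hlV]
      exact mul_mem (mul_mem hra hvb) (mul_mem (mul_mem hra hvb) (mul_mem hra hvb)))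
    (by
      rw [D.mul _ hlRV _ (mmul_lt hlRV hlRV), D.mul _ hlRV _ hlRV, D.mul _ hlR _ hlV, ← rrv]
      exact D.acts_mul (D.acts_mul hR hV) (D.acts_mul (D.acts_mul hR hV) (D.acts_mul hR hV)))
  have hk := lifts_conj a ha b hb c1 c2 c3
  simp only [List.any_eq_true, List.mem_range, Bool.and_eq_true, beq_iff_eq] at hk
  obtain ⟨k, hk, hk1, hk2⟩ := hk
  have hkN : e φ k ∈ D.N := hEN (D.e_mem hk)
  refine ⟨(H.map D.N.subtype).map (MulAut.conj (e φ k)⁻¹).toMonoidHom, ?_, ?_, ?_, ?_, ?_⟩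
  · rintro _ ⟨_, ⟨y, -, rfl⟩, rfl⟩
    exact mul_mem (mul_mem (inv_mem hkN) y.2) (inv_mem (inv_mem hkN))
  · refine ⟨_, hra, ?_⟩
    rw [← hk1, D.conj (el_lt k) (by decide)]
    show (e φ k)⁻¹ * (φ (el k) * φ rCode * (φ (el k))⁻¹) * (e φ k)⁻¹⁻¹ = φ rCode
    rw [show φ (el k) = e φ k from rfl]
    group
  · refine ⟨_, hvb, ?_⟩
    rw [← hk2, D.conj (el_lt k) (by decide)]
    show (e φ k)⁻¹ * (φ (el k) * φ vCode * (φ (el k))⁻¹) * (e φ k)⁻¹⁻¹ = φ vCode
    rw [show φ (el k) = e φ k from rfl]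
    group
  · rintro _ ⟨x, hx, rfl⟩ he
    have hx' : x ∈ D.E := by
      have := (Subgroup.mem_normalizer_iff.1 hkN _).1 he
      rwa [show e φ k * ((MulAut.conj (e φ k)⁻¹).toMonoidHom x) * (e φ k)⁻¹ = x by
        simp [MulAut.conj_apply, mul_assoc]] at this
    rw [hHE x hx hx', map_one]
  · intro g hg
    obtain ⟨h, hh, he⟩ := hgen (e φ k * g * (e φ k)⁻¹) (mul_mem (mul_mem hkN hg) (inv_mem hkN))
    refine ⟨_, ⟨h, hh, rfl⟩, ?_⟩
    have := (Subgroup.mem_normalizer_iff.1 (inv_mem hkN) _).1 he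
    rwa [show (e φ k)⁻¹ * (e φ k * g * (e φ k)⁻¹ * h⁻¹) * (e φ k)⁻¹⁻¹ =
      g * ((MulAut.conj (e φ k)⁻¹).toMonoidHom h)⁻¹ by
        show _ = g * ((e φ k)⁻¹ * h * (e φ k)⁻¹⁻¹)⁻¹
        group] at this

end Dat

/-- The coordinates together with a lift of the three-cycle. -/
structure Cfg {G : Type*} [Group G] (z : G) (φ : ℕ → G) (o : G) : Prop where
  dat : Dat z φ
  orb : dat.Orb 2
  acts : Acts φ o abcA
  cube : o * (o * o) = 1
  roro : φ rCode * o * φ rCode * o = 1
  orv : o * φ rCode * φ vCode * (o * φ rCode * φ vCode) = 1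
  vconj : o * φ 546 = φ vCode * o

/-- There are coordinates with a lift of the three-cycle. -/
theorem exists_cfg (D : Dat z φ) : ∃ ψ : ℕ → G, ∃ o : G, Cfg z ψ o := by
  obtain ⟨ψ, D', hS⟩ := exists_frame D
  obtain ⟨g, hg⟩ := D'.exists_abc hS
  obtain ⟨A, hAN, hr, hv, hAE, hcov⟩ := D'.exists_compl
  obtain ⟨o, ho, he⟩ := hcov g (D'.acts_mem hg)
  have hoa : Acts ψ o abcA := by
    obtain ⟨fo, hfo⟩ := D'.acts_exists (hAN ho)
    have h := D'.acts_mul (D'.acts_E he) hfo
    rw [inv_mul_cancel_right] at h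
    have e1 : comp idA fo = fo := by
      refine List.ext_getElem (by simp [comp]) fun n h1 h2 => ?_
      have hn : n < 16 := hfo.1 ▸ h2
      have hb := (hfo.2 n hn).1
      rw [List.getD_eq_getElem?_getD, List.getElem?_eq_getElem h2, Option.getD_some] at hb
      simp [comp, idA, List.getD_eq_getElem?_getD, List.getElem?_range hb]
    rw [e1] at h
    exact D'.acts_unique hg h ▸ hfo
  obtain ⟨-, -, -, a3, a4, a5, a6⟩ := rel_acts
  have key : ∀ x ∈ A, Acts ψ x idA → x = 1 := fun x hx h => hAE x hx (D'.mem_E_of_acts h)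
  refine ⟨ψ, o, D', hS, hoa, key _ (mul_mem ho (mul_mem ho ho)) (a3 ▸ D'.acts_mul hoa (D'.acts_mul hoa hoa)),
    key _ (mul_mem (mul_mem (mul_mem hr ho) hr) ho)
      (a4 ▸ D'.acts_mul (D'.acts_mul (D'.acts_mul D'.acts_r hoa) D'.acts_r) hoa),
    key _ (mul_mem (mul_mem (mul_mem ho hr) hv) (mul_mem (mul_mem ho hr) hv))
      (a5 ▸ D'.acts_mul (D'.acts_mul (D'.acts_mul hoa D'.acts_r) D'.acts_v)
        (D'.acts_mul (D'.acts_mul hoa D'.acts_r) D'.acts_v)), ?_⟩
  rw [← vp_word, D'.mul _ (mmul_lt (by decide) (by decide)) _ (by decide), D'.mul _ (by decide) _ (by decide)]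
  have hX : ψ vCode * ψ rCode * ψ vCode ∈ A := mul_mem (mul_mem hv hr) hv
  have h1 := D'.acts_mul hoa (D'.acts_mul (D'.acts_mul D'.acts_v D'.acts_r) D'.acts_v)
  rw [a6] at h1
  have h2 := D'.acts_mul D'.acts_v hoa
  obtain ⟨fi, hfi⟩ := D'.acts_exists (inv_mem (mul_mem (D'.acts_mem D'.acts_v) (hAN ho)))
  have h3 := D'.acts_mul h1 hfi
  rw [D'.acts_unique (D'.acts_mul h2 hfi) (by rw [mul_inv_cancel]; exact D'.acts_id)] at h3
  exact mul_inv_eq_one.1 (key _ (mul_mem (mul_mem ho hX) (inv_mem (mul_mem hv ho))) h3)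

end CfsgPSp43
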