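import Cfsg.Agent.Lib.PSp43.Basic

/-!
Groups with the involution centraliser of PSp₄(3): the fusion of `z` in the elementary abelian subgroup of order 16.
-/

set_option autoImplicit false
set_option maxRecDepth 100000
set_option linter.unusedSectionVars false

namespace CfsgPSp43

open CfsgU43Type

/-- A maximal 2-subgroup of a subgroup is a Sylow subgroup there. -/
theorem conj_into {G : Type*} [Group G] [Finite G] {M T : Subgroup G} (hT : IsPGroup 2 T) (hTM : T ≤ M)
    (hmax : ∀ R : Subgroup G, IsPGroup 2 R → R ≤ M → T ≤ R → R = T) {P : Subgroup G} (hP : IsPGroup 2 P)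
    (hle : P ≤ M) : ∃ c ∈ M, ∀ x ∈ P, c * x * c⁻¹ ∈ T := by
  haveI : Fact (Nat.Prime 2) := ⟨Nat.prime_two⟩
  obtain ⟨Q, hQ⟩ := IsPGroup.exists_le_sylow (P := P.subgroupOf M)
    (hP.of_equiv (Subgroup.subgroupOfEquivOfLe hle).symm)
  let TM : Sylow 2 M :=
    { T.subgroupOf M with
      isPGroup' := hT.of_equiv (Subgroup.subgroupOfEquivOfLe hTM).symm
      is_maximal' := fun {R} hR hle' => by
        have h := hmax (R.map M.subtype) (hR.map _) (fun _ ⟨y, _, hy⟩ => hy ▸ y.2)
          (fun x hx => ⟨⟨x, hTM hx⟩, hle' hx, rfl⟩)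
        refine le_antisymm (fun x hx => ?_) hle'
        show (x : G) ∈ T
        rw [← h]
        exact ⟨x, hx, rfl⟩ }
  obtain ⟨c, hc⟩ := MulAction.exists_smul_eq M Q TM
  refine ⟨c, c.2, fun x hx => ?_⟩
  have hxQ : (⟨x, hle hx⟩ : M) ∈ Q := hQ hx
  have : c * ⟨x, hle hx⟩ * c⁻¹ ∈ TM := by
    rw [← hc]
    exact Subgroup.smul_mem_pointwise_smul _ (MulAut.conj c) _ hxQ
  exact this

theorem act_mem : ∀ x < 576, ((List.range 16).all fun n => eTab.contains (mconj x (el n))) = true →
    a4L.contains (act x) = true := by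
  decide +kernel

theorem act_real : (a4L.all fun f => (List.range 576).any fun x =>
    ((List.range 16).all fun n => eTab.contains (mconj x (el n))) && act x == f) = true := by
  decide +kernel

theorem rv_codes : (((List.range 16).all fun n => eTab.contains (mconj rCode (el n))) &&
    ((List.range 16).all fun n => eTab.contains (mconj vCode (el n)))) = true := by
  decide +kernel

theorem a4_fix : (a4L.all fun f => f.getD 1 16 == 1) = true := by decide +kernel

theorem a4_trans : (([4, 5, 8, 9, 12, 13].all fun k => a4L.any fun f => f.getD k 16 == 4) &&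
    ([2, 7, 11, 15].all fun k => a4L.any fun f => f.getD k 16 == 2) &&
    ([3, 6, 10, 14].all fun k => a4L.any fun f => f.getD k 16 == 3)) = true := by
  decide +kernel

theorem a4_two : (a4L.all fun f => comp f f != idA || f == idA ||
    a4L.any fun h => comp f h == comp h (act rCode)) = true := by
  decide +kernel

theorem a4_three : (a4L.all fun f => comp f (comp f f) != idA || f == idA ||
    a4L.any fun h => comp f h == comp h (act vCode) || comp f h == comp h (comp (act vCode) (act vCode))) = true := by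
  decide +kernel

theorem candU_complete : ∀ b < 16, ∀ c < 16, ∀ d < 16,
    (comp (lin 4 b c d) (act rCode) != comp (act rCode) (lin 4 b c d) || !decide (lin 4 b c d).Nodup ||
      candU.contains (lin 4 b c d)) = true := by
  decide +kernel

theorem candS_complete : ∀ b < 16, ∀ c < 16, ∀ d < 16,
    (!(comp (act vCode) (lin 2 b c d) == comp (lin 2 b c d) (act vCode) ||
        comp (act vCode) (lin 2 b c d) == comp (lin 2 b c d) (comp (act vCode) (act vCode))) ||
      !decide (lin 2 b c d).Nodup || candS.contains (lin 2 b c d)) = true := by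
  decide +kernel

theorem candZ_complete : ∀ b < 16, ∀ c < 16, ∀ d < 16,
    (!(comp (act vCode) (lin 3 b c d) == comp (lin 3 b c d) (act vCode) ||
        comp (act vCode) (lin 3 b c d) == comp (lin 3 b c d) (comp (act vCode) (act vCode))) ||
      !decide (lin 3 b c d).Nodup || candZ.contains (lin 3 b c d)) = true := by
  decide +kernel

theorem certU_ok : ((List.range 32).all fun i => refutes (a4L ++ [candU.getD i []]) (certU.getD i [])) = true ∧
    candU.length = 32 := by
  decide +kernel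

theorem certP_ok : ((List.range 12).all fun i => (List.range 12).all fun j =>
    refutes (a4L ++ [candS.getD i [], candZ.getD j []]) (certP.getD (12 * i + j) [])) = true ∧
    candS.length = 12 ∧ candZ.length = 12 := by
  decide +kernel

theorem invol_Q : ((List.range 576).filter inS).all (fun x => x % 2 == 1 || mmul x x != 0 || x == 0 || x == 24 ||
    (List.range 576).any fun c => mconj c 50 == x) = true := by
  decide +kernel

theorem cu_card : ((List.range 576).filter fun x => mmul x 50 == mmul 50 x).length = 32 := by decide +kernel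

theorem s_not_u : ∀ x < 576, mconj x 1 ≠ 50 := by decide +kernel

variable {G : Type*} [Group G] {z : G} {φ : ℕ → G}

/-- The element `g` acts on the elementary abelian subgroup through the list `f`. -/
def Acts (φ : ℕ → G) (g : G) (f : List ℕ) : Prop :=
  f.length = 16 ∧ ∀ n < 16, f.getD n 16 < 16 ∧ g * e φ n * g⁻¹ = e φ (f.getD n 16)

theorem getD_map_range (F : ℕ → ℕ) {n : ℕ} (hn : n < 16) (d : ℕ) : ((List.range 16).map F).getD n d = F n := by
  simp [List.getD_eq_getElem?_getD, List.getElem?_range hn]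

theorem comp_getD {f g : List ℕ} {n : ℕ} (hn : n < g.length) :
    (comp f g).getD n 16 = f.getD (g.getD n 16) 16 := by
  simp [comp, List.getD_eq_getElem?_getD, List.getElem?_eq_getElem hn]

theorem mem_norm_of_conj {G : Type*} [Group G] [Finite G] {H : Subgroup G} {g : G} (h : ∀ x ∈ H, g * x * g⁻¹ ∈ H) :
    g ∈ Subgroup.normalizer (H : Set G) := by
  rw [Subgroup.mem_normalizer_iff]
  intro x
  refine ⟨h x, fun hx => ?_⟩
  have hb : Function.Bijective (fun y : H => (⟨g * y * g⁻¹, h y y.2⟩ : H)) :=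
    Finite.injective_iff_bijective.1 fun a b e => Subtype.ext (mul_left_cancel (mul_right_cancel (congrArg Subtype.val e)))
  obtain ⟨y, hy⟩ := hb.2 ⟨_, hx⟩
  have := mul_left_cancel (mul_right_cancel (congrArg Subtype.val hy))
  exact this ▸ y.2

namespace Dat

variable (D : Dat z φ)
include D

/-- The normaliser of `E`. -/
def N : Subgroup G := Subgroup.normalizer (D.E : Set G)

theorem acts_exists {g : G} (hg : g ∈ D.N) : ∃ f, Acts φ g f := by
  have h : ∀ n, ∃ k, n < 16 → k < 16 ∧ g * e φ n * g⁻¹ = e φ k := fun n => by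
    by_cases hn : n < 16
    · obtain ⟨k, hk, he⟩ := (Subgroup.mem_normalizer_iff.1 hg _).1 (D.e_mem hn)
      exact ⟨k, fun _ => ⟨hk, he.symm⟩⟩
    · exact ⟨0, fun h => absurd h hn⟩
  choose F hF using h
  exact ⟨(List.range 16).map F, by simp, fun n hn => by rw [getD_map_range F hn]; exact hF n hn⟩

theorem acts_unique {g : G} {f f' : List ℕ} (h : Acts φ g f) (h' : Acts φ g f') : f = f' := by
  refine List.ext_getElem (h.1.trans h'.1.symm) fun n h1 h2 => ?_
  have hn : n < 16 := h.1 ▸ h1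
  have e := D.e_inj (h.2 n hn).1 (h'.2 n hn).1 ((h.2 n hn).2.symm.trans (h'.2 n hn).2)
  rwa [List.getD_eq_getElem?_getD, List.getD_eq_getElem?_getD, List.getElem?_eq_getElem h1,
    List.getElem?_eq_getElem h2] at e

theorem acts_mem {g : G} {f : List ℕ} [Finite G] (h : Acts φ g f) : g ∈ D.N := by
  refine mem_norm_of_conj ?_
  rintro x ⟨n, hn, rfl⟩
  exact ⟨_, (h.2 n hn).1, (h.2 n hn).2.symm⟩

theorem acts_id : Acts φ 1 idA := ⟨by simp [idA], fun n hn => by
  simp [idA, List.getD_eq_getElem?_getD, List.getElem?_range hn, hn]⟩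

theorem acts_E {x : G} (hx : x ∈ D.E) : Acts φ x idA := ⟨by simp [idA], fun n hn => by
  rw [show idA.getD n 16 = n by simp [idA, List.getD_eq_getElem?_getD, List.getElem?_range hn],
    D.E_comm hx (D.e_mem hn), mul_inv_cancel_right]
  exact ⟨hn, rfl⟩⟩

theorem mem_E_of_acts {g : G} (h : Acts φ g idA) : g ∈ D.E := by
  refine D.centralizer_E fun x hx => ?_
  obtain ⟨n, hn, rfl⟩ := hx
  have := (h.2 n hn).2
  rw [show idA.getD n 16 = n by simp [idA, List.getD_eq_getElem?_getD, List.getElem?_range hn]] at this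
  exact mul_inv_eq_iff_eq_mul.1 this

theorem acts_mul {g h : G} {f f' : List ℕ} (hg : Acts φ g f) (hh : Acts φ h f') : Acts φ (g * h) (comp f f') := by
  refine ⟨by simp [comp, hh.1], fun n hn => ?_⟩
  rw [comp_getD (hh.1.symm ▸ hn)]
  refine ⟨(hg.2 _ (hh.2 n hn).1).1, ?_⟩
  rw [← (hg.2 _ (hh.2 n hn).1).2, ← (hh.2 n hn).2]
  group

theorem acts_inj {g : G} {f : List ℕ} (h : Acts φ g f) {a b : ℕ} (ha : a < 16) (hb : b < 16)
    (he : f.getD a 16 = f.getD b 16) : a = b :=
  D.e_inj ha hb (mul_left_cancel (mul_right_cancel ((h.2 a ha).2.trans (he ▸ (h.2 b hb).2.symm))))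

theorem acts_nodup {g : G} {f : List ℕ} (h : Acts φ g f) : f.Nodup := by
  refine List.nodup_iff_injective_get.2 fun i j hij => ?_
  have hi : (i : ℕ) < 16 := h.1 ▸ i.2
  have hj : (j : ℕ) < 16 := h.1 ▸ j.2
  refine Fin.ext (D.acts_inj h hi hj ?_)
  rw [List.getD_eq_getElem?_getD, List.getD_eq_getElem?_getD, List.getElem?_eq_getElem i.2,
    List.getElem?_eq_getElem j.2]
  exact hij

theorem acts_lin {g : G} {f : List ℕ} (h : Acts φ g f) :
    f = lin (f.getD 1 16) (f.getD 2 16) (f.getD 4 16) (f.getD 8 16) := by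
  have hx : ∀ a < 16, ∀ b < 16, f.getD (a ^^^ b) 16 = f.getD a 16 ^^^ f.getD b 16 := fun a ha b hb => by
    have hab : a ^^^ b < 16 := Nat.xor_lt_two_pow (n := 4) ha hb
    refine D.e_inj (h.2 _ hab).1 (Nat.xor_lt_two_pow (n := 4) (h.2 a ha).1 (h.2 b hb).1) ?_
    rw [D.e_mul (h.2 a ha).1 (h.2 b hb).1, ← (h.2 _ hab).2, ← (h.2 a ha).2, ← (h.2 b hb).2, D.e_mul ha hb]
    group
  have h0 : f.getD 0 16 = 0 := by
    have := hx 0 (by norm_num) 0 (by norm_num)
    simpa using this
  refine List.ext_getElem (by simp [lin, h.1]) fun n h1 h2 => ?_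
  have hn : n < 16 := h.1 ▸ h1
  have e1 : f[n] = f.getD n 16 := by rw [List.getD_eq_getElem?_getD, List.getElem?_eq_getElem h1]; rfl
  rw [e1]
  simp only [lin, List.getElem_map, List.getElem_range]
  have d : n = (if n % 2 = 1 then 1 else 0) ^^^ (if n / 2 % 2 = 1 then 2 else 0) ^^^
      (if n / 4 % 2 = 1 then 4 else 0) ^^^ (if n / 8 % 2 = 1 then 8 else 0) :=
    (by decide : ∀ k < 16, k = (if k % 2 = 1 then 1 else 0) ^^^ (if k / 2 % 2 = 1 then 2 else 0) ^^^
      (if k / 4 % 2 = 1 then 4 else 0) ^^^ (if k / 8 % 2 = 1 then 8 else 0)) n hn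
  have hlt : ∀ (p : Prop) [Decidable p] (k : ℕ), k < 16 → (if p then k else 0) < 16 := fun p _ k hk => by
    split_ifs <;> omega
  have hif : ∀ (p : Prop) [Decidable p] (k : ℕ), f.getD (if p then k else 0) 16 = if p then f.getD k 16 else 0 :=
    fun p _ k => by split_ifs <;> [rfl; exact h0]
  conv_lhs => rw [d]
  rw [hx _ (Nat.xor_lt_two_pow (n := 4) (Nat.xor_lt_two_pow (n := 4) (hlt _ _ (by norm_num)) (hlt _ _ (by norm_num)))
      (hlt _ _ (by norm_num))) _ (hlt _ _ (by norm_num)),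
    hx _ (Nat.xor_lt_two_pow (n := 4) (hlt _ _ (by norm_num)) (hlt _ _ (by norm_num))) _ (hlt _ _ (by norm_num)),
    hx _ (hlt _ _ (by norm_num)) _ (hlt _ _ (by norm_num)), hif, hif, hif, hif]

theorem acts_model {x : ℕ} (hx : x < 576) (h : ∀ n < 16, mconj x (el n) ∈ eTab) : Acts φ (φ x) (act x) := by
  refine ⟨by simp [act], fun n hn => ?_⟩
  rw [act, getD_map_range _ hn]
  have hl : eTab.idxOf (mconj x (el n)) < 16 := by
    have := List.idxOf_lt_length_iff.2 (h n hn)
    exact lt_of_lt_of_eq this rfl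
  refine ⟨hl, ?_⟩
  rw [e, e, ← D.conj hx (el_lt n)]
  refine congrArg φ ?_
  show mconj x (el n) = eTab.getD _ 0
  rw [List.getD_eq_getElem?_getD, List.getElem?_eq_getElem (List.idxOf_lt_length_iff.2 (h n hn)), Option.getD_some,
    List.getElem_idxOf]

theorem acts_r : Acts φ (φ rCode) (act rCode) := D.acts_model (by decide) fun n hn => by
  have h := rv_codes
  simp only [Bool.and_eq_true, List.all_eq_true, List.mem_range] at h
  exact List.contains_iff_mem.1 (h.1 n hn)

theorem acts_v : Acts φ (φ vCode) (act vCode) := D.acts_model (by decide) fun n hn => by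
  have h := rv_codes
  simp only [Bool.and_eq_true, List.all_eq_true, List.mem_range] at h
  exact List.contains_iff_mem.1 (h.2 n hn)

theorem a4_acts {f : List ℕ} (hf : f ∈ a4L) : ∃ x < 576, Acts φ (φ x) f := by
  have h := List.all_eq_true.1 act_real f hf
  simp only [List.any_eq_true, List.mem_range, Bool.and_eq_true, List.all_eq_true, beq_iff_eq] at h
  obtain ⟨x, hx, hn, rfl⟩ := h
  exact ⟨x, hx, D.acts_model hx fun n hn' => List.contains_iff_mem.1 (hn n hn')⟩

/-- An action fixing `z` comes from the centraliser. -/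
theorem acts_stab {g : G} {f : List ℕ} (h : Acts φ g f) (h1 : f.getD 1 16 = 1) : f ∈ a4L := by
  have hz := (h.2 1 (by norm_num)).2
  rw [h1, D.e_one] at hz
  obtain ⟨x, hx, rfl⟩ := (D.cent g).1 (mul_inv_eq_iff_eq_mul.1 hz)
  have hn : ∀ n < 16, mconj x (el n) ∈ eTab := fun n hn => by
    have hh := (h.2 n hn).2
    rw [e, e, ← D.conj hx (el_lt n)] at hh
    rw [D.inj _ (mconj_lt hx (el_lt n)) _ (el_lt _) hh, el, List.getD_eq_getElem?_getD,
      List.getElem?_eq_getElem (lt_of_lt_of_eq (h.2 n hn).1 rfl : f.getD n 16 < eTab.length), Option.getD_some]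
    exact List.getElem_mem _
  rw [D.acts_unique h (D.acts_model hx hn)]
  exact List.contains_iff_mem.1 (act_mem x hx (List.all_eq_true.2 fun n hn' =>
    List.contains_iff_mem.2 (hn n (List.mem_range.1 hn'))))

theorem acts_word {gens : List (List ℕ)} (hg : ∀ f ∈ gens, ∃ g, Acts φ g f) {w : List ℕ}
    (hw : ∀ i ∈ w, i < gens.length) {g₀ : G} {f₀ : List ℕ} (h0 : Acts φ g₀ f₀) :
    ∃ g, Acts φ g (w.foldl (fun f i => comp f (gens.getD i idA)) f₀) := by
  induction w generalizing g₀ f₀ with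
  | nil => exact ⟨g₀, h0⟩
  | cons i w ih =>
    have hi := hw i (List.mem_cons_self ..)
    obtain ⟨h, hh⟩ := hg (gens.getD i idA) (by
      rw [List.getD_eq_getElem?_getD, List.getElem?_eq_getElem hi]; exact List.getElem_mem hi)
    exact ih (fun j hj => hw j (List.mem_cons_of_mem _ hj)) (D.acts_mul h0 hh)

theorem refute {gens : List (List ℕ)} (hg : ∀ f ∈ gens, ∃ g, Acts φ g f) {w : List ℕ}
    (h : refutes gens w = true) : False := by
  simp only [refutes, Bool.and_eq_true, List.all_eq_true, decide_eq_true_eq, beq_iff_eq, Bool.not_eq_true'] at h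
  obtain ⟨⟨hw, h1⟩, h2⟩ := h
  obtain ⟨g, hgg⟩ := D.acts_word hg hw (g₀ := 1) D.acts_id
  have h1' : (wordAct gens w).getD 1 16 = 1 := by
    have hl : 1 < (wordAct gens w).length := by rw [wordAct, hgg.1]; norm_num
    rw [List.getD_eq_getElem?_getD, List.getElem?_eq_getElem hl] at h1 ⊢
    exact h1
  have := List.contains_iff_mem.2 (D.acts_stab hgg h1')
  rw [wordAct] at h2
  rw [h2] at this
  exact Bool.false_ne_true this

/-- An element with the given action sending `z` to `e k`. -/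
def Orb (_ : Dat z φ) (k : ℕ) : Prop := ∃ g f, Acts φ g f ∧ f.getD 1 16 = k

variable [Finite G]

/-- Burnside's argument. -/
theorem fuse {k : ℕ} (hk : k < 16) {g : G} (hg : g * z * g⁻¹ = e φ k) : D.Orb k := by
  let P : Subgroup G := D.E.map (MulAut.conj g⁻¹).toMonoidHom
  have hP : ∀ x, x ∈ P ↔ g * x * g⁻¹ ∈ D.E := fun x => by
    constructor
    · rintro ⟨y, hy, rfl⟩
      have : g * ((MulAut.conj g⁻¹).toMonoidHom y) * g⁻¹ = y := by
        simp [MulAut.conj_apply, mul_assoc]
      rwa [this]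
    · intro h
      exact ⟨_, h, by simp [MulAut.conj_apply, mul_assoc]⟩
  obtain ⟨c, hc, hin, -⟩ := D.conj_to_E (P := P)
    (by rw [Subgroup.card_map_of_injective (MulAut.conj g⁻¹).injective, D.card_E])
    (fun x hx => by
      have h := D.E_sq ((hP x).1 hx)
      calc x * x = g⁻¹ * (g * x * g⁻¹ * (g * x * g⁻¹)) * g := by group
        _ = 1 := by rw [h]; group)
    (fun x hx => by
      refine Subgroup.mem_centralizer_singleton_iff.2 ?_
      have h := D.E_comm ((hP x).1 hx) (D.e_mem hk)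
      rw [← hg] at h
      calc x * z = g⁻¹ * (g * x * g⁻¹ * (g * z * g⁻¹)) * g := by group
        _ = z * x := by rw [h]; group)
  have hN : (c * g⁻¹)⁻¹ ∈ D.N := inv_mem (mem_norm_of_conj fun y hy => by
    have : g⁻¹ * y * g ∈ P := (hP _).2 (by rwa [show g * (g⁻¹ * y * g) * g⁻¹ = y by group])
    rw [show c * g⁻¹ * y * (c * g⁻¹)⁻¹ = c * (g⁻¹ * y * g) * c⁻¹ by group]
    exact hin _ this)
  obtain ⟨f, hf⟩ := D.acts_exists hN
  refine ⟨_, f, hf, D.e_inj (hf.2 1 (by norm_num)).1 hk ?_⟩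
  have hcz := Subgroup.mem_centralizer_singleton_iff.1 hc
  rw [← (hf.2 1 (by norm_num)).2, D.e_one, inv_inv, mul_inv_rev, inv_inv]
  calc g * c⁻¹ * z * (c * g⁻¹) = g * (c⁻¹ * (z * c)) * g⁻¹ := by group
    _ = e φ k := by rw [← hcz, ← hg]; group

theorem orb_move {k k' : ℕ} (h : D.Orb k) (ha : a4L.any (fun f => f.getD k 16 == k') = true) : D.Orb k' := by
  obtain ⟨g, f, hf, rfl⟩ := h
  simp only [List.any_eq_true, beq_iff_eq] at ha
  obtain ⟨f', hf', rfl⟩ := ha
  obtain ⟨x, -, hx⟩ := D.a4_acts hf'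
  exact ⟨_, _, D.acts_mul hx hf, comp_getD (hf.1.symm ▸ by norm_num)⟩

/-- The normalised action towards a point fixed by `v`. -/
theorem orb_norm {k : ℕ} (h : D.Orb k) (hv : (act vCode).getD k 16 = k) :
    ∃ g f, Acts φ g f ∧ f.getD 1 16 = k ∧ (comp (act vCode) f = comp f (act vCode) ∨
      comp (act vCode) f = comp f (comp (act vCode) (act vCode))) := by
  obtain ⟨g, f, hf, rfl⟩ := h
  have hgN := D.acts_mem hf
  obtain ⟨f', hf'⟩ := D.acts_exists (mul_mem (mul_mem (inv_mem hgN) (D.acts_mem D.acts_v)) hgN :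
    g⁻¹ * φ vCode * g ∈ D.N)
  have e1 : comp f f' = comp (act vCode) f := D.acts_unique (D.acts_mul hf hf')
    (by rw [show g * (g⁻¹ * φ vCode * g) = φ vCode * g by group]; exact D.acts_mul D.acts_v hf)
  have f'1 : f'.getD 1 16 = 1 := by
    refine D.acts_inj hf (hf'.2 1 (by norm_num)).1 (by norm_num) ?_
    have := congrArg (fun l => l.getD 1 16) e1
    simp only [comp_getD (hf'.1.symm ▸ (by norm_num : 1 < 16)), comp_getD (hf.1.symm ▸ (by norm_num : 1 < 16)),
      hv] at this
    exact this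
  have hv3 : φ vCode * (φ vCode * φ vCode) = 1 := by
    rw [← D.mul _ (by decide) _ (by decide), ← D.mul _ (by decide) _ (mmul_lt (by decide) (by decide)),
      show mmul vCode (mmul vCode vCode) = 0 by decide +kernel, D.one]
  have h3 : comp f' (comp f' f') = idA := D.acts_unique (D.acts_mul hf' (D.acts_mul hf' hf')) (by
    rw [show g⁻¹ * φ vCode * g * (g⁻¹ * φ vCode * g * (g⁻¹ * φ vCode * g)) =
      g⁻¹ * (φ vCode * (φ vCode * φ vCode)) * g by group, hv3, mul_one, inv_mul_cancel]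
    exact D.acts_id)
  have hne : f' ≠ idA := fun h => by
    have hm := D.mem_E_of_acts (h ▸ hf')
    have hm' := (Subgroup.mem_normalizer_iff.1 hgN _).1 hm
    rw [show g * (g⁻¹ * φ vCode * g) * g⁻¹ = φ vCode by group] at hm'
    obtain ⟨n, hn, hn'⟩ := hm'
    have h' : ∀ n < 16, el n ≠ vCode := by decide
    exact h' n hn (D.inj _ (el_lt n) _ (by decide) hn')
  have := List.all_eq_true.1 a4_three f' (D.acts_stab hf' f'1)
  simp only [Bool.or_eq_true, bne_iff_ne, beq_iff_eq, List.any_eq_true, ne_eq, h3, not_true, false_or, hne] at this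
  obtain ⟨h', hh', hcases⟩ := this
  obtain ⟨x, hx, hxa⟩ := D.a4_acts hh'
  have h1 : h'.getD 1 16 = 1 := beq_iff_eq.1 (List.all_eq_true.1 a4_fix h' hh')
  refine ⟨g * φ x, comp f h', D.acts_mul hf hxa, ?_, ?_⟩
  · rw [comp_getD (hxa.1.symm ▸ by norm_num), h1]
  · have key : ∀ (w : G) (fw : List ℕ), Acts φ w fw → comp f' h' = comp h' fw →
        comp (act vCode) (comp f h') = comp (comp f h') fw := by
      intro w fw hw he
      have a1 : Acts φ (g * (φ x * w)) (comp f (comp h' fw)) := D.acts_mul hf (D.acts_mul hxa hw)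
      have a2 : Acts φ (g * (g⁻¹ * φ vCode * g * φ x)) (comp f (comp f' h')) :=
        D.acts_mul hf (D.acts_mul hf' hxa)
      rw [← mul_assoc g (φ x) w] at a1
      rw [show g * (g⁻¹ * φ vCode * g * φ x) = φ vCode * (g * φ x) by group, he] at a2
      exact (D.acts_unique (D.acts_mul D.acts_v (D.acts_mul hf hxa)) a2).trans
        (D.acts_unique a1 (D.acts_mul (D.acts_mul hf hxa) hw))
    exact hcases.imp (key _ _ D.acts_v) (key _ _ (D.acts_mul D.acts_v D.acts_v))

theorem no_U {k : ℕ} (hk : k ∈ [4, 5, 8, 9, 12, 13]) : ¬ D.Orb k := by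
  intro h
  have ht := a4_trans
  simp only [Bool.and_eq_true] at ht
  obtain ⟨g, f, hf, h4⟩ := D.orb_move h (List.all_eq_true.1 ht.1.1 k hk)
  have hgN := D.acts_mem hf
  obtain ⟨f', hf'⟩ := D.acts_exists (mul_mem (mul_mem (inv_mem hgN) (D.acts_mem D.acts_r)) hgN :
    g⁻¹ * φ rCode * g ∈ D.N)
  have e1 : comp f f' = comp (act rCode) f := D.acts_unique (D.acts_mul hf hf')
    (by rw [show g * (g⁻¹ * φ rCode * g) = φ rCode * g by group]; exact D.acts_mul D.acts_r hf)
  have f'1 : f'.getD 1 16 = 1 := by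
    refine D.acts_inj hf (hf'.2 1 (by norm_num)).1 (by norm_num) ?_
    have := congrArg (fun l => l.getD 1 16) e1
    simp only [comp_getD (hf'.1.symm ▸ (by norm_num : 1 < 16)), comp_getD (hf.1.symm ▸ (by norm_num : 1 < 16)),
      h4, show (act rCode).getD 4 16 = 4 by decide +kernel] at this
    rw [this, h4]
  have hr2 : φ rCode * φ rCode = 1 := (D.sq_iff (by decide)).2 (by decide +kernel)
  have h2 : comp f' f' = idA := D.acts_unique (D.acts_mul hf' hf') (by
    rw [show g⁻¹ * φ rCode * g * (g⁻¹ * φ rCode * g) = g⁻¹ * (φ rCode * φ rCode) * g by group, hr2, mul_one,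
      inv_mul_cancel]
    exact D.acts_id)
  have hne : f' ≠ idA := fun h => by
    have hm := (Subgroup.mem_normalizer_iff.1 hgN _).1 (D.mem_E_of_acts (h ▸ hf'))
    rw [show g * (g⁻¹ * φ rCode * g) * g⁻¹ = φ rCode by group] at hm
    obtain ⟨n, hn, hn'⟩ := hm
    have h' : ∀ n < 16, el n ≠ rCode := by decide
    exact h' n hn (D.inj _ (el_lt n) _ (by decide) hn')
  have := List.all_eq_true.1 a4_two f' (D.acts_stab hf' f'1)
  simp only [Bool.or_eq_true, bne_iff_ne, beq_iff_eq, List.any_eq_true, ne_eq, h2, not_true, false_or, hne] at this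
  obtain ⟨h', hh', he⟩ := this
  obtain ⟨x, hx, hxa⟩ := D.a4_acts hh'
  have hF := D.acts_mul hf hxa
  have hcomm : comp (act rCode) (comp f h') = comp (comp f h') (act rCode) := by
    have a1 : Acts φ (g * φ x * φ rCode) (comp f (comp h' (act rCode))) := by
      rw [mul_assoc]; exact D.acts_mul hf (D.acts_mul hxa D.acts_r)
    have a2 : Acts φ (φ rCode * (g * φ x)) (comp f (comp f' h')) := by
      rw [show φ rCode * (g * φ x) = g * (g⁻¹ * φ rCode * g * φ x) by group]
      exact D.acts_mul hf (D.acts_mul hf' hxa)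
    rw [he] at a2
    exact (D.acts_unique (D.acts_mul D.acts_r hF) a2).trans (D.acts_unique a1 (D.acts_mul hF D.acts_r))
  have h41 : (comp f h').getD 1 16 = 4 := by
    rw [comp_getD (hxa.1.symm ▸ by norm_num), beq_iff_eq.1 (List.all_eq_true.1 a4_fix h' hh'), h4]
  have hl := D.acts_lin hF
  rw [h41] at hl
  have hc := candU_complete _ (hF.2 2 (by norm_num)).1 _ (hF.2 4 (by norm_num)).1 _ (hF.2 8 (by norm_num)).1
  rw [← hl] at hc
  simp only [Bool.or_eq_true, bne_iff_ne, ne_eq, hcomm, not_true, false_or, Bool.not_eq_true',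
    decide_eq_false_iff_not, D.acts_nodup hF, List.contains_iff_mem] at hc
  obtain ⟨i, hi, hi'⟩ := List.mem_iff_getElem.1 hc
  obtain ⟨hcert, hlen⟩ := certU_ok
  refine D.refute ?_ (of_range_all hcert (hlen ▸ hi))
  intro f₁ hf₁
  rw [List.mem_append, List.mem_singleton] at hf₁
  rcases hf₁ with hf₁ | rfl
  · obtain ⟨y, -, hy⟩ := D.a4_acts hf₁
    exact ⟨_, hy⟩
  · rw [List.getD_eq_getElem?_getD, List.getElem?_eq_getElem hi, Option.getD_some, hi']
    exact ⟨_, hF⟩

theorem not_both {k k' : ℕ} (hk : k ∈ [2, 7, 11, 15]) (hk' : k' ∈ [3, 6, 10, 14]) (h : D.Orb k)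
    (h' : D.Orb k') : False := by
  have ht := a4_trans
  simp only [Bool.and_eq_true] at ht
  obtain ⟨g, f, hf, h2, hc⟩ := D.orb_norm (D.orb_move h (List.all_eq_true.1 ht.1.2 k hk)) (by decide +kernel)
  obtain ⟨g', f', hf', h3, hc'⟩ := D.orb_norm (D.orb_move h' (List.all_eq_true.1 ht.2 k' hk')) (by decide +kernel)
  have hl := D.acts_lin hf
  rw [h2] at hl
  have hl' := D.acts_lin hf'
  rw [h3] at hl'
  have hm := candS_complete _ (hf.2 2 (by norm_num)).1 _ (hf.2 4 (by norm_num)).1 _ (hf.2 8 (by norm_num)).1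
  rw [← hl] at hm
  have hm' := candZ_complete _ (hf'.2 2 (by norm_num)).1 _ (hf'.2 4 (by norm_num)).1 _ (hf'.2 8 (by norm_num)).1
  rw [← hl'] at hm'
  have b : (comp (act vCode) f == comp f (act vCode) ||
      comp (act vCode) f == comp f (comp (act vCode) (act vCode))) = true := by
    simpa only [Bool.or_eq_true, beq_iff_eq] using hc
  have b' : (comp (act vCode) f' == comp f' (act vCode) ||
      comp (act vCode) f' == comp f' (comp (act vCode) (act vCode))) = true := by
    simpa only [Bool.or_eq_true, beq_iff_eq] using hc'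
  simp only [b, Bool.not_true, Bool.false_or, D.acts_nodup hf, decide_true, List.contains_iff_mem] at hm
  simp only [b', Bool.not_true, Bool.false_or, D.acts_nodup hf', decide_true, List.contains_iff_mem] at hm'
  obtain ⟨i, hi, hi'⟩ := List.mem_iff_getElem.1 hm
  obtain ⟨j, hj, hj'⟩ := List.mem_iff_getElem.1 hm'
  obtain ⟨hcert, hlen, hlen'⟩ := certP_ok
  refine D.refute ?_ (of_range_all (of_range_all hcert (hlen ▸ hi)) (hlen' ▸ hj))
  intro f₁ hf₁
  simp only [List.mem_append, List.mem_cons, List.not_mem_nil, or_false] at hf₁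
  rcases hf₁ with hf₁ | rfl | rfl
  · obtain ⟨y, -, hy⟩ := D.a4_acts hf₁
    exact ⟨_, hy⟩
  · rw [List.getD_eq_getElem?_getD, List.getElem?_eq_getElem hi, Option.getD_some, hi']
    exact ⟨_, hf⟩
  · rw [List.getD_eq_getElem?_getD, List.getElem?_eq_getElem hj, Option.getD_some, hj']
    exact ⟨_, hf'⟩

/-- Without fusion of `z` inside `E`, the involution `s` is not conjugate to `u`. -/
theorem s_not_conj_u (hiso : ∀ k < 16, D.Orb k → k = 1) {g : G} (hg : g * φ 1 * g⁻¹ = φ 50) : False := by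
  classical
  haveI : Fact (Nat.Prime 2) := ⟨Nat.prime_two⟩
  let M := Subgroup.centralizer ({φ 50} : Set G)
  let T := M ⊓ Subgroup.centralizer ({z} : Set G)
  have hT : ∀ x, x ∈ T ↔ ∃ a ∈ (List.range 576).filter (fun a => mmul a 50 == mmul 50 a), φ a = x := fun x => by
    rw [Subgroup.mem_inf, D.range_eq, Subgroup.mem_centralizer_singleton_iff]
    constructor
    · rintro ⟨h, a, ha, rfl⟩
      exact ⟨a, List.mem_filter.2 ⟨List.mem_range.2 ha, beq_iff_eq.2 ((D.commute_iff ha (by norm_num)).1 h)⟩, rfl⟩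
    · rintro ⟨a, ha, rfl⟩
      rw [List.mem_filter, List.mem_range, beq_iff_eq] at ha
      exact ⟨(D.commute_iff ha.1 (by norm_num)).2 ha.2, a, ha.1, rfl⟩
  have hcardT : Nat.card T = 32 := by
    let L := (List.range 576).filter (fun a => mmul a 50 == mmul 50 a)
    have hnd : L.Nodup := List.nodup_range.filter _
    refine (Nat.card_congr (Equiv.ofBijective (fun x : {x // x ∈ L.toFinset} => (⟨φ x.1,
      (hT _).2 ⟨x.1, List.mem_toFinset.1 x.2, rfl⟩⟩ : T)) ⟨?_, ?_⟩)).symm.trans ?_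
    · intro a b h
      exact Subtype.ext (D.inj _ (List.mem_range.1 (List.mem_filter.1 (List.mem_toFinset.1 a.2)).1) _
        (List.mem_range.1 (List.mem_filter.1 (List.mem_toFinset.1 b.2)).1) (congrArg Subtype.val h))
    · rintro ⟨x, hx⟩
      obtain ⟨a, ha, rfl⟩ := (hT x).1 hx
      exact ⟨⟨a, List.mem_toFinset.2 ha⟩, rfl⟩
    · rw [Nat.card_eq_fintype_card, Fintype.card_coe, List.toFinset_card_of_nodup hnd]
      exact cu_card
  have hu : φ 50 = e φ 4 := rfl
  have hET : D.E ≤ T := fun x hx => by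
    refine ⟨Subgroup.mem_centralizer_singleton_iff.2 ?_, Subgroup.mem_centralizer_singleton_iff.2 ?_⟩
    · exact D.E_comm hx (D.e_mem (n := 4) (by norm_num))
    · rw [← D.e_one]; exact D.E_comm hx (D.e_mem (by norm_num))
  have hmax : ∀ R : Subgroup G, IsPGroup 2 R → R ≤ M → T ≤ R → R = T := by
    intro R hR hRM hTR
    by_contra hne
    obtain ⟨n, hnR, hnT, hn⟩ := exists_normalizing hR hTR (Ne.symm hne)
    have hzc : n * z * n⁻¹ ∈ D.E := D.centralizer_E fun x hx => by
      have hy : n⁻¹ * x * n ∈ T := (hn _).2 (by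
        rw [show n * (n⁻¹ * x * n) * n⁻¹ = x by group]; exact hET hx)
      have hy' := Subgroup.mem_centralizer_singleton_iff.1 hy.2
      calc n * z * n⁻¹ * x = n * (z * (n⁻¹ * x * n)) * n⁻¹ := by group
        _ = n * ((n⁻¹ * x * n) * z) * n⁻¹ := by rw [hy']
        _ = x * (n * z * n⁻¹) := by group
    obtain ⟨k, hk, hk'⟩ := hzc
    have := hiso k hk (D.fuse hk hk'.symm)
    subst this
    rw [D.e_one] at hk'
    exact hnT ⟨hRM hnR, Subgroup.mem_centralizer_singleton_iff.2 (mul_inv_eq_iff_eq_mul.1 hk'.symm)⟩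
  let P : Subgroup G := D.E.map (MulAut.conj g).toMonoidHom
  have hPm : ∀ {x}, x ∈ D.E → g * x * g⁻¹ ∈ P := fun {x} hx => ⟨x, hx, rfl⟩
  have hPcard : Nat.card P = 16 := by
    rw [Subgroup.card_map_of_injective (MulAut.conj g).injective, D.card_E]
  have hs : φ 1 = e φ 2 := rfl
  obtain ⟨h, hhM, hh⟩ := conj_into (IsPGroup.of_card (n := 5) (by rw [hcardT]; norm_num)) inf_le_left hmax
    (IsPGroup.of_card (n := 4) (by rw [hPcard]; norm_num) : IsPGroup 2 P) (by
      rintro _ ⟨x, hx, rfl⟩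
      refine Subgroup.mem_centralizer_singleton_iff.2 ?_
      rw [← hg]
      show g * x * g⁻¹ * (g * φ 1 * g⁻¹) = g * φ 1 * g⁻¹ * (g * x * g⁻¹)
      rw [hs, show g * x * g⁻¹ * (g * e φ 2 * g⁻¹) = g * (x * e φ 2) * g⁻¹ by group,
        D.E_comm hx (D.e_mem (by norm_num))]
      group)
  let P' : Subgroup G := D.E.map (MulAut.conj (h * g)).toMonoidHom
  obtain ⟨c, hc, hin, -⟩ := D.conj_to_E (P := P')
    (by rw [Subgroup.card_map_of_injective (MulAut.conj (h * g)).injective, D.card_E])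
    (by rintro _ ⟨x, hx, rfl⟩; rw [← map_mul, D.E_sq hx, map_one])
    (by
      rintro _ ⟨x, hx, rfl⟩
      show h * g * x * (h * g)⁻¹ ∈ _
      rw [show h * g * x * (h * g)⁻¹ = h * (g * x * g⁻¹) * h⁻¹ by group]
      exact (hh _ (hPm hx)).2)
  have hN : c * (h * g) ∈ D.N := mem_norm_of_conj fun x hx => by
    rw [show c * (h * g) * x * (c * (h * g))⁻¹ = c * (h * g * x * (h * g)⁻¹) * c⁻¹ by group]
    exact hin _ ⟨x, hx, rfl⟩
  obtain ⟨f, hf⟩ := D.acts_exists hN
  have h1 := hiso _ (hf.2 1 (by norm_num)).1 ⟨_, f, hf, rfl⟩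
  have hz := (hf.2 1 (by norm_num)).2
  rw [h1, D.e_one] at hz
  have hhg : h * g ∈ Subgroup.centralizer ({z} : Set G) := by
    rw [show h * g = c⁻¹ * (c * (h * g)) by group]
    exact mul_mem (inv_mem hc) (Subgroup.mem_centralizer_singleton_iff.2 (mul_inv_eq_iff_eq_mul.1 hz))
  obtain ⟨x, hx, hxe⟩ := (D.range_eq _).1 hhg
  refine s_not_u x hx (D.inj _ (mconj_lt hx (by norm_num)) _ (by norm_num) ?_)
  rw [D.conj hx (by norm_num), hxe, show h * g * φ 1 * (h * g)⁻¹ = h * (g * φ 1 * g⁻¹) * h⁻¹ by group, hg,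
    Subgroup.mem_centralizer_singleton_iff.1 hhM]
  group

/-- The involution `z` is fused inside `E`. -/
theorem fused : ∃ k ∈ [2, 7, 11, 15, 3, 6, 10, 14], D.Orb k := by
  classical
  by_contra hno
  have hiso : ∀ k < 16, D.Orb k → k = 1 := by
    intro k hk h
    by_contra h1
    have h0 : k ≠ 0 := fun e0 => by
      obtain ⟨g, f, hf, hf1⟩ := h
      have := (hf.2 1 (by norm_num)).2
      rw [hf1, e0, D.e_zero, D.e_one] at this
      have hz1 : z = 1 := by
        calc z = g⁻¹ * (g * z * g⁻¹) * g := by group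
          _ = 1 := by rw [this]; group
      exact absurd ((D.eq_one_iff (by norm_num)).1 (D.zc.trans hz1)) (by norm_num)
    by_cases hU : k ∈ [4, 5, 8, 9, 12, 13]
    · exact D.no_U hU h
    · refine hno ⟨k, ?_, h⟩
      simp only [List.mem_cons, List.not_mem_nil, or_false] at hU ⊢
      omega
  haveI : Fact (Nat.Prime 2) := ⟨Nat.prime_two⟩
  let Qs : Set G := {g | ∃ x, inS x = true ∧ x % 2 = 0 ∧ φ x = g}
  let f : G → ℤˣ := fun g => if g ∈ Qs then 1 else -1
  have hfx : ∀ x, inS x = true → f (φ x) = if x % 2 = 0 then 1 else -1 := fun x hx => by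
    by_cases h : x % 2 = 0
    · simp only [h, if_true, f]
      rw [if_pos ⟨x, hx, h, rfl⟩]
    · simp only [h, if_false, f]
      rw [if_neg]
      rintro ⟨y, hy, hy2, he⟩
      exact h (D.inj _ (lt_of_inS hy) _ (lt_of_inS hx) he ▸ hy2)
  obtain ⟨χ, hχ⟩ := exists_transfer ⊤ D.S le_top (by
    rw [Nat.odd_iff, ← Nat.two_dvd_ne_zero]
    have h := D.sylow.not_dvd_index
    rwa [show (D.S.subgroupOf ⊤).index = D.S.index from Subgroup.relIndex_top_right D.S]) f (by
    rintro _ ⟨x, hx, rfl⟩ _ ⟨y, hy, rfl⟩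
    rw [← D.mul _ (lt_of_inS hx) _ (lt_of_inS hy), hfx _ (List.all_eq_true.1 (List.all_eq_true.1 inS_closed x
      (List.mem_filter.2 ⟨List.mem_range.2 (lt_of_inS hx), hx⟩)) y
      (List.mem_filter.2 ⟨List.mem_range.2 (lt_of_inS hy), hy⟩)), hfx _ hx, hfx _ hy]
    have : mmul x y % 2 = (x + y) % 2 := by unfold mmul; omega
    rw [this]
    obtain a | a := Nat.mod_two_eq_zero_or_one x <;> obtain b | b := Nat.mod_two_eq_zero_or_one y <;>
      simp [Nat.add_mod, a, b])
  have hsS : φ 1 ∈ D.S := ⟨1, by decide +kernel, rfl⟩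
  have hss : φ 1 * φ 1 = 1 := (D.sq_iff (by norm_num)).2 (by decide +kernel)
  have hfs : f (φ 1) = -1 := by
    rw [hfx 1 (by decide +kernel)]
    rfl
  have h1 := hχ (φ 1) hsS hss fun m _ hm => by
    obtain ⟨x, hx, hxe⟩ := hm
    rw [← hxe, hfx x hx, hfs, if_neg]
    intro h2
    have hxx : mmul x x = 0 := (D.sq_iff (lt_of_inS hx)).1 (by
      rw [hxe, show m * φ 1 * m⁻¹ * (m * φ 1 * m⁻¹) = m * (φ 1 * φ 1) * m⁻¹ by group, hss]; group)
    have := List.all_eq_true.1 invol_Q x (List.mem_filter.2 ⟨List.mem_range.2 (lt_of_inS hx), hx⟩)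
    simp only [Bool.or_eq_true, beq_iff_eq, bne_iff_ne, ne_eq, List.any_eq_true, List.mem_range, h2, hxx,
      not_true, zero_ne_one, false_or, or_false] at this
    rcases this with (rfl | rfl) | ⟨c, hc, rfl⟩
    · have : φ 1 = 1 := by
        calc φ 1 = m⁻¹ * (m * φ 1 * m⁻¹) * m := by group
          _ = 1 := by rw [← hxe, D.one]; group
      exact absurd ((D.eq_one_iff (by norm_num)).1 this) (by norm_num)
    · rw [D.zc] at hxe
      have := hiso 2 (by norm_num) (D.fuse (g := m⁻¹) (by norm_num) (by rw [hxe]; show _ = φ 1; group))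
      omega
    · rw [D.conj hc (by norm_num)] at hxe
      exact D.s_not_conj_u hiso (g := (φ c)⁻¹ * m)
        (by rw [show (φ c)⁻¹ * m * φ 1 * ((φ c)⁻¹ * m)⁻¹ = (φ c)⁻¹ * (m * φ 1 * m⁻¹) * φ c by group, ← hxe]; group)
  rw [hfs] at h1
  refine D.noIdx (χ.ker.map (⊤ : Subgroup G).subtype) ?_
  rw [Subgroup.index_map_subtype, Subgroup.index_top, mul_one, Subgroup.index_ker]
  have htop : χ.range = ⊤ := by
    refine eq_top_iff.mpr fun u _ => ?_
    rcases Int.units_eq_one_or u with rfl | rfl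
    exacts [one_mem _, ⟨_, h1⟩]
  rw [htop, Subgroup.card_top, Nat.card_eq_fintype_card]
  rfl

end Dat

/-- The coordinates twisted by the central character. -/
theorem Dat.twist (D : Dat z φ) : Dat z (fun x => φ x * z ^ (x % 2)) := by
  have hzc : ∀ x < 576, ∀ k : ℕ, φ x * z ^ k = z ^ k * φ x := fun x hx k =>
    (Commute.pow_right (D.comm_z hx : Commute (φ x) z) k).eq
  have hval : ∀ x < 576, φ x * z ^ (x % 2) = φ (if x % 2 = 1 then mmul x 24 else x) := fun x hx => by
    obtain h | h := Nat.mod_two_eq_zero_or_one x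
    · rw [h, pow_zero, mul_one, if_neg (by norm_num)]
    · rw [h, pow_one, if_pos rfl, D.mul _ hx _ (by norm_num), D.zc]
  have hb : ∀ x < 576, (if x % 2 = 1 then mmul x 24 else x) < 576 := fun x hx => by
    split_ifs
    · exact mmul_lt hx (by norm_num)
    · exact hx
  have hinv : ∀ x < 576, (fun y => if y % 2 = 1 then mmul y 24 else y)
      ((fun y => if y % 2 = 1 then mmul y 24 else y) x) = x := by decide +kernel
  refine ⟨fun x hx y hy => ?_, fun x hx y hy h => ?_, fun c => ?_, ?_, D.noIdx⟩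
  · have hpar : mmul x y % 2 = (x + y) % 2 := by unfold mmul; omega
    have hzz : ∀ k : ℕ, z ^ (k % 2) = z ^ k := fun k =>
      (pow_eq_pow_mod k (by rw [sq]; exact D.zz)).symm
    rw [D.mul _ hx _ hy, hpar, hzz, hzz x, hzz y, pow_add]
    rw [mul_assoc (φ x), mul_assoc (φ x), ← mul_assoc (φ y), hzc y hy x, mul_assoc (z ^ x)]
  · replace h : φ x * z ^ (x % 2) = φ y * z ^ (y % 2) := h
    rw [hval x hx, hval y hy] at h
    have := congrArg (fun y => if y % 2 = 1 then mmul y 24 else y) (D.inj _ (hb x hx) _ (hb y hy) h)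
    exact (hinv x hx).symm.trans (this.trans (hinv y hy))
  · rw [D.cent]
    constructor
    · rintro ⟨x, hx, rfl⟩
      refine ⟨if x % 2 = 1 then mmul x 24 else x, hb x hx, ?_⟩
      show _ * _ = _
      rw [hval _ (hb x hx)]
      exact congrArg φ (hinv x hx)
    · rintro ⟨x, hx, rfl⟩
      exact ⟨_, hb x hx, (hval x hx).symm⟩
  · show φ 24 * z ^ (24 % 2) = z
    rw [show 24 % 2 = 0 from rfl, pow_zero, mul_one, D.zc]

/-- Coordinates in which `z` is fused to `s`. -/
theorem exists_frame [Finite G] (D : Dat z φ) :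
    ∃ ψ : ℕ → G, ∃ D' : Dat z ψ, D'.Orb 2 := by
  obtain ⟨k, hk, h⟩ := D.fused
  have ht := a4_trans
  simp only [Bool.and_eq_true] at ht
  by_cases hS : k ∈ [2, 7, 11, 15]
  · exact ⟨φ, D, D.orb_move h (List.all_eq_true.1 ht.1.2 k hS)⟩
  · have hZ : k ∈ [3, 6, 10, 14] := by
      simp only [List.mem_cons, List.not_mem_nil, or_false] at hS hk ⊢
      omega
    obtain ⟨g, f, hf, h3⟩ := D.orb_move h (List.all_eq_true.1 ht.2 k hZ)
    refine ⟨_, D.twist, D.twist.fuse (g := g) (by norm_num) ?_⟩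
    have h' := (hf.2 1 (by norm_num)).2
    rw [h3, D.e_one] at h'
    rw [h']
    show φ (el 3) = φ (el 2) * z ^ (el 2 % 2)
    rw [show el 2 = 1 from rfl, pow_one, ← D.zc, ← D.mul _ (by norm_num) _ (by norm_num)]
    exact congrArg φ (by decide +kernel)

end CfsgPSp43
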