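import Cfsg.Agent.Lib.PSp43.Rel
import Cfsg.Agent.Lib.U43Type.Frame
import Cfsg.Agent.Lib.PSp43.Cert

/-!
Groups with the involution centraliser of PSp₄(3): generation and the comparison with a group of order 25920.
-/

set_option autoImplicit false
set_option maxRecDepth 100000
set_option linter.unusedSectionVars false

namespace CfsgPSp43

open CfsgU43Type
open Dat (lt_of_inS)

/-- The code of a letter of the model. -/
def letterCode : ℕ → ℕ
  | 0 => 48
  | 1 => 96
  | 2 => 192
  | 3 => 1
  | 5 => minv 48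
  | 6 => minv 96
  | 7 => minv 192
  | 8 => minv 1
  | _ => 0

/-- The code of a word without the extra letter. -/
def codeVal (w : List ℕ) : ℕ := w.foldr (fun i x => mmul (letterCode i) x) 0

/-- The letters as elements. -/
def gens {G : Type*} [Group G] (φ : ℕ → G) (o : G) : ℕ → G
  | 4 => o
  | 9 => o⁻¹
  | i => φ (letterCode i)

theorem letter_lt : ∀ i < 10, letterCode i < 576 := by decide +kernel

theorem model_dec : ∀ x < 576, mmul (mmul (2 * kc (x / 2 / 24) 0) (mmul (mmul 1 (2 * kc (x / 2 % 24) 0)) 1))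
    (x % 2) = x := by
  decide +kernel

theorem sl_facts : ∀ a < 24, ∀ b < 24, mmul (2 * kc a 0) (2 * kc b 0) = 2 * kc (smul a b) 0 := by decide +kernel

theorem word_facts :
    (relWords.take 14).all (fun w => codeVal w == 0 && w.all fun i => decide (i < 10 ∧ i ≠ 4 ∧ i ≠ 9)) = true ∧
    relWords.drop 14 = [[4, 4, 4], [4] ++ [0, 0] ++ [9] ++ [8], [4] ++ [3] ++ [9] ++ [8, 5, 8, 5, 8, 5, 5],
      [4] ++ [0, 0, 3, 1, 3, 1, 3] ++ [9] ++ [8, 6, 8, 6, 8, 5, 5],
      [1, 3, 0, 1, 3] ++ [4] ++ [1, 3, 0, 1, 3] ++ [4],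
      ([4] ++ [1, 3, 0, 1, 3] ++ [2, 3, 2, 3]) ++ ([4] ++ [1, 3, 0, 1, 3] ++ [2, 3, 2, 3]),
      ([4] ++ [2, 0, 0, 3, 1, 3, 1, 3, 7] ++ [9] ++ [2, 2, 3, 7, 7]) ++
        ([4] ++ [2, 8, 6, 8, 6, 8, 5, 5, 7] ++ [9] ++ [2, 2, 8, 7, 7])] ∧
    codeVal [0, 0] = 24 ∧ codeVal [8] = 1 ∧ codeVal [3] = 1 ∧ codeVal [8, 5, 8, 5, 8, 5, 5] = minv 75 ∧
    codeVal [0, 0, 3, 1, 3, 1, 3] = 125 ∧ codeVal [8, 6, 8, 6, 8, 5, 5] = minv 125 ∧
    codeVal [1, 3, 0, 1, 3] = 102 ∧ codeVal [2, 3, 2, 3] = 200 ∧
    codeVal [2, 0, 0, 3, 1, 3, 1, 3, 7] = 381 ∧ codeVal [2, 8, 6, 8, 6, 8, 5, 5, 7] = minv 381 ∧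
    codeVal [2, 2, 3, 7, 7] = 393 ∧ codeVal [2, 2, 8, 7, 7] = minv 393 ∧ minv 1 = 1 := by
  decide +kernel

theorem moves : (([1, 2, 7, 11, 15].all fun k => k == 1 || (List.range 12).any fun i =>
      [[i, 12], [12, 12]].any fun w => (wordAct (a4L ++ [abcA]) w).getD 1 16 == k) &&
    ([3, 4, 5, 6, 8, 9, 10, 12, 13, 14].all fun k => k == 4 || (List.range 12).any fun i => (List.range 12).any fun j =>
      [[i], [i, 12], [12, i], [i, 12, j], [i, 12, 12], [12, 12, i], [i, 12, j, 12]].any fun w =>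
        (wordAct (a4L ++ [abcA]) w).getD 4 16 == k)) = true := by
  decide +kernel

theorem invol_to_E : (((List.range 576).filter inS).all fun x => mmul x x != 0 || x == 0 ||
    (List.range 576).any fun c => eTab.contains (mconj c x)) = true := by
  decide +kernel

theorem S_gen : (((List.range 576).filter inS).all fun x => ((List.range 576).filter inS).any fun a =>
    mmul a a == 0 && ((List.range 576).filter inS).any fun b => mmul b b == 0 && mmul a b == x) = true := by
  decide +kernel

theorem five_gen : ∀ n < 16, (n == 0 || five.contains n || five.any fun a => five.any fun b => a ^^^ b == n) = true := by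
  decide +kernel

theorem wordVal_append {M : Type*} [Group M] (g : ℕ → M) (u w : List ℕ) :
    wordVal g (u ++ w) = wordVal g u * wordVal g w := by
  simp [wordVal]

theorem wordVal_one {M : Type*} [Group M] (g : ℕ → M) (i : ℕ) : wordVal g [i] = g i := by simp [wordVal]

section

variable {G : Type*} [Group G] {z : G} {φ : ℕ → G} {o : G} [Finite G]

namespace Dat

theorem mem_of_gens (D : Dat z φ) {H : Subgroup G} (h : ∀ i < 4, φ (letterCode i) ∈ H) {x : ℕ} (hx : x < 576) :
    φ x ∈ H := by
  have hlt : ∀ a < 24, 2 * kc a 0 < 576 := fun a ha => by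
    have := kc_lt a ha 0 (by norm_num); omega
  have key : ∀ a < 24, φ (2 * kc a 0) ∈ H := by
    refine sgen_induction (P := fun a => φ (2 * kc a 0) ∈ H) ?_ ?_ fun a ha b hb pa pb => ?_
    · have := h 0 (by norm_num)
      rwa [show 2 * kc 1 0 = letterCode 0 by decide +kernel]
    · have := h 2 (by norm_num)
      rwa [show 2 * kc 4 0 = letterCode 2 by decide +kernel]
    · show φ (2 * kc (smul a b) 0) ∈ H
      rw [← sl_facts a ha b hb, D.mul _ (hlt a ha) _ (hlt b hb)]
      exact mul_mem pa pb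
  have h1 : φ 1 ∈ H := h 3 (by norm_num)
  have hq : x / 2 % 24 < 24 := Nat.mod_lt _ (by norm_num)
  have hd : x / 2 / 24 < 24 := by omega
  have l2 := mmul_lt (show 1 < 576 by norm_num) (hlt _ hq)
  have l3 := mmul_lt l2 (show 1 < 576 by norm_num)
  rw [← model_dec x hx, D.mul _ (mmul_lt (hlt _ hd) l3) _ (by omega), D.mul _ (hlt _ hd) _ l3, D.mul _ l2 _ (by norm_num),
    D.mul _ (by norm_num) _ (hlt _ hq)]
  refine mul_mem (mul_mem (key _ hd) (mul_mem (mul_mem h1 (key _ hq)) h1)) ?_
  obtain e | e := Nat.mod_two_eq_zero_or_one x <;> rw [e]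
  · rw [D.one]; exact one_mem _
  · exact h1

end Dat

namespace Cfg

variable (K : Cfg z φ o)
include K

theorem gens_inv : ∀ i < 10, gens φ o (invLetter i) = (gens φ o i)⁻¹ := by
  intro i hi
  have hinv : ∀ j < 10, j ≠ 4 → j ≠ 9 → minv (letterCode j) = letterCode (invLetter j) ∧ invLetter j ≠ 4 ∧
      invLetter j ≠ 9 := by decide +kernel
  have hg : ∀ j, j ≠ 4 → j ≠ 9 → gens φ o j = φ (letterCode j) := fun j h4 h9 => by
    unfold gens; split <;> simp_all
  by_cases h4 : i = 4
  · subst h4; rfl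
  by_cases h9 : i = 9
  · subst h9; show o = o⁻¹⁻¹; rw [inv_inv]
  obtain ⟨h1, h2, h3⟩ := hinv i hi h4 h9
  rw [hg i h4 h9, hg _ h2 h3, ← h1, K.dat.inv (letter_lt i hi)]

theorem codeVal_lt {w : List ℕ} (hw : ∀ i ∈ w, i < 10) : codeVal w < 576 := by
  induction w with
  | nil => simp [codeVal]
  | cons i w ih =>
    exact mmul_lt (letter_lt i (hw i (List.mem_cons_self ..))) (ih fun j hj => hw j (List.mem_cons_of_mem _ hj))

theorem wordVal_code {w : List ℕ} (hw : ∀ i ∈ w, i < 10 ∧ i ≠ 4 ∧ i ≠ 9) :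
    wordVal (gens φ o) w = φ (codeVal w) := by
  induction w with
  | nil => simp [wordVal, codeVal, K.dat.one]
  | cons i w ih =>
    obtain ⟨hi, h4, h9⟩ := hw i (List.mem_cons_self ..)
    have hg : gens φ o i = φ (letterCode i) := by unfold gens; split <;> simp_all
    have hlt : codeVal w < 576 := K.codeVal_lt fun j hj => (hw j (List.mem_cons_of_mem _ hj)).1
    rw [show codeVal (i :: w) = mmul (letterCode i) (codeVal w) from rfl, K.dat.mul _ (letter_lt i hi) _ hlt,
      ← ih fun j hj => hw j (List.mem_cons_of_mem _ hj), ← hg]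
    simp [wordVal]

theorem rels : ∀ w ∈ relWords, wordVal (gens φ o) w = 1 := by
  obtain ⟨h0, hdrop, w2, w3, w4, w5, w6, w7, w8, w9, w10, w11, w12, w13, w14⟩ := word_facts
  have D := K.dat
  intro w hw
  rw [← List.take_append_drop 14 relWords, List.mem_append] at hw
  rcases hw with hw | hw
  · have h := List.all_eq_true.1 h0 w hw
    simp only [Bool.and_eq_true, beq_iff_eq, List.all_eq_true, decide_eq_true_eq] at h
    rw [K.wordVal_code h.2, h.1, D.one]
  · rw [hdrop] at hw
    have e4 : wordVal (gens φ o) [4] = o := wordVal_one _ _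
    have e9 : wordVal (gens φ o) [9] = o⁻¹ := wordVal_one _ _
    have eR : φ 102 * o * φ 102 * o = 1 := K.roro
    have eV : o * φ 102 * φ 200 * (o * φ 102 * φ 200) = 1 := K.orv
    have q1 := (K.acts.2 1 (by norm_num)).2
    have q2 := (K.acts.2 2 (by norm_num)).2
    have q11 := (K.acts.2 11 (by norm_num)).2
    rw [show abcA.getD 1 16 = 2 from rfl, show e φ 1 = φ 24 from rfl, show e φ 2 = φ 1 from rfl] at q1
    rw [show abcA.getD 2 16 = 7 from rfl, show e φ 2 = φ 1 from rfl, show e φ 7 = φ 75 from rfl] at q2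
    rw [show abcA.getD 11 16 = 11 from rfl, show e φ 11 = φ 125 from rfl] at q11
    have eX : o * φ 381 * o⁻¹ * φ 393 * (o * φ (minv 381) * o⁻¹ * φ (minv 393)) = 1 := by
      rw [D.inv (by norm_num), D.inv (by norm_num), K.rel]
      group
    simp only [List.mem_cons, List.not_mem_nil, or_false] at hw
    rcases hw with rfl | rfl | rfl | rfl | rfl | rfl | rfl
    · show wordVal (gens φ o) ([4] ++ [4] ++ [4]) = 1
      rw [wordVal_append, wordVal_append, e4, mul_assoc]
      exact K.cube
    · rw [wordVal_append, wordVal_append, wordVal_append, e4, e9, K.wordVal_code (by decide), w2,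
        K.wordVal_code (by decide), w3, q1]
      exact (D.sq_iff (by norm_num)).2 (by decide +kernel)
    · rw [wordVal_append, wordVal_append, wordVal_append, e4, e9, K.wordVal_code (by decide), w4,
        K.wordVal_code (by decide), w5, q2, D.inv (by norm_num), mul_inv_cancel]
    · rw [wordVal_append, wordVal_append, wordVal_append, e4, e9, K.wordVal_code (by decide), w6,
        K.wordVal_code (by decide), w7, q11, D.inv (by norm_num), mul_inv_cancel]
    · rw [wordVal_append, wordVal_append, wordVal_append, e4, K.wordVal_code (by decide), w8, eR]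
    · rw [wordVal_append, wordVal_append, wordVal_append, e4, K.wordVal_code (by decide), w8,
        K.wordVal_code (by decide), w9, eV]
    · simp only [wordVal_append, e4, e9]
      rw [K.wordVal_code (by decide), w10, K.wordVal_code (by decide), w12, K.wordVal_code (by decide), w11,
        K.wordVal_code (by decide), w13, eX]

theorem gens_model {i : ℕ} (hi : i < 4) : gens φ o i = φ (letterCode i) := by
  interval_cases i <;> rfl

/-- The model and the three-cycle generate. -/
theorem generates : Subgroup.closure (Set.range fun i : Fin 5 => gens φ o i) = ⊤ := by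
  classical
  haveI : Fact (Nat.Prime 2) := ⟨Nat.prime_two⟩
  have D := K.dat
  set H := Subgroup.closure (Set.range fun i : Fin 5 => gens φ o i) with hH
  have hi : ∀ i < 5, gens φ o i ∈ H := fun i h => Subgroup.subset_closure ⟨⟨i, h⟩, rfl⟩
  have hC : ∀ g, g * z = z * g → g ∈ H := fun g hg => by
    obtain ⟨x, hx, rfl⟩ := (D.cent g).1 hg
    exact D.mem_of_gens (fun j hj => K.gens_model hj ▸ hi j (by omega)) hx
  have hoH : o ∈ H := hi 4 (by norm_num)
  have hword : ∀ w : List ℕ, (∀ i ∈ w, i < 13) → ∃ g ∈ H, Acts φ g (wordAct (a4L ++ [abcA]) w) := by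
    suffices ∀ (w : List ℕ) (g : G) (f : List ℕ), (∀ i ∈ w, i < 13) → g ∈ H → Acts φ g f →
        ∃ g' ∈ H, Acts φ g' (w.foldl (fun f i => comp f ((a4L ++ [abcA]).getD i idA)) f) from
      fun w hw => this w 1 idA hw (one_mem _) D.acts_id
    intro w
    induction w with
    | nil => exact fun g f _ hg hf => ⟨g, hg, hf⟩
    | cons i w ih =>
      intro g f hw hg hf
      have hi13 := hw i (List.mem_cons_self ..)
      obtain ⟨h, hhH, hh⟩ : ∃ h ∈ H, Acts φ h ((a4L ++ [abcA]).getD i idA) := by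
        by_cases h12 : i < 12
        · have hmem : (a4L ++ [abcA]).getD i idA ∈ a4L := by
            have hl : i < a4L.length := h12
            rw [List.getD_eq_getElem?_getD, List.getElem?_append_left hl, List.getElem?_eq_getElem hl]
            exact List.getElem_mem _
          obtain ⟨x, hx, hxa⟩ := D.a4_acts hmem
          exact ⟨φ x, hC _ (D.comm_z hx), hxa⟩
        · obtain rfl : i = 12 := by omega
          exact ⟨o, hoH, K.acts⟩
      exact ih _ _ (fun j hj => hw j (List.mem_cons_of_mem _ hj)) (mul_mem hg hhH) (D.acts_mul hf hh)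
  have hmv := moves
  simp only [Bool.and_eq_true, List.all_eq_true, Bool.or_eq_true, beq_iff_eq, List.any_eq_true, List.mem_range] at hmv
  have hto : ∀ k ∈ five, ∃ g ∈ H, g * z * g⁻¹ = e φ k := by
    intro k hk
    rcases hmv.1 k hk with rfl | ⟨i, hi', w, hw, hwk⟩
    · exact ⟨1, one_mem _, by rw [D.e_one]; group⟩
    · obtain ⟨g, hgH, hg⟩ := hword w (by
        simp only [List.mem_cons, List.not_mem_nil, or_false] at hw
        rcases hw with rfl | rfl <;> intro j hj <;>
          simp only [List.mem_cons, List.not_mem_nil, or_false] at hj <;> omega)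
      refine ⟨g, hgH, ?_⟩
      have := (hg.2 1 (by norm_num)).2
      rwa [hwk, D.e_one] at this
  have hN : ∀ g ∈ D.N, g ∈ H := by
    intro g hg
    obtain ⟨f, hf⟩ := D.acts_exists hg
    obtain ⟨m, hmH, hm⟩ := hto _ (D.acts_five K.orb hf (k := 1) (by simp [five]))
    have h2 := (hf.2 1 (by norm_num)).2
    rw [D.e_one, ← hm] at h2
    have := mul_mem hmH (hC (m⁻¹ * g) (by
      calc m⁻¹ * g * z = m⁻¹ * (g * z * g⁻¹) * g := by group
        _ = z * (m⁻¹ * g) := by rw [h2]; group))
    rwa [mul_inv_cancel_left] at this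
  have hcE : ∀ k < 16, k ≠ 0 → ∀ g, g * e φ k = e φ k * g → g ∈ H := by
    intro k hk hk0 g hg
    obtain ⟨p, hp, m, hmH, hm⟩ : ∃ p, (p = z ∨ p = φ 50) ∧ ∃ m ∈ H, m * p * m⁻¹ = e φ k := by
      by_cases h5 : k ∈ five
      · exact ⟨z, Or.inl rfl, hto k h5⟩
      · refine ⟨φ 50, Or.inr rfl, ?_⟩
        rcases hmv.2 k (by simp only [five, List.mem_cons, List.not_mem_nil, or_false] at h5 ⊢; omega) with
          rfl | ⟨i, hi', j, hj', w, hw, hwk⟩
        · exact ⟨1, one_mem _, by show 1 * φ 50 * (1 : G)⁻¹ = φ 50; group⟩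
        · obtain ⟨m, hmH, hm⟩ := hword w (by
            simp only [List.mem_cons, List.not_mem_nil, or_false] at hw
            rcases hw with rfl | rfl | rfl | rfl | rfl | rfl | rfl <;> intro q hq <;>
              simp only [List.mem_cons, List.not_mem_nil, or_false] at hq <;> omega)
          refine ⟨m, hmH, ?_⟩
          have := (hm.2 4 (by norm_num)).2
          rwa [hwk] at this
    have hc : m⁻¹ * g * m * p = p * (m⁻¹ * g * m) := by
      rw [← hm] at hg
      calc m⁻¹ * g * m * p = m⁻¹ * (g * (m * p * m⁻¹)) * m := by group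
        _ = m⁻¹ * (m * p * m⁻¹ * g) * m := by rw [hg]
        _ = p * (m⁻¹ * g * m) := by group
    have hin : m⁻¹ * g * m ∈ H := by
      rcases hp with rfl | rfl
      exacts [hC _ hc, hN _ (K.centralizer_u hc)]
    have := mul_mem (mul_mem hmH hin) (inv_mem hmH)
    rwa [show m * (m⁻¹ * g * m) * m⁻¹ = g by group] at this
  have hzH : z ∈ H := hC z rfl
  have hSmax := D.S_le_N
  -- every conjugate of `z` lies in `H`
  have hzc : ∀ g, g * z * g⁻¹ ∈ H := by
    intro g
    set v := g * z * g⁻¹ with hv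
    set u := φ 50 with hu
    have huu : u * u = 1 := (D.sq_iff (by norm_num)).2 (by decide +kernel)
    have hvv : v * v = 1 := by rw [hv, show g * z * g⁻¹ * (g * z * g⁻¹) = g * (z * z) * g⁻¹ by group, D.zz]; group
    set x := u * v with hx
    have hu' : u⁻¹ = u := (eq_inv_of_mul_eq_one_left huu).symm
    have hv' : v⁻¹ = v := (eq_inv_of_mul_eq_one_left hvv).symm
    have hux : u * x * u⁻¹ = x⁻¹ := by rw [hx, mul_inv_rev, hu', hv', ← mul_assoc u u v, huu, one_mul]
    have hvx : v = u * x := by rw [hx, ← mul_assoc, huu, one_mul]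
    rcases Nat.even_or_odd (orderOf x) with ⟨m, hm⟩ | ⟨l, hl⟩
    · set k := x ^ m with hk
      have hk2 : k * k = 1 := by rw [hk, ← pow_add, ← hm, pow_orderOf_eq_one]
      have hk1 : k ≠ 1 := fun h1 => by
        have := orderOf_pos x
        exact pow_ne_one_of_lt_orderOf (n := m) (by omega) (by omega) h1
      have hku : k * u = u * k := by
        have : u * k * u⁻¹ = k⁻¹ := by rw [hk, ← conj_pow, hux, inv_pow]
        rw [← eq_inv_of_mul_eq_one_left hk2] at this
        exact (mul_inv_eq_iff_eq_mul.1 this).symm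
      have hkv : v * k = k * v := by
        rw [hvx]
        calc u * x * k = u * (x * k) := mul_assoc _ _ _
          _ = u * (k * x) := congrArg (u * ·) (Commute.self_pow x m).eq
          _ = u * k * x := (mul_assoc _ _ _).symm
          _ = k * u * x := congrArg (· * x) hku.symm
          _ = k * (u * x) := mul_assoc _ _ _
      have hkN := K.centralizer_u hku
      have hz2 : IsPGroup 2 (Subgroup.zpowers k) := by
        have hd : orderOf k ∣ 2 := orderOf_dvd_of_pow_eq_one (by rw [pow_two, hk2])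
        rcases (Nat.dvd_prime Nat.prime_two).1 hd with h | h
        · exact absurd (orderOf_eq_one_iff.1 h) hk1
        · exact IsPGroup.of_card (n := 1) (by rw [Nat.card_zpowers, h]; norm_num)
      obtain ⟨c, hc, hcS⟩ := conj_into D.isPGroup_S D.S_le_N (fun R hR _ hle => D.S_maximal hR hle) hz2
        (Subgroup.zpowers_le.2 hkN)
      obtain ⟨a, ha, hae⟩ := hcS k (Subgroup.mem_zpowers k)
      have ha' := lt_of_inS ha
      have haa : mmul a a = 0 := (D.sq_iff ha').1 (by
        rw [hae, show c * k * c⁻¹ * (c * k * c⁻¹) = c * (k * k) * c⁻¹ by group, hk2]; group)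
      have ha0 : a ≠ 0 := fun e0 => hk1 (by
        rw [show k = c⁻¹ * (c * k * c⁻¹) * c by group, ← hae, e0, D.one]; group)
      have h := List.all_eq_true.1 invol_to_E a (List.mem_filter.2 ⟨List.mem_range.2 ha', ha⟩)
      simp only [Bool.or_eq_true, bne_iff_ne, beq_iff_eq, ne_eq, haa, ha0, not_true, false_or, List.any_eq_true,
        List.mem_range, List.contains_iff_mem] at h
      obtain ⟨b, hb, hbE⟩ := h
      obtain ⟨n, hn, hne⟩ := List.mem_iff_getElem.1 hbE
      have hn' : n < 16 := hn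
      have hn0 : n ≠ 0 := by
        intro e0
        subst e0
        have h0 : φ (mconj b a) = 1 := by rw [← hne]; exact D.one
        rw [D.conj hb ha', hae] at h0
        refine hk1 ?_
        calc k = c⁻¹ * (φ b)⁻¹ * (φ b * (c * k * c⁻¹) * (φ b)⁻¹) * φ b * c := by group
          _ = 1 := by rw [h0]; group
      set mm := φ b * c with hmm
      have hmH : mm ∈ H := mul_mem (hC _ (D.comm_z hb)) (hN c hc)
      have hek : mm * k * mm⁻¹ = e φ n := by
        rw [e, el, List.getD_eq_getElem?_getD, List.getElem?_eq_getElem hn, Option.getD_some, hne, D.conj hb ha', hae,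
          hmm]
        group
      have hin := hcE n hn' hn0 (mm * v * mm⁻¹) (by
        rw [← hek, show mm * v * mm⁻¹ * (mm * k * mm⁻¹) = mm * (v * k) * mm⁻¹ by group, hkv]; group)
      have := mul_mem (mul_mem (inv_mem hmH) hin) hmH
      rwa [show mm⁻¹ * (mm * v * mm⁻¹) * mm = v by group] at this
    · exfalso
      have hy : x ^ (l + 1) * v * (x ^ (l + 1))⁻¹ = u := by
        have h1 : x ^ (l + 1) * u = u * (x ^ (l + 1))⁻¹ := by
          have : u * x ^ (l + 1) * u⁻¹ = (x ^ (l + 1))⁻¹ := by rw [← conj_pow, hux, inv_pow]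
          rw [← this, ← mul_assoc, ← mul_assoc, huu, one_mul, hu']
        rw [hvx, ← mul_assoc, h1, mul_assoc, mul_assoc]
        have h2 : (x ^ (l + 1))⁻¹ * (x * (x ^ (l + 1))⁻¹) = 1 := by
          have hp : x ^ (2 * l + 1) = 1 := by rw [← hl, pow_orderOf_eq_one]
          have e1 : x ^ (l + 1) * x ^ (l + 1) = x := by
            rw [← pow_add, show l + 1 + (l + 1) = 2 * l + 1 + 1 by omega, pow_succ, hp, one_mul]
          calc (x ^ (l + 1))⁻¹ * (x * (x ^ (l + 1))⁻¹)
              = (x ^ (l + 1))⁻¹ * (x ^ (l + 1) * x ^ (l + 1) * (x ^ (l + 1))⁻¹) := by rw [e1]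
            _ = 1 := by group
        rw [h2, mul_one]
      refine K.u_not_z (x ^ (l + 1) * g) ?_
      rw [← hu, ← hy, hv]
      group
  -- the Frattini argument
  set Nn := Subgroup.normalClosure ({z} : Set G) with hNn
  have hNnH : Nn ≤ H := by
    refine (Subgroup.closure_le H).2 ?_
    intro y hy
    obtain ⟨a, ha, hc⟩ := Group.mem_conjugatesOfSet_iff.1 hy
    rw [Set.mem_singleton_iff] at ha
    subst ha
    obtain ⟨g, rfl⟩ := isConj_iff.1 hc
    exact hzc g
  have hzN : z ∈ Nn := Subgroup.subset_normalClosure rfl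
  have hEN : ∀ n < 16, e φ n ∈ Nn := by
    have h5 : ∀ k ∈ five, e φ k ∈ Nn := fun k hk => by
      obtain ⟨g, -, hg⟩ := hto k hk
      exact hg ▸ Subgroup.normalClosure_normal.conj_mem z hzN g
    intro n hn
    have h := five_gen n hn
    simp only [Bool.or_eq_true, beq_iff_eq, List.any_eq_true, List.contains_iff_mem] at h
    rcases h with (rfl | h) | ⟨a, ha, b, hb, rfl⟩
    · rw [D.e_zero]; exact one_mem _
    · exact h5 n h
    · have hlt : ∀ k ∈ five, k < 16 := by decide
      rw [D.e_mul (hlt a ha) (hlt b hb)]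
      exact mul_mem (h5 a ha) (h5 b hb)
  have hinvol : ∀ a, inS a = true → mmul a a = 0 → φ a ∈ Nn := by
    intro a ha haa
    by_cases ha0 : a = 0
    · rw [ha0, D.one]; exact one_mem _
    · have h := List.all_eq_true.1 invol_to_E a (List.mem_filter.2 ⟨List.mem_range.2 (lt_of_inS ha), ha⟩)
      simp only [Bool.or_eq_true, bne_iff_ne, beq_iff_eq, ne_eq, haa, ha0, not_true, false_or, List.any_eq_true,
        List.mem_range, List.contains_iff_mem] at h
      obtain ⟨b, hb, hbE⟩ := h
      obtain ⟨n, hn, hne⟩ := List.mem_iff_getElem.1 hbE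
      have := Subgroup.normalClosure_normal.conj_mem _ (hEN n hn) (φ b)⁻¹
      rwa [e, el, List.getD_eq_getElem?_getD, List.getElem?_eq_getElem hn, Option.getD_some, hne,
        D.conj hb (lt_of_inS ha), show (φ b)⁻¹ * (φ b * φ a * (φ b)⁻¹) * (φ b)⁻¹⁻¹ = φ a by group] at this
  have hSN : D.S ≤ Nn := by
    rintro _ ⟨a, ha, rfl⟩
    have h := List.all_eq_true.1 S_gen a (List.mem_filter.2 ⟨List.mem_range.2 (lt_of_inS ha), ha⟩)
    simp only [List.any_eq_true, Bool.and_eq_true, beq_iff_eq, List.mem_filter, List.mem_range] at h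
    obtain ⟨p, ⟨hp, hpS⟩, hpp, q, ⟨hq, hqS⟩, hqq, hpq⟩ := h
    rw [← hpq, D.mul _ hp _ hq]
    exact mul_mem (hinvol p hpS hpp) (hinvol q hqS hqq)
  rw [eq_top_iff]
  intro g _
  let P : Sylow 2 Nn := D.sylow.subtype hSN
  have hfr := Sylow.normalizer_sup_eq_top P
  have hP : ((P : Subgroup Nn).map Nn.subtype) = D.S := by
    ext y
    constructor
    · rintro ⟨y', hy', rfl⟩; exact hy'
    · exact fun hy => ⟨⟨y, hSN hy⟩, hy, rfl⟩
  rw [hP] at hfr
  have hg : g ∈ Subgroup.normalizer (D.S : Set G) ⊔ Nn := hfr ▸ Subgroup.mem_top g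
  exact (sup_le (fun n hn => hC n (mul_inv_eq_iff_eq_mul.1 (D.S_normalizer fun x => Subgroup.mem_normalizer_iff.1 hn x)))
    hNnH) hg

end Cfg

end

/-- The comparison. -/
theorem iso {G G' : Type*} [Group G] [Group G'] [Finite G] [Finite G'] {z : G} {φ : ℕ → G} {o : G}
    (K : Cfg z φ o) {z' : G'} {φ' : ℕ → G'} {o' : G'} (K' : Cfg z' φ' o') [IsSimpleGroup G']
    (hcard : Nat.card G' = 25920) : Nonempty (G ≃* G') := by
  classical
  let g : ℕ → G × G' := fun i => (gens φ o i, gens φ' o' i)
  let C : Subgroup (G × G') :=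
    { carrier := {y | ∃ x < 576, (φ x, φ' x) = y}
      one_mem' := ⟨0, by norm_num, by rw [K.dat.one, K'.dat.one]; rfl⟩
      mul_mem' := by
        rintro _ _ ⟨x, hx, rfl⟩ ⟨y, hy, rfl⟩
        exact ⟨mmul x y, mmul_lt hx hy, by rw [K.dat.mul _ hx _ hy, K'.dat.mul _ hx _ hy]; rfl⟩
      inv_mem' := by
        rintro _ ⟨x, hx, rfl⟩
        exact ⟨minv x, (minv_ok x hx).2, by rw [K.dat.inv hx, K'.dat.inv hx]; rfl⟩ }
  let p : (G × G') ⧸ C := ((1 : G × G') : (G × G') ⧸ C)
  have H : CosetData g p := by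
    refine ⟨fun i hi => Prod.ext (K.gens_inv i hi) (K'.gens_inv i hi), fun w hw => ?_, fun {i} hi => ?_⟩
    · have key : ∀ w : List ℕ, wordVal g w = (wordVal (gens φ o) w, wordVal (gens φ' o') w) := fun w => by
        induction w with
        | nil => rfl
        | cons i w ih =>
          simp only [wordVal, List.map_cons, List.prod_cons] at ih ⊢
          rw [ih]; rfl
      rw [key, K.rels w hw, K'.rels w hw]; rfl
    · show ((g i * 1 : G × G') : (G × G') ⧸ C) = p
      rw [QuotientGroup.eq, mul_one, mul_one]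
      exact inv_mem ⟨letterCode i, letter_lt i (by omega), Prod.ext (K.gens_model hi).symm (K'.gens_model hi).symm⟩
  let Ω : Set ((G × G') ⧸ C) := {q | ∃ w ∈ reps, path g w p = q}
  let T : Set (G × G') := {m | ∀ q ∈ Ω, m • q ∈ Ω}
  let M := Subgroup.closure (Set.range fun i : Fin 5 => g i)
  have hgen : ∀ i < 5, g i ∈ T := by
    intro i hi q hq
    obtain ⟨w, hw, rfl⟩ := hq
    obtain ⟨w', hw', e⟩ : ∃ w' ∈ reps, g i • path g w p = path g w' p := by
      interval_cases i
      exacts [H.step0 w hw, H.step1 w hw, H.step2 w hw, H.step3 w hw, H.step4 w hw]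
    exact ⟨w', hw', e.symm⟩
  have hpΩ : p ∈ Ω := ⟨[], by decide, rfl⟩
  have hM : ∀ m ∈ M, m ∈ T := by
    intro m hm
    induction hm using Subgroup.closure_induction with
    | mem x hx => obtain ⟨i, rfl⟩ := hx; exact hgen i i.2
    | one => intro q hq; rwa [one_smul]
    | mul x y _ _ hx hy => intro q hq; rw [mul_smul]; exact hx _ (hy _ hq)
    | inv x _ hx =>
      intro q hq
      have hpow : ∀ n : ℕ, x ^ n • q ∈ Ω := fun n => by
        induction n with
        | zero => rwa [pow_zero, one_smul]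
        | succ n ih => rw [pow_succ', mul_smul]; exact hx _ ih
      have : x⁻¹ = x ^ (orderOf x - 1) := inv_eq_of_mul_eq_one_right (by
        rw [← pow_succ', Nat.sub_add_cancel (orderOf_pos x), pow_orderOf_eq_one])
      rw [this]; exact hpow _
  have hcardM : Nat.card M ≤ 25920 := by
    have hr : ∀ m : M, ∃ k : Fin 45, ∃ x : Fin 576,
        (m : G × G') = wordVal g (reps.getD k []).reverse * (φ x, φ' x) := by
      intro m
      obtain ⟨w, hw, he⟩ := hM m m.2 p hpΩ
      obtain ⟨k, hk, rfl⟩ := List.mem_iff_getElem.1 hw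
      have hk' : k < 45 := hk
      rw [← List.reverse_reverse reps[k], path_reverse] at he
      have he' : ((wordVal g reps[k].reverse * 1 : G × G') : (G × G') ⧸ C) = ((m : G × G') * 1 : G × G') := he
      rw [QuotientGroup.eq, mul_one, mul_one] at he'
      obtain ⟨x, hx, hxe⟩ := he'
      refine ⟨⟨k, hk'⟩, ⟨x, hx⟩, ?_⟩
      rw [show reps.getD k [] = reps[k] by rw [List.getD_eq_getElem?_getD, List.getElem?_eq_getElem hk]; rfl, hxe,
        mul_inv_cancel_left]
    choose fk fx hf using hr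
    have := Nat.card_le_card_of_injective (fun m => (fk m, fx m)) fun a b hab => by
      obtain ⟨h1, h2⟩ := Prod.mk.injEq .. ▸ hab
      exact Subtype.ext (by rw [hf a, hf b, h1, h2])
    rwa [Nat.card_prod, Nat.card_fin, Nat.card_fin] at this
  let π₁ : M →* G := (MonoidHom.fst G G').comp M.subtype
  let π₂ : M →* G' := (MonoidHom.snd G G').comp M.subtype
  have hsurj1 : Function.Surjective π₁ := by
    rw [← MonoidHom.range_eq_top, eq_top_iff, ← K.generates, Subgroup.closure_le]
    rintro _ ⟨i, rfl⟩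
    exact ⟨⟨g i, Subgroup.subset_closure ⟨i, rfl⟩⟩, rfl⟩
  have hsurj2 : Function.Surjective π₂ := by
    rw [← MonoidHom.range_eq_top, eq_top_iff, ← K'.generates, Subgroup.closure_le]
    rintro _ ⟨i, rfl⟩
    exact ⟨⟨g i, Subgroup.subset_closure ⟨i, rfl⟩⟩, rfl⟩
  have hbij : Function.Bijective π₂ := (Nat.bijective_iff_surjective_and_card _).2
    ⟨hsurj2, le_antisymm (hcard ▸ hcardM) (Nat.card_le_card_of_surjective _ hsurj2)⟩
  let e2 := MulEquiv.ofBijective π₂ hbij
  let f : G' →* G := π₁.comp e2.symm.toMonoidHom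
  have hf : Function.Surjective f := hsurj1.comp e2.symm.surjective
  rcases (inferInstance : f.ker.Normal).eq_bot_or_eq_top with h | h
  · exact ⟨(MulEquiv.ofBijective f ⟨(MonoidHom.ker_eq_bot_iff f).1 h, hf⟩).symm⟩
  · exfalso
    obtain ⟨y, hy⟩ := hf z
    have hz1 : z = 1 := by rw [← hy]; exact MonoidHom.mem_ker.1 (h ▸ Subgroup.mem_top y)
    exact absurd ((K.dat.eq_one_iff (by norm_num)).1 (K.dat.zc.trans hz1)) (by norm_num)

end CfsgPSp43
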