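import Cfsg.Agent.Lib.U43Type.Tables
import Cfsg.Agent.Lib.PSp43.Data

/-!
Groups with the involution centraliser of PSp₄(3): the model of the centraliser.

A code below 576 is `2 * k + r`, with `k` a code of the central product of two copies of `SL₂(3)` and `r` recording
the exchange of the factors.
-/

set_option autoImplicit false

namespace CfsgPSp43

open CfsgU43Type

/-- The exchange of the factors. -/
def swp (k : ℕ) : ℕ := kc (k % 24) (k / 24)

/-- The action of the representative `r`. -/
def sact (r k : ℕ) : ℕ := if r = 1 then swp k else k

/-- The product in the model. -/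
def mmul (x y : ℕ) : ℕ := 2 * kmul (x / 2) (sact (x % 2) (y / 2)) + (x % 2 + y % 2) % 2

/-- The inverse in the model. -/
def minv (x : ℕ) : ℕ := 2 * sact (x % 2) (kinv (x / 2)) + x % 2

/-- Conjugation in the model. -/
def mconj (g x : ℕ) : ℕ := mmul (mmul g x) (minv g)

/-- Membership in the Sylow subgroup. -/
def inS (x : ℕ) : Bool := x < 576 && inQ (x / 2)

/-- The elementary abelian subgroup of order 16, indexed by bit vectors. -/
def eTab : List ℕ := [0, 24, 1, 25, 50, 74, 51, 75, 100, 124, 101, 125, 150, 174, 151, 175]

/-- The element with index `n`. -/
def el (n : ℕ) : ℕ := eTab.getD n 0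

/-- The indices of the five points. -/
def five : List ℕ := [1, 2, 7, 11, 15]

/-- The element `r`. -/
def rCode : ℕ := 102

/-- The element `v` of order three. -/
def vCode : ℕ := 200

/-- The action of an element on the subgroup of order 16. -/
def act (x : ℕ) : List ℕ := (List.range 16).map fun n => eTab.idxOf (mconj x (el n))

/-- Composition of actions. -/
def comp (f g : List ℕ) : List ℕ := g.map fun k => f.getD k 16

/-- The identical action. -/
def idA : List ℕ := List.range 16

/-- The composition along a word in the given generators. -/
def wordAct (gens : List (List ℕ)) (w : List ℕ) : List ℕ :=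
  w.foldl (fun f i => comp f (gens.getD i idA)) idA

/-- The word gives an action fixing `z` which does not come from the centraliser. -/
def refutes (gens : List (List ℕ)) (w : List ℕ) : Bool :=
  (w.all fun i => decide (i < gens.length)) && ((wordAct gens w).getD 1 0 == 1) && !a4L.contains (wordAct gens w)

/-- The linear action with the given images of the basis. -/
def lin (a b c d : ℕ) : List ℕ :=
  (List.range 16).map fun k =>
    (if k % 2 = 1 then a else 0) ^^^ (if k / 2 % 2 = 1 then b else 0) ^^^ (if k / 4 % 2 = 1 then c else 0) ^^^
      (if k / 8 % 2 = 1 then d else 0)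

end CfsgPSp43
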