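import Cfsg.Agent.Lib.PSp43.CentU

/-!
Groups with the involution centraliser of PSp₄(3): the commutation relation from the centraliser of an element of order
three.
-/

set_option autoImplicit false
set_option maxRecDepth 100000
set_option linter.unusedSectionVars false

namespace CfsgPSp43

open CfsgU43Type

open scoped Pointwise

theorem to_ab : (List.range 12).any (fun i => (List.range 12).any fun j =>
    [[i, 12], [i, 12, j, 12], [12, j, 12], [12, i]].any fun w =>
      (wordAct (a4L ++ [abcA]) w).getD 4 16 == 3) = true := by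
  decide +kernel

theorem l60_ab : l60.all (fun f => comp f (act vCode) != comp (act vCode) f || f.getD 3 16 != 3 ||
    f.getD 1 16 == 1) = true := by
  decide +kernel

theorem cent_v_ab : ∀ x < 576, (mmul x vCode != mmul vCode x || mmul x (el 3) != mmul (el 3) x ||
    (List.range 4).any fun k => [0, vCode, mmul vCode vCode].any fun w => mmul (el k) w == x) = true := by
  decide +kernel

theorem v_facts : mmul vCode (el 1) = mmul (el 1) vCode ∧ mmul vCode (el 2) = mmul (el 2) vCode ∧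
    mmul vCode (mmul vCode vCode) = 0 ∧ mmul 381 546 = mmul 546 381 ∧ mmul 393 vCode = mmul vCode 393 ∧
    mmul 381 381 = 0 ∧ mmul 393 393 = 0 ∧
    mmul (mmul 75 381) (mmul (mmul 75 381) (mmul 75 381)) = 0 ∧
    mmul (mmul 1 393) (mmul (mmul 1 393) (mmul 1 393)) = 0 := by
  decide +kernel

variable {G : Type*} [Group G] {z : G} {φ : ℕ → G} [Finite G] {o : G}

namespace Cfg

variable (K : Cfg z φ o)
include K

/-- The centraliser of `z s` normalises `E`. -/
theorem cent_ab {g : G} (hg : g * e φ 3 = e φ 3 * g) : g ∈ K.dat.N := by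
  have D := K.dat
  obtain ⟨i, hi, h⟩ := List.any_eq_true.1 to_ab
  obtain ⟨j, hj, h⟩ := List.any_eq_true.1 h
  obtain ⟨w, hw, h⟩ := List.any_eq_true.1 h
  rw [List.mem_range] at hi hj
  have hlen : ∀ a ∈ w, a < (a4L ++ [abcA]).length := by
    intro a ha
    simp only [List.mem_cons, List.not_mem_nil, or_false] at hw
    rcases hw with rfl | rfl | rfl | rfl <;>
      simp only [List.mem_cons, List.not_mem_nil, or_false] at ha <;>
      simp only [List.length_append, List.length_cons, List.length_nil, a4L] <;> omega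
  obtain ⟨m, hm⟩ := D.acts_word (gens := a4L ++ [abcA]) (fun f hf => by
    rw [List.mem_append, List.mem_singleton] at hf
    rcases hf with hf | rfl
    · obtain ⟨y, -, hy⟩ := D.a4_acts hf
      exact ⟨_, hy⟩
    · exact ⟨o, K.acts⟩) hlen D.acts_id
  have hmu := (hm.2 4 (by norm_num)).2
  rw [show (List.foldl (fun f i => comp f ((a4L ++ [abcA]).getD i idA)) idA w).getD 4 16 = 3 from beq_iff_eq.1 h] at hmu
  have hmN := D.acts_mem hm
  have hu : m⁻¹ * g * m * φ 50 = φ 50 * (m⁻¹ * g * m) := by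
    rw [show φ 50 = e φ 4 from rfl]
    rw [← hmu] at hg
    calc m⁻¹ * g * m * e φ 4 = m⁻¹ * (g * (m * e φ 4 * m⁻¹)) * m := by group
      _ = m⁻¹ * (m * e φ 4 * m⁻¹ * g) * m := by rw [hg]
      _ = e φ 4 * (m⁻¹ * g * m) := by group
  have := mul_mem (mul_mem hmN (K.centralizer_u hu)) (inv_mem hmN)
  rwa [show m * (m⁻¹ * g * m) * m⁻¹ = g by group] at this

theorem v_cube : φ vCode * (φ vCode * φ vCode) = 1 := by
  rw [← K.dat.mul _ (by decide) _ (by decide), ← K.dat.mul _ (by decide) _ (mmul_lt (by decide) (by decide)),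
    v_facts.2.2.1, K.dat.one]

theorem o_inv_v : o * φ 546 * o⁻¹ = φ vCode := by rw [K.vconj, mul_inv_cancel_right]

/-- The commutation relation. -/
theorem rel : o * φ 381 * o⁻¹ * φ 393 = φ 393 * (o * φ 381 * o⁻¹) := by
  classical
  haveI : Fact (Nat.Prime 2) := ⟨Nat.prime_two⟩
  have D := K.dat
  obtain ⟨v1, v2, -, p546, cv, pp, cc, hx3, hy3⟩ := v_facts
  set v := φ vCode with hv
  set X := Subgroup.centralizer ({v} : Set G) with hX
  have hv3 := K.v_cube
  have hvne : v ≠ 1 := fun h => absurd ((D.eq_one_iff (by decide)).1 h) (by decide)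
  have hvX : v ∈ X := Subgroup.mem_centralizer_singleton_iff.2 rfl
  have hve : ∀ k < 4, v * e φ k = e φ k * v := by
    have h1 : v * e φ 1 = e φ 1 * v := (D.commute_iff (by decide) (el_lt 1)).2 v1
    have h2 : v * e φ 2 = e φ 2 * v := (D.commute_iff (by decide) (el_lt 2)).2 v2
    intro k hk
    interval_cases k
    · rw [D.e_zero, mul_one, one_mul]
    · exact h1
    · exact h2
    · rw [show (3 : ℕ) = 1 ^^^ 2 from rfl, D.e_mul (by norm_num) (by norm_num), ← mul_assoc, h1, mul_assoc, h2,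
        mul_assoc]
  let V : Subgroup G :=
    { carrier := {g | ∃ n < 4, e φ n = g}
      one_mem' := ⟨0, by norm_num, D.e_zero⟩
      mul_mem' := by
        rintro _ _ ⟨a, ha, rfl⟩ ⟨b, hb, rfl⟩
        exact ⟨a ^^^ b, Nat.xor_lt_two_pow (n := 2) ha hb, D.e_mul (by omega) (by omega)⟩
      inv_mem' := by
        rintro _ ⟨a, ha, rfl⟩
        exact ⟨a, ha, eq_inv_of_mul_eq_one_left (D.e_sq (by omega))⟩ }
  have hVE : V ≤ D.E := by rintro _ ⟨n, hn, rfl⟩; exact D.e_mem (by omega)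
  have hV2 : IsPGroup 2 V := (IsPGroup.of_card (n := 4) (by rw [D.card_E]; norm_num) : IsPGroup 2 D.E).to_le hVE
  have hVX : V ≤ X := by
    rintro _ ⟨n, hn, rfl⟩
    exact Subgroup.mem_centralizer_singleton_iff.2 (hve n hn).symm
  have hC3 : ∀ g ∈ X, g * e φ 3 = e φ 3 * g → ∃ k < 4, ∃ w, (w = 1 ∨ w = v ∨ w = v * v) ∧ g = e φ k * w := by
    intro g hgX hg
    have hgN := K.cent_ab hg
    obtain ⟨f, hf⟩ := D.acts_exists hgN
    have hcomm := Subgroup.mem_centralizer_singleton_iff.1 hgX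
    have hfv : comp f (act vCode) = comp (act vCode) f :=
      D.acts_unique (D.acts_mul hf D.acts_v) (hcomm ▸ D.acts_mul D.acts_v hf)
    have h3 : f.getD 3 16 = 3 := D.e_inj (hf.2 3 (by norm_num)).1 (by norm_num)
      ((hf.2 3 (by norm_num)).2.symm.trans (mul_inv_eq_iff_eq_mul.2 hg))
    have h := List.all_eq_true.1 l60_ab f (D.acts_l60 K.orb hf)
    simp only [Bool.or_eq_true, bne_iff_ne, beq_iff_eq, ne_eq, hfv, h3, not_true, false_or] at h
    have hz := (hf.2 1 (by norm_num)).2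
    rw [h, D.e_one] at hz
    obtain ⟨x, hx, rfl⟩ := (D.cent g).1 (mul_inv_eq_iff_eq_mul.1 hz)
    have hc := cent_v_ab x hx
    simp only [Bool.or_eq_true, bne_iff_ne, ne_eq, (D.commute_iff hx (by decide)).1 hcomm,
      (D.commute_iff hx (el_lt 3)).1 hg, not_true, false_or, List.any_eq_true, List.mem_range, beq_iff_eq] at hc
    obtain ⟨k, hk, w, hw, hkw⟩ := hc
    refine ⟨k, hk, φ w, ?_, ?_⟩
    · simp only [List.mem_cons, List.not_mem_nil, or_false] at hw
      rcases hw with rfl | rfl | rfl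
      exacts [Or.inl D.one, Or.inr (Or.inl rfl), Or.inr (Or.inr (D.mul _ (by decide) _ (by decide)))]
    · have hw' : w < 576 := by
        simp only [List.mem_cons, List.not_mem_nil, or_false] at hw
        rcases hw with rfl | rfl | rfl
        exacts [by norm_num, by decide, mmul_lt (by decide) (by decide)]
      rw [← hkw, D.mul _ (el_lt k) _ hw']
      rfl
  have hfix3 : ∀ n, (∀ y ∈ V, n * y * n⁻¹ ∈ V) → n * e φ 3 = e φ 3 * n := by
    intro n hn
    obtain ⟨k, hk, he⟩ := hn _ ⟨3, by norm_num, rfl⟩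
    have hk3 : k = 3 := by
      interval_cases k
      · exact absurd (D.e_inj (a := 3) (b := 0) (by norm_num) (by norm_num) (by
          rw [D.e_zero] at he ⊢
          calc e φ 3 = n⁻¹ * (n * e φ 3 * n⁻¹) * n := by group
            _ = 1 := by rw [← he]; group)) (by norm_num)
      · exfalso
        refine absurd (K.fused_five (k := 3) (by norm_num) (g := n⁻¹) ?_) (by decide)
        rw [← D.e_one, he]; group
      · exfalso
        have h1 := (K.acts.2 1 (by norm_num)).2
        rw [show abcA.getD 1 16 = 2 from rfl, D.e_one, he] at h1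
        refine absurd (K.fused_five (k := 3) (by norm_num) (g := n⁻¹ * o) ?_) (by decide)
        rw [show n⁻¹ * o * z * (n⁻¹ * o)⁻¹ = n⁻¹ * (o * z * o⁻¹) * n by group, h1]; group
      · rfl
    rw [hk3] at he
    exact mul_inv_eq_iff_eq_mul.1 he.symm
  have hVmax : ∀ R : Subgroup G, IsPGroup 2 R → R ≤ X → V ≤ R → R = V := by
    intro R hR hRX hle
    by_contra hne
    obtain ⟨n, hnR, hnV, hn⟩ := exists_normalizing hR hle (Ne.symm hne)
    obtain ⟨k, hk, w, hw, rfl⟩ := hC3 n (hRX hnR) (hfix3 n fun y hy => (hn y).1 hy)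
    have hwR : w ∈ R := by
      have := mul_mem (inv_mem (hle ⟨k, hk, rfl⟩ : e φ k ∈ R)) hnR
      rwa [inv_mul_cancel_left] at this
    have hw3 : w * (w * w) = 1 := by
      rcases hw with rfl | rfl | rfl
      · simp
      · exact hv3
      · calc v * v * (v * v * (v * v)) = v * (v * v) * (v * (v * v)) := by group
          _ = 1 := by rw [hv3, one_mul]
    exact hnV (by rw [K.no_three hw3 hR hwR, mul_one]; exact ⟨k, hk, rfl⟩)
  let VX : Sylow 2 X :=
    { V.subgroupOf X with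
      isPGroup' := hV2.of_equiv (Subgroup.subgroupOfEquivOfLe hVX).symm
      is_maximal' := fun {R} hR hle' => by
        have h := hVmax (R.map X.subtype) (hR.map _) (fun _ ⟨y, _, hy⟩ => hy ▸ y.2)
          (fun x hx => ⟨⟨x, hVX hx⟩, hle' hx, rfl⟩)
        refine le_antisymm (fun x hx => ?_) hle'
        show (x : G) ∈ V
        rw [← h]
        exact ⟨x, hx, rfl⟩ }
  have hcen : Subgroup.normalizer ((VX : Subgroup X) : Set X) ≤ Subgroup.centralizer ((VX : Subgroup X) : Set X) := by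
    intro n hn
    obtain ⟨k, hk, w, hw, hne⟩ := hC3 n n.2 (hfix3 n fun y hy =>
      (Subgroup.mem_normalizer_iff.1 hn ⟨y, hVX hy⟩).1 hy)
    intro y hy
    refine Subtype.ext ?_
    obtain ⟨m, hm, hme⟩ := (hy : (y : G) ∈ V)
    show (y : G) * n = n * (y : G)
    rw [show (y : G) = e φ m from hme.symm, hne]
    have hwm : w * e φ m = e φ m * w := by
      rcases hw with rfl | rfl | rfl
      · simp
      · exact hve m hm
      · rw [mul_assoc, hve m hm, ← mul_assoc, hve m hm, mul_assoc]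
    rw [mul_assoc (e φ k), hwm, ← mul_assoc, ← mul_assoc, D.e_comm (show m < 16 by omega) (show k < 16 by omega)]
  let tr := MonoidHom.transferSylow VX hcen
  let K0 : Subgroup X := tr.ker
  have hK0 : K0.IsComplement' (VX : Subgroup X) := MonoidHom.ker_transferSylow_isComplement' VX hcen
  have hodd : Odd (Nat.card K0) := by
    rw [← hK0.index_eq_card, Nat.odd_iff, ← Nat.two_dvd_ne_zero]
    exact VX.not_dvd_index
  have hthree : ∀ a : X, (a : G) * ((a : G) * a) = 1 → a ∈ K0 := by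
    intro a ha
    show tr a = 1
    have h : tr a * (tr a * tr a) = 1 := by
      rw [← map_mul, ← map_mul, show a * (a * a) = 1 from Subtype.ext ha, map_one]
    exact Subtype.ext (Subtype.ext (K.no_three (by
      have := congrArg (fun a : ↥(VX : Subgroup X) => ((a : X) : G)) h
      simpa using this) hV2 ((tr a).2 : ((tr a : X) : G) ∈ V)))
  have hvK0 : (⟨v, hvX⟩ : X) ∈ K0 := hthree _ hv3
  -- fixed points of the conjugation by `z s`
  let t : X := ⟨e φ 3, hVX ⟨3, by norm_num, rfl⟩⟩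
  let τ : K0 →* K0 := (MulAut.conjNormal t).toMonoidHom
  have hτ : ∀ k : K0, ((τ k : X) : G) = e φ 3 * ((k : X) : G) * (e φ 3)⁻¹ := fun k => rfl
  let vK : K0 := ⟨⟨v, hvX⟩, hvK0⟩
  let Z := Subgroup.zpowers vK
  have hZ : ∀ {a : K0}, a ∈ Z → ((a : X) : G) ∈ Subgroup.zpowers v := by
    rintro a ⟨i, rfl⟩
    exact ⟨i, by simp [vK]⟩
  haveI hZn : Z.Normal := ⟨fun a ha b => by
    have hcb := Subgroup.mem_centralizer_singleton_iff.1 ((b : X)).2
    have hab : b * a * b⁻¹ = a := by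
      obtain ⟨i, rfl⟩ := ha
      refine mul_inv_eq_iff_eq_mul.2 ?_
      refine ((Commute.zpow_right (?_ : Commute b vK) i)).eq
      exact Subtype.ext (Subtype.ext hcb)
    rw [hab]; exact ha⟩
  have hτv : τ vK = vK := Subtype.ext (Subtype.ext (by
    rw [hτ]
    exact mul_inv_eq_iff_eq_mul.2 (hve 3 (by norm_num)).symm))
  have hZτ : Z ≤ Z.comap τ := by
    rintro a ⟨i, rfl⟩
    exact ⟨i, by rw [map_zpow, hτv]⟩
  have h33 : e φ 3 * e φ 3 = 1 := D.e_sq (by norm_num)
  have hττ : Function.Involutive τ := fun k => Subtype.ext (Subtype.ext (by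
    rw [hτ, hτ, show e φ 3 * (e φ 3 * ((k : X) : G) * (e φ 3)⁻¹) * (e φ 3)⁻¹ =
      (e φ 3 * e φ 3) * ((k : X) : G) * (e φ 3 * e φ 3)⁻¹ by group, h33]
    group))
  let τq : K0 ⧸ Z →* K0 ⧸ Z := QuotientGroup.map Z Z τ hZτ
  have hfree : MonoidHom.FixedPointFree τq := by
    intro a ha
    obtain ⟨k, rfl⟩ := QuotientGroup.mk'_surjective Z a
    obtain ⟨i, hi⟩ : k⁻¹ * τ k ∈ Z := QuotientGroup.eq.1 (show ((k : K0) : K0 ⧸ Z) = (τ k : K0 ⧸ Z) from ha.symm)
    have hi' : vK ^ i = k⁻¹ * τ k := hi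
    have h1 : τ k = k * vK ^ i := by rw [hi', mul_inv_cancel_left]
    have h2 : k = k * (vK ^ i * vK ^ i) := by
      conv_lhs => rw [← hττ k, h1, map_mul, map_zpow, hτv, h1, mul_assoc]
    have h4 : vK ^ i = 1 := by
      have h5 : (vK ^ i) ^ 2 = 1 := by rw [sq]; exact mul_eq_left.1 h2.symm
      exact orderOf_eq_one_iff.1 (Nat.eq_one_of_dvd_coprimes (Nat.coprime_two_left.2 hodd)
        (orderOf_dvd_of_pow_eq_one h5) (orderOf_dvd_natCard _))
    rw [h4, mul_one] at h1
    have hk : ((k : X) : G) * e φ 3 = e φ 3 * ((k : X) : G) := by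
      have := congrArg (fun a : K0 => ((a : X) : G)) h1
      simp only [hτ] at this
      exact (mul_inv_eq_iff_eq_mul.1 this).symm
    obtain ⟨m, hm, w, hw, hkw⟩ := hC3 _ (k : X).2 hk
    obtain ⟨w', hw'e, hw'Z⟩ : ∃ w' : K0, ((w' : X) : G) = w ∧ w' ∈ Z := by
      rcases hw with rfl | rfl | rfl
      exacts [⟨1, rfl, one_mem _⟩, ⟨vK, rfl, Subgroup.mem_zpowers _⟩,
        ⟨vK * vK, rfl, mul_mem (Subgroup.mem_zpowers _) (Subgroup.mem_zpowers _)⟩]
    have hkZ : k * w'⁻¹ = 1 := by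
      have hem : (((k * w'⁻¹ : K0) : X) : G) = e φ m := by
        simp only [Subgroup.coe_mul, Subgroup.coe_inv, hw'e, hkw, mul_inv_cancel_right]
      have h5 : (k * w'⁻¹) ^ 2 = 1 := Subtype.ext (Subtype.ext (by
        rw [sq]
        show (((k * w'⁻¹ : K0) : X) : G) * (((k * w'⁻¹ : K0) : X) : G) = 1
        rw [hem]
        exact D.e_sq (show m < 16 by omega)))
      exact orderOf_eq_one_iff.1 (Nat.eq_one_of_dvd_coprimes (Nat.coprime_two_left.2 hodd)
        (orderOf_dvd_of_pow_eq_one h5) (orderOf_dvd_natCard _))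
    rw [QuotientGroup.mk'_apply, QuotientGroup.eq_one_iff, mul_inv_eq_one.1 hkZ]
    exact hw'Z
  have hinvol : Function.Involutive τq := by
    intro a
    obtain ⟨k, rfl⟩ := QuotientGroup.mk'_surjective Z a
    show ((τ (τ k) : K0) : K0 ⧸ Z) = k
    rw [hττ k]
  -- the two elements of order three
  set x := o * φ 381 * o⁻¹ with hx
  have hoz : o⁻¹ * z * o = φ 75 := by
    have h := (K.acts.2 7 (by norm_num)).2
    rw [show abcA.getD 7 16 = 1 from rfl, D.e_one] at h
    rw [← h, show e φ 7 = φ 75 from rfl]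
    group
  have hx_v : x * v = v * x := by
    rw [hv, ← K.o_inv_v, hx, show o * φ 381 * o⁻¹ * (o * φ 546 * o⁻¹) = o * (φ 381 * φ 546) * o⁻¹ by group,
      (D.commute_iff (by norm_num) (by norm_num)).2 p546]
    group
  have hxx : x * x = 1 := by
    rw [hx, show o * φ 381 * o⁻¹ * (o * φ 381 * o⁻¹) = o * (φ 381 * φ 381) * o⁻¹ by group,
      (D.sq_iff (by norm_num)).2 pp]
    group
  set c := φ 393 with hc
  have hcc : c * c = 1 := (D.sq_iff (by norm_num)).2 cc
  have hcv : c * v = v * c := (D.commute_iff (by norm_num) (by decide)).2 cv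
  have hzX : z ∈ X := hVX ⟨1, by norm_num, D.e_one⟩
  have hbX : e φ 2 ∈ X := hVX ⟨2, by norm_num, rfl⟩
  have hxX : x ∈ X := Subgroup.mem_centralizer_singleton_iff.2 hx_v
  have hcX : c ∈ X := Subgroup.mem_centralizer_singleton_iff.2 hcv
  let k : K0 := ⟨⟨z * x, mul_mem hzX hxX⟩, hthree _ (by
    show z * x * (z * x * (z * x)) = 1
    have e1 : z * x = o * (φ 75 * φ 381) * o⁻¹ := by rw [hx, ← hoz]; group
    rw [e1, ← D.mul _ (by norm_num) _ (by norm_num),
      show o * φ (mmul 75 381) * o⁻¹ * (o * φ (mmul 75 381) * o⁻¹ * (o * φ (mmul 75 381) * o⁻¹)) =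
        o * (φ (mmul 75 381) * (φ (mmul 75 381) * φ (mmul 75 381))) * o⁻¹ by group,
      ← D.mul _ (mmul_lt (by norm_num) (by norm_num)) _ (mmul_lt (by norm_num) (by norm_num)),
      ← D.mul _ (mmul_lt (by norm_num) (by norm_num)) _
        (mmul_lt (mmul_lt (by norm_num) (by norm_num)) (mmul_lt (by norm_num) (by norm_num))), hx3, D.one]
    group)⟩
  let l : K0 := ⟨⟨e φ 2 * c, mul_mem hbX hcX⟩, hthree _ (by
    show φ 1 * φ 393 * (φ 1 * φ 393 * (φ 1 * φ 393)) = 1
    rw [← D.mul _ (by norm_num) _ (by norm_num),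
      ← D.mul _ (mmul_lt (by norm_num) (by norm_num)) _ (mmul_lt (by norm_num) (by norm_num)),
      ← D.mul _ (mmul_lt (by norm_num) (by norm_num)) _
        (mmul_lt (mmul_lt (by norm_num) (by norm_num)) (mmul_lt (by norm_num) (by norm_num))), hy3, D.one])⟩
  -- conjugation by `z` and by `s`
  let cz : K0 →* K0 := (MulAut.conjNormal (⟨z, hzX⟩ : X)).toMonoidHom
  let cb : K0 →* K0 := (MulAut.conjNormal (⟨e φ 2, hbX⟩ : X)).toMonoidHom
  have hcz : ∀ a : K0, ((cz a : X) : G) = z * ((a : X) : G) * z⁻¹ := fun a => rfl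
  have hcb : ∀ a : K0, ((cb a : X) : G) = e φ 2 * ((a : X) : G) * (e φ 2)⁻¹ := fun a => rfl
  have hzz := D.zz
  have hbb : e φ 2 * e φ 2 = 1 := D.e_sq (by norm_num)
  have hzinv : z⁻¹ = z := (eq_inv_of_mul_eq_one_left hzz).symm
  have hbinv : (e φ 2)⁻¹ = e φ 2 := (eq_inv_of_mul_eq_one_left hbb).symm
  have hxinv : x⁻¹ = x := (eq_inv_of_mul_eq_one_left hxx).symm
  have hcinv : c⁻¹ = c := (eq_inv_of_mul_eq_one_left hcc).symm
  have hzb : z * e φ 2 = e φ 2 * z := by rw [← D.e_one]; exact D.e_comm (by norm_num) (by norm_num)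
  have h3 : e φ 3 = z * e φ 2 := by rw [← D.e_one, ← D.e_mul (by norm_num) (by norm_num)]; rfl
  have hcomp : ∀ a : K0, cb (cz a) = τ a ∧ cz (cb a) = τ a := fun a => by
    constructor <;> refine Subtype.ext (Subtype.ext ?_)
    · rw [hcb, hcz, hτ, h3, hzb]; group
    · rw [hcz, hcb, hτ, h3]
      group
  have hk : cz k = k⁻¹ := Subtype.ext (Subtype.ext (by
    show z * (z * x) * z⁻¹ = (z * x)⁻¹
    rw [mul_inv_rev, hxinv, hzinv, ← mul_assoc z z x, hzz, one_mul]))
  have hl : cb l = l⁻¹ := Subtype.ext (Subtype.ext (by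
    show e φ 2 * (e φ 2 * c) * (e φ 2)⁻¹ = (e φ 2 * c)⁻¹
    rw [mul_inv_rev, hcinv, hbinv, ← mul_assoc (e φ 2) (e φ 2) c, hbb, one_mul]))
  have hτinv : ∀ a : K0, ((τ a : K0) : K0 ⧸ Z) = (a : K0 ⧸ Z)⁻¹ := fun a =>
    congrFun (hfree.coe_eq_inv_of_involutive hinvol) (a : K0 ⧸ Z)
  have hk1 : ((cb k : K0) : K0 ⧸ Z) = k := by
    have := hτinv k⁻¹
    rw [← (hcomp k⁻¹).1, map_inv cz, hk, inv_inv] at this
    rw [this, QuotientGroup.mk_inv, inv_inv]
  have hl1 : ((cz l : K0) : K0 ⧸ Z) = l := by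
    have := hτinv l⁻¹
    rw [← (hcomp l⁻¹).2, map_inv cb, hl, inv_inv] at this
    rw [this, QuotientGroup.mk_inv, inv_inv]
  obtain ⟨i, hi⟩ : cb k * l * (cz l * k)⁻¹ ∈ Z := by
    rw [← QuotientGroup.eq_one_iff, QuotientGroup.mk_mul, QuotientGroup.mk_mul, QuotientGroup.mk_inv,
      QuotientGroup.mk_mul, hk1, hl1, hfree.commute_all_of_involutive hinvol (k : K0 ⧸ Z) (l : K0 ⧸ Z),
      mul_inv_cancel]
  set b := e φ 2 with hb
  have hvi : v ^ i = b * (z * x) * b⁻¹ * (b * c) * (z * (b * c) * z⁻¹ * (z * x))⁻¹ := by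
    have := congrArg (fun a : K0 => ((a : X) : G)) hi
    rw [Subgroup.coe_zpow, Subgroup.coe_zpow] at this
    exact this
  set q := x * c * x⁻¹ * c⁻¹ with hq
  have hvq : v ^ i = b * z * q * b⁻¹ * z⁻¹ := by rw [hvi, hq]; group
  have hvc : Commute (b * z) (v ^ i) := by
    refine Commute.zpow_right ?_ i
    have h1 : v * z = z * v := by have := hve 1 (by norm_num); rwa [D.e_one] at this
    exact (Commute.mul_right (hve 2 (by norm_num) : Commute v b) h1).symm
  have hqv : q = v ^ i := by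
    have e1 : (b * z)⁻¹ * v ^ i * (b * z) = v ^ i := by rw [mul_assoc, ← hvc.eq, inv_mul_cancel_left]
    rw [← e1]
    conv_rhs => rw [hvq, ← hzb]
    group
  have hqq : q * q = 1 := by
    have e1 : x * q * x⁻¹ = q := by
      rw [hqv, ((show Commute x v from hx_v).zpow_right i).eq, mul_inv_cancel_right]
    have e2 : x * q * x⁻¹ = q⁻¹ := by
      rw [hq, hxinv, hcinv]
      refine eq_inv_of_mul_eq_one_left ?_
      have m1 : ∀ a : G, x * (x * a) = a := fun a => by rw [← mul_assoc, hxx, one_mul]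
      have m2 : ∀ a : G, c * (c * a) = a := fun a => by rw [← mul_assoc, hcc, one_mul]
      simp only [mul_assoc, m1, m2, hxx, hcc]
    rw [e1] at e2
    nth_rewrite 2 [e2]
    rw [mul_inv_cancel]
  have hq3 : q * (q * q) = 1 := by
    have hv3' : v ^ (3 : ℤ) = 1 := by
      rw [show (3 : ℤ) = ((3 : ℕ) : ℤ) from rfl, zpow_natCast, pow_succ', pow_two]; exact hv3
    rw [hqv, ← zpow_add, ← zpow_add, show i + (i + i) = 3 * i by ring, zpow_mul, hv3', one_zpow]
  rw [hqq, mul_one] at hq3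
  rw [hq, mul_inv_eq_one, mul_inv_eq_iff_eq_mul] at hq3
  exact hq3

end Cfg

end CfsgPSp43
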